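import Cfsg.Agent.Lib.Solv.CopPair.Pair

/-!
The step from a fixed space on which the layer is scalar.
-/

set_option autoImplicit false
set_option linter.unusedSectionVars false
set_option linter.style.haveILetI false
set_option maxHeartbeats 800000

namespace Cfsg.Agent.Solv.CopPair

universe u v

variable {K : Type u} [Field K] {V : Type v} [AddCommGroup V] [Module K V]

theorem ne_of_scalar {E : Subgroup (V ≃ₗ[K] V)} (hsc : ∀ a ∈ E, IsSc a) (u : V) : NE E u :=
  fun a ha _ _ => hsc a ha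

/-- An element whose fixing kills every endomorphism of the field. -/
def Gen (t : K) : Prop := ∀ σ : K →+* K, σ t = t → ∀ k, σ k = k

theorem gen_of_powers {t : K} (ht : ∀ k : K, k ≠ 0 → ∃ n : ℕ, k = t ^ n) : Gen t := by
  intro σ h k
  rcases eq_or_ne k 0 with rfl | hk
  · exact map_zero σ
  obtain ⟨n, rfl⟩ := ht k hk
  rw [map_pow, h]

theorem gen_sq {t : K} (ht : ∀ k : K, k ≠ 0 → ∃ n : ℕ, k = t ^ n) (h2 : (2 : K) ≠ 0) (h1 : t ≠ -1)
    (h0 : t ≠ 0) : Gen (t * t) := by
  intro σ h k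
  rw [map_mul] at h
  rcases mul_self_eq_mul_self_iff.1 h with h | h
  · exact gen_of_powers ht σ h k
  exfalso
  obtain ⟨n, hn⟩ := ht (t + 1) fun h => h1 (eq_neg_of_add_eq_zero_left h)
  have h3 : σ (t + 1) = (-1) ^ n * (t + 1) := by
    conv_lhs => rw [hn]
    rw [map_pow, h, neg_pow, ← hn]
  rw [map_add, h, map_one] at h3
  rcases neg_one_pow_eq_or K n with h4 | h4
  · rw [h4, one_mul] at h3
    exact mul_ne_zero h2 h0 (by linear_combination -h3)
  · rw [h4] at h3
    exact h2 (by linear_combination h3)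

theorem stab_scalar {E : Subgroup (V ≃ₗ[K] V)} (hsc : ∀ a ∈ E, IsSc a) {t : K} (ht : Gen t) {u : V}
    (hu : u ≠ 0) : Stab E u (t • u) := by
  intro g hg _ hgu hgt
  choose σ hσ using hg
  have hval : ∀ k, σ k • u = g (k • u) := fun k => by rw [hσ, hgu]
  let σ' : K →+* K :=
    { toFun := σ
      map_one' := eq_smul_of_smul hu (by rw [hval, one_smul, hgu])
      map_mul' := fun a b => eq_smul_of_smul hu (by
        rw [hval, mul_smul, hσ, mul_smul, hval])
      map_zero' := eq_smul_of_smul hu (by rw [hval, zero_smul, map_zero])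
      map_add' := fun a b => eq_smul_of_smul hu (by
        rw [hval, add_smul, map_add, add_smul, hval, hval]) }
  have hid : ∀ k, σ k = k := fun k => ht σ' (eq_smul_of_smul hu (by
    show σ t • u = t • u
    rw [hval, hgt])) k
  have hlin : ∀ (k : K) x, g (k • x) = k • g x := fun k x => by rw [hσ, hid]
  refine ⟨hlin, fun a ha x => ?_⟩
  obtain ⟨c, hc⟩ := hsc a ha
  rw [hc, hc, hlin]

namespace Split

variable [Finite V] [Nontrivial V] {E : Subgroup (V ≃ₗ[K] V)} {z e : V ≃ₗ[K] V} {l : ℕ} {ω : K}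

/-- The pair built on a scalar fixed space. -/
theorem base_pair (hs : Split E z e l ω) (hE : Layer E) (hsc : ∀ a ∈ sub0 E z, IsSc a)
    {u₀ : X0 z} (hu : u₀ ≠ 0) {γ : K} (hγ : ∀ k : K, k ≠ 0 → ∃ n : ℕ, k = γ ^ n) (hγ3 : γ ^ 3 ≠ 1) (h2 : (2 : K) ≠ 0) :
    ∃ x, Stab E x (u₀ : V) ∧ (γ ^ 4 ≠ 1 → Good E x (u₀ : V)) := by
  classical
  haveI := hs.neZero
  have hγ0 : γ ≠ 0 := by
    intro h
    obtain ⟨n, hn⟩ := hγ ω hs.ω_ne_zero
    rcases Nat.eq_zero_or_pos n with rfl | hn'
    · exact hs.ω_ne_one (by rw [hn, pow_zero])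
    · exact hs.ω_ne_zero (by rw [hn, h, zero_pow hn'.ne'])
  have hscal : ∀ b ∈ cz E z, ∃ d : K, ∀ x, z x = x → b x = d • x := by
    intro b hb
    obtain ⟨d, hd⟩ := hsc _ (mem_sub0 hb)
    exact ⟨d, fun x hx => congrArg Subtype.val (hd ⟨x, hx⟩)⟩
  obtain ⟨R, hR⟩ := hscal _ hs.pow_e_cz
  have hu0 : (u₀ : V) ≠ 0 := coe_ne_zero' hu
  have hR0 : R ≠ 0 := fun h => apply_ne_zero (e ^ l) hu0 (by rw [hR _ u₀.2, h, zero_smul])
  -- the two coefficients
  obtain ⟨t, ht, ht2, ht0⟩ : ∃ t : K, Gen t ∧ (γ ^ 4 ≠ 1 → t * t ≠ R ∧ t * t ≠ -R) ∧ t ≠ 0 := by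
    by_cases h : γ * γ ≠ R ∧ γ * γ ≠ -R
    · exact ⟨γ, gen_of_powers hγ, fun _ => h, hγ0⟩
    by_cases h4 : γ ^ 4 = 1
    · exact ⟨γ, gen_of_powers hγ, fun h' => absurd h4 h', hγ0⟩
    refine ⟨γ * γ, gen_sq hγ h2 (fun he => h4 (by rw [he]; norm_num)) hγ0,
      fun _ => ?_, mul_ne_zero hγ0 hγ0⟩
    rw [not_and_or, not_not, not_not] at h
    have key : γ * γ * (γ * γ) ≠ γ * γ ∧ γ * γ * (γ * γ) ≠ -(γ * γ) := by
      refine ⟨fun he => ?_, fun he => ?_⟩
      · have h5 : γ * γ = 1 := mul_left_cancel₀ (mul_ne_zero hγ0 hγ0) (by rw [mul_one]; exact he)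
        exact h4 (by linear_combination (γ * γ + 1) * h5)
      · have h5 : γ * γ = -1 := mul_left_cancel₀ (mul_ne_zero hγ0 hγ0) (by rw [mul_neg_one]; exact he)
        exact h4 (by linear_combination (γ * γ - 1) * h5)
    rcases h with h | h
    · rw [← h]; exact key
    · rw [show R = -(γ * γ) by rw [h, neg_neg], neg_neg]; exact ⟨key.2, key.1⟩
  obtain ⟨t', ht'0, ht'3⟩ : ∃ t' : K, t' ≠ 0 ∧ t' ^ 3 * R ≠ 1 := by
    by_cases h : R = 1
    · exact ⟨γ, hγ0, by rwa [h, mul_one]⟩
    · exact ⟨1, one_ne_zero, by rwa [one_pow, one_mul]⟩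
  obtain ⟨v, hv⟩ : ∃ v : X0 z, v = t • u₀ := ⟨_, rfl⟩
  obtain ⟨w, hw⟩ : ∃ w : X0 z, w = if l = 2 then 0 else t' • u₀ := ⟨_, rfl⟩
  have hw2 : l = 2 → w = 0 := fun h => by rw [hw, if_pos h]
  have hwt : l ≠ 2 → (w : V) = t' • (u₀ : V) := fun h => by rw [hw, if_neg h]; rfl
  have hvt : (v : V) = t • (u₀ : V) := by rw [hv]; rfl
  have hv0 : v ≠ 0 := fun h => by rw [hv] at h; exact smul_ne_zero ht0 hu h
  have hne := ne_of_scalar hsc u₀
  have hSt : Stab E (u₀ : V) (comb e u₀ v w) := by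
    refine hs.stab hE hu hne (hv ▸ stab_scalar hsc ht hu) hw2 (fun h h0 => ?_) ?_ ?_
    · have := hwt h
      rw [h0] at this
      exact smul_ne_zero ht'0 hu0 this.symm
    · rcases eq_or_ne l 2 with h | h
      · exact ⟨0, 0, by rw [hw2 h]; simp⟩
      · exact ⟨t', 0, by rw [hwt h, zero_smul, add_zero]⟩
    · intro hl3 a ha h1 h2 h3
      subst hl3
      rw [hwt (by decide)] at h1 h2
      obtain ⟨i, hi, b, hb, rfl⟩ := hs.decomp hE ha
      obtain ⟨d, hd⟩ := hscal b hb
      obtain ⟨c, hc⟩ := hE.comm b hb.1 e hs.he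
      have hbu : b (u₀ : V) = d • (u₀ : V) := hd _ u₀.2
      have h4 := hs.pow_e_comm i (b (u₀ : V))
      rw [hb.2, mem_X0.1 u₀.2] at h4
      change (e ^ i) (b (u₀ : V)) = _ at h1
      rw [h1, map_smul, map_smul, map_smul, hs.e2_eigen u₀, smul_smul, smul_smul] at h4
      have hi2 : i = 2 := hs.root.pow_inj hi (by omega) (by
        have := eq_smul_of_smul (apply_ne_zero e (apply_ne_zero e hu0)) h4
        rw [pow_two]
        exact (mul_left_cancel₀ ht'0 (this.trans (mul_comm _ _))).symm)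
      subst hi2
      change e (e (b (u₀ : V))) = _ at h1
      have hdt : d = t' := by
        rw [hbu, map_smul, map_smul, map_smul, map_smul] at h1
        exact eq_smul_of_smul (apply_ne_zero e (apply_ne_zero e hu0)) h1
      have hR' : e (e (e (u₀ : V))) = R • (u₀ : V) := hR _ u₀.2
      have haeu : (e ^ 2 * b) (e (u₀ : V)) = (c * t' * R) • (u₀ : V) := by
        show e (e (b (e (u₀ : V)))) = _
        rw [hc, hbu, map_smul, map_smul, map_smul, map_smul, map_smul, hR', hdt, smul_smul, smul_smul]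
      have h5 : t' • (e ^ 2 * b) ((e ^ 2 * b) (u₀ : V)) = e (u₀ : V) := by
        rw [← map_smul, ← map_smul]; exact h2
      have h6 : t' • (e ^ 2 * b) ((e ^ 2 * b) ((e ^ 2 * b) (u₀ : V))) = (c * t' * R) • (u₀ : V) := by
        rw [← map_smul, h5, haeu]
      rw [h3, hR', smul_smul] at h6
      have hc1 : c = 1 := mul_right_cancel₀ (mul_ne_zero ht'0 hR0) (by
        rw [one_mul, ← mul_assoc]; exact (eq_smul_of_smul hu0 h6).symm)
      have hbe : ∀ y, b (e y) = e (b y) := fun y => by rw [hc, hc1, one_smul]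
      have h7 : (t' * t' * t' * R) • e (u₀ : V) = (1 : K) • e (u₀ : V) := by
        rw [one_smul]
        conv_rhs => rw [← h5]
        show _ = t' • e (e (b (e (e (b (u₀ : V))))))
        rw [hbe, hbe, hbu, hdt]
        simp only [map_smul]
        rw [hbu, hdt]
        simp only [map_smul]
        rw [hR', map_smul]
        simp only [smul_smul, mul_assoc]
      exact ht'3 (by rw [← eq_smul_of_smul (apply_ne_zero e hu0) h7]; ring)
  refine ⟨comb e u₀ v w, hSt.symm, fun h4 => ⟨hs.comb_ne_zero hu, hu0, ?_,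
    hs.comb_orb hE hu hv0 hw2, hSt.symm⟩⟩
  intro a ha μ heq
  rcases hs.ne_cases hE hu hv0 hne hw2 ha heq with h | ⟨hμ0, i, hi, hi0, b, hb, hab, hcomp, hi1⟩
  · exact h
  exfalso
  obtain ⟨d, hd⟩ := hscal b hb
  obtain ⟨c, hc⟩ := hE.comm b hb.1 e hs.he
  have hbu : b (u₀ : V) = d • (u₀ : V) := hd _ u₀.2
  have hd0 : d ≠ 0 := fun h => apply_ne_zero b hu0 (by rw [hbu, h, zero_smul])
  have hcl : c ^ l = 1 := hs.comm_e_root hb hc hu0 (by rw [hR _ u₀.2, map_smul, hbu, map_smul, hR _ u₀.2,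
    smul_comm])
  have hlK : (l : K) ≠ 0 := hs.root.neZero'.out
  have hcancel : ∀ {x y : V}, (l : K) • x = (l : K) • y → x = y := fun h =>
    smul_right_injective V hlK h
  -- the first component
  have e0 := hcomp 1
  rw [mul_one, hs.proj_zero_comb hw2, hab, map_smul] at e0
  -- the middle component
  have e1 := hcomp ω
  rw [hs.proj_one_comb, hab, map_smul] at e1
  rcases eq_or_ne l 2 with hl2 | hl2
  · subst hl2
    have hi1 : i = 1 := by omega
    subst hi1
    rw [pow_one e, pow_one ω, hs.proj_one_comb, smul_comm μ] at e0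
    have e0' := hcancel e0
    rw [pow_one e, pow_one ω, ← pow_two ω, hs.root.pow_eq_one, hs.proj_zero_comb hw2, smul_comm μ] at e1
    have e1' := hcancel e1
    change e (b (e (u₀ : V))) = _ at e1'
    change e (b (v : V)) = _ at e0'
    rw [hvt, map_smul, hbu, smul_smul, map_smul] at e0'
    have hμ : t * d = μ := eq_smul_of_smul (apply_ne_zero e hu0) e0'
    have hR' : e (e (u₀ : V)) = R • (u₀ : V) := hR _ u₀.2
    rw [hc, hbu, map_smul, map_smul, map_smul, hR', hvt, smul_smul, smul_smul, smul_smul] at e1'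
    have hμ2 : c * d * R = μ * t := eq_smul_of_smul hu0 e1'
    have hR2 : c * R = t * t := mul_left_cancel₀ hd0 (by rw [← hμ] at hμ2; linear_combination hμ2)
    obtain ⟨h1, h2⟩ := ht2 h4
    rw [pow_two, mul_self_eq_one_iff] at hcl
    rcases hcl with rfl | rfl
    · exact h1 (by rw [← hR2, one_mul])
    · exact h2 (by rw [← hR2, neg_one_mul])
  have e2 := hcomp (ω * ω)
  rw [hs.proj_two_comb hl2, hab, map_smul] at e2
  have hωp : ∀ j, ω ^ j * ω = ω ^ (j + 1) := fun j => (pow_succ ω j).symm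
  have hωpp : ∀ j, ω ^ j * (ω * ω) = ω ^ (j + 2) := fun j => by rw [pow_add, pow_two]
  have h3l : 3 ≤ l := by
    have := hs.hl.two_le
    omega
  have hw0 : (w : V) ≠ 0 := by rw [hwt hl2]; exact smul_ne_zero ht'0 hu0
  rcases Nat.lt_or_ge 3 l with hl4 | hl3
  · rcases hi1 with rfl | rfl
    · rw [hωpp, hs.proj_high_comb (by omega) (by omega), smul_zero] at e2
      exact smul_ne_zero hlK (apply_ne_zero (e ^ 1 * b) (apply_ne_zero e (apply_ne_zero e hw0))) e2
    · rw [hs.proj_high_comb (by omega) (by omega), smul_zero] at e0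
      exact smul_ne_zero hlK (apply_ne_zero (e ^ (l - 1) * b) (coe_ne_zero' hv0)) e0
  obtain rfl : l = 3 := by omega
  have hω3 : ω ^ 3 = 1 := hs.root.pow_eq_one
  have hR' : e (e (e (u₀ : V))) = R • (u₀ : V) := hR _ u₀.2
  have hbe : b (e (u₀ : V)) = (c * d) • e (u₀ : V) := by rw [hc, hbu, map_smul, smul_smul]
  have hbee : b (e (e (u₀ : V))) = (c * (c * d)) • e (e (u₀ : V)) := by
    rw [hc, hbe, map_smul, smul_smul]
  rcases hi1 with rfl | hi2
  · rw [pow_one e, pow_one ω, hs.proj_one_comb, smul_comm μ] at e0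
    have e0' := hcancel e0
    rw [pow_one e, pow_one ω, hs.proj_two_comb (by decide), smul_comm μ] at e1
    have e1' := hcancel e1
    rw [hωpp, hω3, hs.proj_zero_comb hw2, smul_comm μ] at e2
    have e2' := hcancel e2
    change e (b (v : V)) = _ at e0'
    change e (b (e (u₀ : V))) = _ at e1'
    change e (b (e (e (w : V)))) = _ at e2'
    rw [hvt, map_smul, hbu, smul_smul, map_smul] at e0'
    have hμ : t * d = μ := eq_smul_of_smul (apply_ne_zero e hu0) e0'
    rw [hbe, hwt (by decide), map_smul, map_smul, map_smul, smul_smul] at e1'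
    have hμ1 : c * d = μ * t' := eq_smul_of_smul (apply_ne_zero e (apply_ne_zero e hu0)) e1'
    rw [hwt (by decide), map_smul, map_smul, map_smul, hbee, map_smul, map_smul, hR', hvt, smul_smul,
      smul_smul, smul_smul] at e2'
    have hμ2 : t' * (c * (c * d)) * R = μ * t := eq_smul_of_smul hu0 e2'
    rw [← hμ] at hμ1 hμ2
    have hc' : c = t * t' := mul_right_cancel₀ hd0 (by linear_combination hμ1)
    rw [hc'] at hμ2
    exact ht'3 (mul_left_cancel₀ (mul_ne_zero (mul_ne_zero ht0 ht0) hd0)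
      (by linear_combination hμ2))
  · obtain rfl : i = 2 := by omega
    rw [show ω ^ 2 = ω * ω from pow_two ω, hs.proj_two_comb (by decide), smul_comm μ] at e0
    have e0' := hcancel e0
    rw [hωp, hω3, hs.proj_zero_comb hw2, smul_comm μ] at e1
    have e1' := hcancel e1
    rw [hωpp, show ω ^ (2 + 2) = ω by rw [show 2 + 2 = 3 + 1 from rfl, pow_succ, hω3, one_mul],
      hs.proj_one_comb, smul_comm μ] at e2
    have e2' := hcancel e2
    change e (e (b (v : V))) = _ at e0'
    change e (e (b (e (u₀ : V)))) = _ at e1'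
    change e (e (b (e (e (w : V))))) = _ at e2'
    rw [hvt, hwt (by decide), map_smul, hbu, smul_smul, map_smul, map_smul, map_smul, map_smul,
      smul_smul] at e0'
    have hμ : t * d = μ * t' := eq_smul_of_smul (apply_ne_zero e (apply_ne_zero e hu0)) e0'
    rw [hbe, map_smul, map_smul, hR', hvt, smul_smul, smul_smul] at e1'
    have hμ1 : c * d * R = μ * t := eq_smul_of_smul hu0 e1'
    rw [hwt (by decide), map_smul, map_smul, map_smul, hbee, map_smul, map_smul, map_smul, map_smul,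
      hR', map_smul, smul_smul, smul_smul] at e2'
    have hμ2 : t' * (c * (c * d)) * R = μ := eq_smul_of_smul (apply_ne_zero e hu0) e2'
    have k1 : c * R * t' = t * t := mul_left_cancel₀ hd0 (by linear_combination t' * hμ1 - t * hμ)
    have k2 : c * c * R * (t' * t') = t := mul_left_cancel₀ hd0 (by linear_combination t' * hμ2 - hμ)
    have k3 : c ^ 2 * R * t' ^ 2 * (c * R * t') = t ^ 3 := by
      linear_combination (c * R * t') * k2 + t * k1
    have k4 : R * R * t' ^ 3 = t ^ 3 := by linear_combination k3 - (R * R * t' ^ 3) * hcl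
    have k5 : (c * R * t') ^ 3 = t ^ 3 * t ^ 3 := by rw [k1]; ring
    refine ht'3 ?_
    have k6 : t ^ 3 * t ^ 3 = t ^ 3 * R := by
      rw [← k5, ← k4]; linear_combination (R ^ 3 * t' ^ 3) * hcl
    have k7 : t ^ 3 = R := mul_left_cancel₀ (pow_ne_zero 3 ht0) k6
    exact mul_left_cancel₀ hR0 (by linear_combination k4 + k7)

end Split

end Cfsg.Agent.Solv.CopPair
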