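import Cfsg.Agent.Lib.Solv.CopPair.ColourThree
import Cfsg.Agent.Lib.Solv.OddPair.Blocks

/-!
Modules with a system of blocks: two vectors in the coprime case.
-/

set_option autoImplicit false
set_option linter.unusedSectionVars false
set_option linter.style.haveILetI false
set_option linter.unusedSimpArgs false

namespace Cfsg.Agent.Solv.CopPair

open Cfsg.Agent.Solv.OddPair (Base CR subAct cr_of_irred)
open scoped Pointwise

universe u v

/-- The induction hypothesis. -/
def PBc (n : ℕ) : Prop :=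
  ∀ (A V : Type v) [Group A] [Finite A] [AddCommGroup V] [Finite V] [DistribMulAction A V],
    Group.IsSolvable A → Odd (Nat.card V) → Nat.Coprime (Nat.card A) (Nat.card V) → CR A V →
      Nat.card V ≤ n → Base A V

/-- Shearing a base pair gives inequivalent ones. -/
theorem pairs_of_base {H : Type u} {W : Type v} [Group H] [Finite H] [AddCommGroup W] [Finite W]
    [Nontrivial W] [DistribMulAction H W] (hodd : Odd (Nat.card W))
    (hcop : Nat.Coprime (Nat.card H) (Nat.card W)) (hb : Base H W) :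
    ∃ (r : ℕ) (d : Fin r → W × W), (5 ≤ r ∨ r = 3 ∧ 3 ∣ Nat.card W) ∧
      ∀ i j, ∀ h : H, h • (d i).1 = (d j).1 → h • (d i).2 = (d j).2 → i = j ∧ ∀ x : W, h • x = x := by
  obtain ⟨x, y, hy, hxy⟩ : ∃ x y : W, y ≠ 0 ∧ ∀ h : H, h • x = x → h • y = y → ∀ z : W, h • z = z := by
    obtain ⟨v, w, h⟩ := hb
    by_cases hw : w = 0
    · by_cases hv : v = 0
      · obtain ⟨z, hz⟩ := exists_ne (0 : W)
        exact ⟨z, z, hz, fun a _ _ => h a (by rw [hv, smul_zero]) (by rw [hw, smul_zero])⟩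
      · exact ⟨w, v, hv, fun a ha hb' => h a hb' ha⟩
    · exact ⟨v, w, hw, h⟩
  have hord : addOrderOf y ∣ Nat.card W := addOrderOf_dvd_natCard y
  have hne1 : addOrderOf y ≠ 1 := fun h => hy (AddMonoid.addOrderOf_eq_one_iff.1 h)
  have hpos := addOrderOf_pos y
  refine ⟨addOrderOf y, fun i => (x + (i : ℕ) • y, y), ?_, fun i j h h1 h2 => ?_⟩
  · obtain ⟨k, hk⟩ := hodd.of_dvd_nat hord
    rcases Nat.lt_or_ge (addOrderOf y) 5 with h5 | h5
    · have e : addOrderOf y = 3 := by omega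
      exact Or.inr ⟨e, e ▸ hord⟩
    · exact Or.inl h5
  · change h • (x + (i : ℕ) • y) = x + (j : ℕ) • y at h1
    change h • y = y at h2
    rw [smul_add, smul_comm, h2] at h1
    obtain ⟨δ, hδ⟩ : ∃ δ, δ = (j : ℕ) • y - (i : ℕ) • y := ⟨_, rfl⟩
    have hx : h • x = x + δ := by rw [hδ, ← add_sub_assoc, ← h1, add_sub_cancel_right]
    have hhδ : h • δ = δ := by rw [hδ, smul_sub, smul_comm, smul_comm h, h2]
    have hit : ∀ m : ℕ, h ^ m • x = x + m • δ ∧ h ^ m • y = y := by
      intro m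
      induction m with
      | zero => simp
      | succ m ih =>
        refine ⟨?_, by rw [pow_succ', mul_smul, ih.2, h2]⟩
        rw [pow_succ', mul_smul, ih.1, smul_add, smul_comm, hhδ, hx, succ_nsmul, add_assoc, add_comm δ]
    have htriv : ∀ z : W, h • z = z := by
      refine triv_of_pow hcop.symm (hxy _ ?_ (hit (Nat.card W)).2)
      rw [(hit _).1, card_nsmul_eq_zero', add_zero]
    refine ⟨Fin.ext ?_, htriv⟩
    rw [htriv, left_eq_add] at hx
    rw [hx] at hδ
    exact nsmul_injOn_Iio_addOrderOf i.2 j.2 (sub_eq_zero.1 hδ.symm).symm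

variable {A V : Type v} [Group A] [Finite A] [AddCommGroup V] [Finite V] [DistribMulAction A V]

/-- An orbit of independent subgroups with projections gives three vectors. -/
theorem base_of_blocks2 {n : ℕ} (hP : PBc.{v} n) (hn : Nat.card V ≤ n + 1) (hodd : Odd (Nat.card V))
    (hcop : Nat.Coprime (Nat.card A) (Nat.card V)) (hA : Group.IsSolvable A)
    (hirr : ∀ U : AddSubgroup V, (∀ a : A, ∀ x ∈ U, a • x ∈ U) → U = ⊥ ∨ U = ⊤)
    (W0 : AddSubgroup V) (hW0 : W0 ≠ ⊥) (e : AddSubgroup V → AddMonoid.End V)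
    (he1 : ∀ W ∈ MulAction.orbit A W0, ∀ x ∈ W, e W x = x)
    (he0 : ∀ W ∈ MulAction.orbit A W0, ∀ W' ∈ MulAction.orbit A W0, W' ≠ W → ∀ x ∈ W', e W x = 0)
    (hmov : ∃ a : A, a • W0 ≠ W0) : Base A V := by
  classical
  haveI := hA
  haveI : Nontrivial W0 := (AddSubgroup.nontrivial_iff_ne_bot W0).2 hW0
  haveI : Fintype (MulAction.orbit A W0) := Fintype.ofFinite _
  have hmemorb : ∀ a : A, a • W0 ∈ MulAction.orbit A W0 := fun a => ⟨a, rfl⟩
  obtain ⟨H, hH⟩ : ∃ H, H = MulAction.stabilizer A W0 := ⟨_, rfl⟩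
  have hHW : ∀ (h : H), ∀ x ∈ W0, h • x ∈ W0 := fun h x hx => by
    change (h : A) • x ∈ W0
    have h1 : (h : A) • W0 = W0 := MulAction.mem_stabilizer_iff.1 (hH ▸ h.2)
    rw [← h1]
    exact AddSubgroup.smul_mem_pointwise_smul x (h : A) W0 hx
  letI := subAct W0 hHW
  have hirr0 : ∀ U : AddSubgroup W0, (∀ h : H, ∀ x ∈ U, h • x ∈ U) → U = ⊥ ∨ U = ⊤ := by
    intro U hU
    by_cases hU0 : U = ⊥
    · exact Or.inl hU0
    right
    let U' := U.map W0.subtype
    let Z := AddSubgroup.closure {y : V | ∃ (a : A), ∃ x ∈ U', a • x = y}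
    have hZ : Z = ⊤ := by
      refine (hirr Z fun a x hx => ?_).resolve_left ?_
      · have h1 : Z ≤ Z.comap (DistribMulAction.toAddMonoidEnd A V a) := by
          rw [AddSubgroup.closure_le]
          rintro _ ⟨b, y, hy, rfl⟩
          exact AddSubgroup.subset_closure ⟨a * b, y, hy, mul_smul a b y⟩
        exact h1 hx
      · intro hb
        refine hU0 ((AddSubgroup.eq_bot_iff_forall U).2 fun x hx => Subtype.ext ?_)
        have h1 : (x : V) ∈ Z := AddSubgroup.subset_closure ⟨1, x, ⟨x, hx, rfl⟩, one_smul A _⟩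
        rwa [hb, AddSubgroup.mem_bot] at h1
    have hle : Z ≤ U'.comap (e W0) := by
      rw [AddSubgroup.closure_le]
      rintro _ ⟨a, x, hx, rfl⟩
      change e W0 (a • x) ∈ U'
      obtain ⟨u, hu, rfl⟩ := hx
      by_cases ha : a • W0 = W0
      · have hm : a ∈ H := hH ▸ MulAction.mem_stabilizer_iff.2 ha
        have h1 : a • (u : V) = ((⟨a, hm⟩ : H) • u : W0) := rfl
        change e W0 (a • (u : V)) ∈ U'
        rw [h1, he1 W0 (MulAction.mem_orbit_self _) _ (SetLike.coe_mem _)]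
        exact ⟨_, hU ⟨a, hm⟩ u hu, rfl⟩
      · change e W0 (a • (u : V)) ∈ U'
        rw [he0 W0 (MulAction.mem_orbit_self _) (a • W0) (hmemorb a) ha _
          (AddSubgroup.smul_mem_pointwise_smul _ a W0 u.2)]
        exact U'.zero_mem
    refine eq_top_iff.2 fun x _ => ?_
    have h1 : e W0 (x : V) ∈ U' := hle (hZ ▸ AddSubgroup.mem_top (x : V))
    rw [he1 W0 (MulAction.mem_orbit_self _) _ x.2] at h1
    obtain ⟨u, hu, h2⟩ := h1
    rwa [← Subtype.ext h2]
  obtain ⟨a1, ha1⟩ := hmov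
  have hne_top : W0 ≠ ⊤ := by
    intro h
    obtain ⟨⟨x, hx⟩, hx0⟩ := exists_ne (0 : W0)
    refine hx0 (Subtype.ext ?_)
    have h1 := AddSubgroup.smul_mem_pointwise_smul x a1 W0 hx
    have h2 := he0 W0 (MulAction.mem_orbit_self _) (a1 • W0) (hmemorb a1) ha1 _ h1
    rw [he1 W0 (MulAction.mem_orbit_self _) _ (h ▸ AddSubgroup.mem_top _), smul_eq_zero_iff_eq] at h2
    exact h2
  have hcard0 : Nat.card W0 ≤ n := by
    have h1 : Nat.card W0 ≠ Nat.card V := fun h => hne_top (AddSubgroup.eq_top_of_card_eq _ h)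
    have h2 : Nat.card W0 ≤ Nat.card V := Finite.card_subtype_le _
    omega
  have hW0V : Nat.card W0 ∣ Nat.card V := AddSubgroup.card_addSubgroup_dvd_card W0
  have hcop0 : Nat.Coprime (Nat.card H) (Nat.card W0) :=
    (hcop.coprime_dvd_left (Subgroup.card_subgroup_dvd_card H)).coprime_dvd_right hW0V
  obtain ⟨r, d, hr, hd⟩ := pairs_of_base (H := H) (W := W0) (hodd.of_dvd_nat hW0V) hcop0
    (hP H W0 inferInstance (hodd.of_dvd_nat hW0V) hcop0 (cr_of_irred hirr0) hcard0)
  have hpick : ∀ W : MulAction.orbit A W0, ∃ x : V, x ∈ (W : AddSubgroup V) ∧ x ≠ 0 := by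
    rintro ⟨_, a, rfl⟩
    obtain ⟨⟨x, hx⟩, hx0⟩ := exists_ne (0 : W0)
    exact ⟨a • x, AddSubgroup.smul_mem_pointwise_smul x a W0 hx,
      fun h => hx0 (Subtype.ext ((smul_eq_zero_iff_eq a).1 h))⟩
  choose pick hpick1 hpick2 using hpick
  have hm : Nat.card (MulAction.orbit A W0) ≤ n := by
    have h1 : Nat.card (MulAction.orbit A W0) < Nat.card V := by
      have hinj : Function.Injective pick := fun W W' h => by
        by_contra hne
        refine hpick2 W ?_
        rw [← he1 _ W.2 _ (hpick1 W), h]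
        exact he0 _ W.2 _ W'.2 (fun e => hne (Subtype.ext e.symm)) _ (hpick1 W')
      haveI := Fintype.ofFinite V
      rw [Nat.card_eq_fintype_card, Nat.card_eq_fintype_card]
      exact Fintype.card_lt_of_injective_of_notMem pick hinj (b := 0)
        (by rintro ⟨W, hW⟩; exact hpick2 W hW)
    omega
  obtain ⟨col, hcol⟩ : ∃ col : MulAction.orbit A W0 → Fin r,
      ∀ a : A, (∀ W, col (a • W) = col W) → ∀ W, a • W = W := by
    rcases hr with h5 | ⟨h3r, h3⟩
    · obtain ⟨c, hc⟩ := Triple.colour_of (Triple.pb3_all n) _ hm A (MulAction.orbit A W0) hA rfl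
      exact ⟨fun W => Fin.castLE h5 (c W), fun a ha => hc a fun W => Fin.castLE_injective h5 (ha W)⟩
    · subst h3r
      have h3A : ¬3 ∣ Nat.card A := fun h => Nat.not_coprime_of_dvd_of_dvd (by norm_num : 1 < 3) h
        (h3.trans hW0V) hcop
      exact colour3_of (Triple.pb3_all n) _ hm A (MulAction.orbit A W0) hA h3A rfl
  choose t ht' using fun W : MulAction.orbit A W0 => (W.2 : ∃ a : A, a • W0 = W)
  have ht : ∀ W : MulAction.orbit A W0, t W • W0 = (W : AddSubgroup V) := ht'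
  refine ⟨∑ W, t W • (((d (col W)).1 : W0) : V), ∑ W, t W • (((d (col W)).2 : W0) : V), fun a hf1 hf2 => ?_⟩
  have hterm : ∀ (f : MulAction.orbit A W0 → W0), a • (∑ W, t W • (f W : V)) = ∑ W, t W • (f W : V) →
      ∀ W, a • t W • (f W : V) = t (a • W) • (f (a • W) : V) := by
    intro f hf W
    have hin : ∀ W : MulAction.orbit A W0, t W • (f W : V) ∈ (W : AddSubgroup V) := fun W => by
      exact ht W ▸ AddSubgroup.smul_mem_pointwise_smul _ (t W) _ (f W).2
    have h1 := congrArg (e ((a • W : MulAction.orbit A W0) : AddSubgroup V)) hf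
    rw [Finset.smul_sum, map_sum, map_sum, Finset.sum_eq_single W, Finset.sum_eq_single (a • W)] at h1
    · rw [he1 _ (a • W).2 _ (hin _)] at h1
      rw [he1 _ (a • W).2] at h1
      · exact h1
      · exact AddSubgroup.smul_mem_pointwise_smul _ a _ (hin W)
    · exact fun W' _ hne => he0 _ (a • W).2 _ W'.2 (fun h => hne (Subtype.ext h)) _ (hin W')
    · exact fun h => absurd (Finset.mem_univ _) h
    · intro W' _ hne
      exact he0 _ (a • W).2 _ (a • W').2 (fun h => hne (MulAction.injective a (Subtype.ext h))) _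
        (AddSubgroup.smul_mem_pointwise_smul _ a _ (hin W'))
    · exact fun h => absurd (Finset.mem_univ _) h
  have hmH : ∀ W : MulAction.orbit A W0, (t (a • W))⁻¹ * (a * t W) ∈ H := fun W => by
    rw [hH, MulAction.mem_stabilizer_iff, mul_smul, mul_smul, ht, inv_smul_eq_iff, ht]
    rfl
  have hmap : ∀ W, (⟨_, hmH W⟩ : H) • (d (col W)).1 = (d (col (a • W))).1 ∧
      (⟨_, hmH W⟩ : H) • (d (col W)).2 = (d (col (a • W))).2 := fun W => by
    refine ⟨Subtype.ext ?_, Subtype.ext ?_⟩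
    · show ((t (a • W))⁻¹ * (a * t W)) • ((d (col W)).1 : V) = _
      rw [mul_smul, mul_smul, hterm (fun W => (d (col W)).1) hf1 W, inv_smul_smul]
    · show ((t (a • W))⁻¹ * (a * t W)) • ((d (col W)).2 : V) = _
      rw [mul_smul, mul_smul, hterm (fun W => (d (col W)).2) hf2 W, inv_smul_smul]
  have hfixW := hcol a fun W => (hd _ _ _ (hmap W).1 (hmap W).2).1.symm
  have hblock : ∀ W : MulAction.orbit A W0, ∀ x : W0, a • t W • (x : V) = t W • (x : V) := by
    intro W x
    have h3 := (hd _ _ _ (hmap W).1 (hmap W).2).2 x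
    have h4 : ((t (a • W))⁻¹ * (a * t W)) • (x : V) = x := congrArg Subtype.val h3
    rw [hfixW W, mul_smul, mul_smul, inv_smul_eq_iff] at h4
    exact h4
  intro x
  let Z : AddSubgroup V := AddSubgroup.closure {y : V | ∃ W : MulAction.orbit A W0, y ∈ (W : AddSubgroup V)}
  have hZ : Z = ⊤ := by
    refine (hirr Z fun b y hy => ?_).resolve_left fun hb' => ?_
    · have h1 : Z ≤ Z.comap (DistribMulAction.toAddMonoidEnd A V b) := by
        rw [AddSubgroup.closure_le]
        rintro z ⟨W, hz⟩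
        exact AddSubgroup.subset_closure ⟨b • W, AddSubgroup.smul_mem_pointwise_smul z b _ hz⟩
      exact h1 hy
    · have W1 : MulAction.orbit A W0 := ⟨W0, MulAction.mem_orbit_self _⟩
      have h1 : pick W1 ∈ Z := AddSubgroup.subset_closure ⟨W1, hpick1 W1⟩
      rw [hb', AddSubgroup.mem_bot] at h1
      exact hpick2 W1 h1
  have hle : Z ≤ AddMonoidHom.eqLocus (DistribMulAction.toAddMonoidEnd A V a) (AddMonoidHom.id V) := by
    rw [AddSubgroup.closure_le]
    rintro y ⟨W, hy⟩
    rw [← ht W, AddSubgroup.mem_smul_pointwise_iff_exists] at hy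
    obtain ⟨z, hz, rfl⟩ := hy
    exact hblock W ⟨z, hz⟩
  exact hle (hZ ▸ AddSubgroup.mem_top x)

end Cfsg.Agent.Solv.CopPair
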