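import Cfsg.Agent.Lib.Solv.CopPair.Frame

/-!
Certificates for pairs of vectors in coordinates.
-/

set_option autoImplicit false
set_option linter.unusedSectionVars false
set_option linter.style.haveILetI false
set_option maxHeartbeats 800000

namespace Cfsg.Agent.Solv.CopPair

universe u v

namespace Model

variable (M : Model)

/-- Whether two operators commute at a vector. -/
def comm (x : M.Vec) (c d : M.Code) : Bool := decide (M.op c (M.op d x) = M.op d (M.op c x))

/-- The inner products of a code with the fixed vectors. -/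
def row (x y : M.Vec) (W : List M.Vec) (c : M.Code) : List (ZMod 3) :=
  W.flatMap fun w => [M.form (M.op c x) w, M.form (M.op c y) w]

/-- The square sign of a code. -/
def sq (x : M.Vec) (c : M.Code) : Bool := decide (M.op c (M.op c x) = x)

/-- Equality of the invariants of two codes. -/
def same (x y : M.Vec) (W : List M.Vec) (P : List M.Code) (c d : M.Code) : Bool :=
  decide ((M.row x y W c = M.row x y W d ∨ M.row x y W c = (M.row x y W d).map fun t => -t) ∧
    M.sq x c = M.sq x d ∧ (P.map fun b => M.comm x c b) = P.map fun b => M.comm x d b)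

/-- A counting invariant of a code. -/
def count (x y : M.Vec) (W : List M.Vec) (P : List M.Code) (q : M.Code × Bool × Bool × Bool)
    (c : M.Code) : ℕ :=
  (Finset.univ.filter fun d => M.same x y W P d q.1 = true ∧
    decide (M.form (M.op c x) (M.op d x) ≠ 0) = q.2.1 ∧
    decide (M.form (M.op c x) (M.op d y) ≠ 0) = q.2.2.1 ∧ M.comm x c d = q.2.2.2).card

/-- A code determined by the invariants. -/
def Pinned (x y : M.Vec) (W : List M.Vec) (P : List M.Code) (Q : List (M.Code × Bool × Bool × Bool))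
    (b : M.Code) : Prop :=
  (∃ t ∈ M.row x y W b, t ≠ 0) ∧ ∀ c, M.same x y W P c b = true →
    (∀ q ∈ Q, M.count x y W P q c = M.count x y W P q b) → c = b

instance (x y : M.Vec) (W : List M.Vec) (P : List M.Code) (Q : List (M.Code × Bool × Bool × Bool))
    (b : M.Code) : Decidable (M.Pinned x y W P Q b) := by unfold Pinned; infer_instance

/-- A symmetry of the coordinates. -/
structure Sym where
  m : M.Vec →+ M.Vec
  inj : Function.Injective m
  π : M.Code → M.Code
  ε : M.Code → Bool
  act : ∀ c x, m (M.op c x) = sgn (ε c) (M.op (π c) (m x))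
  bij : Function.Bijective π
  add : ∀ c d, π (c + d) = π c + π d

variable {M} in
theorem sgn_form (s : Bool) (p q : M.Vec) : M.form (sgn s p) q = sgn s (M.form p q) := by
  cases s
  · rfl
  · exact M.form_neg_left p q

theorem form_sgn_sgn (s : Bool) (p q : M.Vec) : M.form (sgn s p) (sgn s q) = M.form p q := by
  cases s
  · rfl
  · rw [sgn_true, sgn_true, M.form_neg_left, M.form_neg_right, neg_neg]

/-- Proportional operators have the same code. -/
theorem code_eq {c d : M.Code} {s : Bool} (h : ∀ x, M.op c x = sgn s (M.op d x)) : c = d := by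
  obtain ⟨t, ht⟩ := M.op_comp d c
  obtain ⟨r, hr⟩ := M.op_comp d d
  have key : ∀ x, M.op (d + c) x = sgn (xor t (xor s r)) x := fun x => by
    have h1 := ht x
    rw [h, M.op_sgn, hr, M.code_two, M.op_zero, sgn_sgn] at h1
    rw [← sgn_sgn, h1, sgn_sgn, Bool.xor_self, sgn_false]
  have h0 : d + c = 0 := by
    refine M.faith _ ?_
    cases hk : xor t (xor s r)
    · exact Or.inl fun x => by rw [key, hk]; rfl
    · exact Or.inr fun x => by rw [key, hk]; rfl
  exact add_left_cancel (h0.trans (M.code_two d).symm) |>.trans rfl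

namespace Sym

variable {M} (S : M.Sym) {x y : M.Vec}

theorem form_eq (hx : S.m x = x) {w : M.Vec} (hw : S.m w = w) (hne : M.form x w ≠ 0) (p q : M.Vec) :
    M.form (S.m p) (S.m q) = M.form p q := by
  obtain ⟨t, ht⟩ := M.uniq (fun p q => M.form (S.m p) (S.m q))
    (fun a b c => by rw [map_add, M.form_add_left]) (fun a b c => by rw [map_add, M.form_add_right])
    (fun c a b => by rw [S.act, S.act, M.form_sgn_sgn, M.form_op])
  have h1 := ht x w
  rw [hx, hw] at h1
  have h2 : t = 1 := mul_right_cancel₀ hne (by rw [one_mul]; exact h1.symm)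
  rw [ht, h2, one_mul]

variable (hform : ∀ p q, M.form (S.m p) (S.m q) = M.form p q) (hx : S.m x = x) (hy : S.m y = y)
  {W : List M.Vec} (hW : ∀ w ∈ W, S.m w = w) {P : List M.Code} (hP : ∀ b ∈ P, S.π b = b)

include hform hx hy hW in
theorem row_eq (c : M.Code) : M.row x y W (S.π c) = (M.row x y W c).map (sgn (S.ε c)) := by
  have key : ∀ z, S.m z = z → ∀ w, S.m w = w →
      M.form (M.op (S.π c) z) w = sgn (S.ε c) (M.form (M.op c z) w) := by
    intro z hz w hw
    have h1 := hform (M.op c z) w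
    rw [S.act, hz, hw, sgn_form] at h1
    rw [← h1, sgn_sgn, Bool.xor_self, sgn_false]
  unfold row
  induction W with
  | nil => rfl
  | cons w W ih =>
    simp only [List.flatMap_cons, List.map_append, List.map_cons, List.map_nil]
    rw [key x hx w (hW w (List.mem_cons_self ..)), key y hy w (hW w (List.mem_cons_self ..)),
      ih fun z hz => hW z (List.mem_cons_of_mem _ hz)]

include hx in
theorem comm_eq (c d : M.Code) : M.comm x (S.π c) (S.π d) = M.comm x c d := by
  refine decide_eq_decide.2 ⟨fun h => S.inj ?_, fun h => ?_⟩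
  · rw [S.act, S.act, S.act, S.act, hx, M.op_sgn, M.op_sgn, h, sgn_sgn, sgn_sgn, Bool.xor_comm]
  · have h1 := congrArg S.m h
    rw [S.act, S.act, S.act, S.act, hx, M.op_sgn, M.op_sgn, sgn_sgn, sgn_sgn, Bool.xor_comm (S.ε d)] at h1
    have h2 := congrArg (sgn (xor (S.ε c) (S.ε d))) h1
    rwa [sgn_sgn, sgn_sgn, Bool.xor_self, sgn_false, sgn_false] at h2

include hx in
theorem sq_eq (c : M.Code) : M.sq x (S.π c) = M.sq x c := by
  have h : S.m (M.op c (M.op c x)) = M.op (S.π c) (M.op (S.π c) x) := by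
    rw [S.act, S.act, hx, M.op_sgn, sgn_sgn, Bool.xor_self, sgn_false]
  exact decide_eq_decide.2 ⟨fun e => S.inj (by rw [h, e, hx]), fun e => by rw [← h, e, hx]⟩

theorem map_sgn_cases (s : Bool) (l : List (ZMod 3)) :
    l.map (sgn s) = l ∨ l.map (sgn s) = l.map fun t => -t := by
  cases s
  · exact Or.inl (List.map_id' l)
  · exact Or.inr rfl

include hform hx hy hW hP in
theorem same_map (c : M.Code) : M.same x y W P (S.π c) c = true := by
  refine decide_eq_true ⟨?_, S.sq_eq hx c, ?_⟩
  · rw [S.row_eq hform hx hy hW]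
    exact map_sgn_cases _ _
  · refine List.map_congr_left fun b hb => ?_
    nth_rewrite 1 [← hP b hb]
    exact S.comm_eq hx c b

theorem same_trans {c d e : M.Code} (h1 : M.same x y W P c d = true) (h2 : M.same x y W P d e = true) :
    M.same x y W P c e = true := by
  obtain ⟨r1, s1, p1⟩ := of_decide_eq_true h1
  obtain ⟨r2, s2, p2⟩ := of_decide_eq_true h2
  refine decide_eq_true ⟨?_, s1.trans s2, p1.trans p2⟩
  have nn : ∀ l : List (ZMod 3), (l.map fun t => -t).map (fun t => -t) = l := fun l => by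
    rw [List.map_map]; simp [Function.comp_def]
  rcases r1 with r1 | r1 <;> rcases r2 with r2 | r2
  · exact Or.inl (r1.trans r2)
  · exact Or.inr (r1.trans r2)
  · exact Or.inr (by rw [r1, r2])
  · exact Or.inl (by rw [r1, r2, nn])

theorem same_symm {c d : M.Code} (h : M.same x y W P c d = true) : M.same x y W P d c = true := by
  obtain ⟨r, s, p⟩ := of_decide_eq_true h
  refine decide_eq_true ⟨?_, s.symm, p.symm⟩
  rcases r with r | r
  · exact Or.inl r.symm
  · exact Or.inr (by rw [r, List.map_map]; simp [Function.comp_def])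

include hform hx hy hW hP in
theorem count_eq (q : M.Code × Bool × Bool × Bool) (c : M.Code) :
    M.count x y W P q (S.π c) = M.count x y W P q c := by
  unfold count
  symm
  have hne : ∀ z, S.m z = z → ∀ d, decide (M.form (M.op (S.π c) x) (M.op (S.π d) z) ≠ 0) =
      decide (M.form (M.op c x) (M.op d z) ≠ 0) := by
    intro z hz d
    refine decide_eq_decide.2 ?_
    have h1 := hform (M.op c x) (M.op d z)
    rw [S.act, S.act, hx, hz] at h1
    rw [← h1]
    cases S.ε c <;> cases S.ε d <;> simp [M.form_neg_left, M.form_neg_right]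
  refine Finset.card_bij (fun d _ => S.π d) (fun d hd => ?_) (fun a _ b _ h => S.bij.1 h) fun d hd => ?_
  · simp only [Finset.mem_filter, Finset.mem_univ, true_and] at hd ⊢
    exact ⟨same_trans (S.same_map hform hx hy hW hP d) hd.1, by rw [hne x hx]; exact hd.2.1,
      by rw [hne y hy]; exact hd.2.2.1, by rw [S.comm_eq hx]; exact hd.2.2.2⟩
  · obtain ⟨d, rfl⟩ := S.bij.2 d
    simp only [Finset.mem_filter, Finset.mem_univ, true_and] at hd ⊢
    refine ⟨d, ⟨same_trans (same_symm (S.same_map hform hx hy hW hP d)) hd.1, ?_, ?_, ?_⟩, rfl⟩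
    · rw [← hne x hx]; exact hd.2.1
    · rw [← hne y hy]; exact hd.2.2.1
    · rw [← S.comm_eq hx]; exact hd.2.2.2

include hform hx hy hW hP in
theorem pinned {Q : List (M.Code × Bool × Bool × Bool)} {b : M.Code} (h : M.Pinned x y W P Q b) :
    S.π b = b ∧ S.ε b = false := by
  have hb : S.π b = b := h.2 _ (S.same_map hform hx hy hW hP b) fun q _ => S.count_eq hform hx hy hW hP q b
  refine ⟨hb, ?_⟩
  obtain ⟨t, ht, ht0⟩ := h.1
  have h1 := S.row_eq hform hx hy hW b
  rw [hb] at h1
  by_contra he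
  rw [Bool.not_eq_false] at he
  rw [he] at h1
  refine ht0 (zmod3_two_ne t ?_)
  exact List.map_eq_map_iff.1 (show (M.row x y W b).map id = (M.row x y W b).map (sgn true) by
    rw [List.map_id]; exact h1) t ht

include hform hx hy hW hP in
/-- One step of a certificate. -/
theorem step {Q : List (M.Code × Bool × Bool × Bool)} {b : M.Code} (h : M.Pinned x y W P Q b) :
    (∀ w ∈ W ++ W.map (M.op b), S.m w = w) ∧ ∀ d ∈ b :: P, S.π d = d := by
  obtain ⟨hb, he⟩ := S.pinned hform hx hy hW hP h
  refine ⟨fun w hw => ?_, List.forall_mem_cons.2 ⟨hb, hP⟩⟩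
  rcases List.mem_append.1 hw with hw | hw
  · exact hW w hw
  · obtain ⟨w0, hw0, rfl⟩ := List.mem_map.1 hw
    rw [S.act, hb, he, hW w0 hw0]
    rfl

end Sym

/-- A family of vectors generating the coordinates. -/
def Spans (L : List M.Vec) : Prop := ∀ S : AddSubgroup M.Vec, (∀ w ∈ L, w ∈ S) → ∀ z, z ∈ S

/-- A signed sum. -/
def comb3 (a : List (ZMod 3)) (W : List M.Vec) : M.Vec :=
  ((a.zip W).map fun p => p.1.val • p.2).sum

/-- The fixed vectors give everything. -/
theorem Sym.id_of_spans (S : M.Sym) {W L : List M.Vec} (hW : ∀ w ∈ W, S.m w = w) (hL : M.Spans L)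
    (C : List (List (ZMod 3))) (hC : L = C.map fun a => M.comb3 a W) (z : M.Vec) : S.m z = z := by
  refine hL (AddMonoidHom.eqLocus S.m (AddMonoidHom.id _)) (fun w hw => ?_) z
  subst hC
  obtain ⟨a, -, rfl⟩ := List.mem_map.1 hw
  refine list_sum_mem fun p hp => ?_
  obtain ⟨q, hq, rfl⟩ := List.mem_map.1 hp
  exact nsmul_mem (show q.2 ∈ AddMonoidHom.eqLocus S.m (AddMonoidHom.id _) from
    hW q.2 (List.of_mem_zip hq).2) _

theorem Spans.dbl {M : Model} {L : List M.Vec} (h : M.Spans L) :
    (CopPair.dbl M).Spans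
      (L.map (fun w => ((w, 0) : M.Vec × M.Vec)) ++ L.map fun w => ((0, w) : M.Vec × M.Vec)) := by
  intro S hS z
  let a : M.Vec →+ M.Vec × M.Vec := AddMonoidHom.inl _ _
  let b : M.Vec →+ M.Vec × M.Vec := AddMonoidHom.inr _ _
  have h1 := h (S.comap (show M.Vec →+ (CopPair.dbl M).Vec from a))
    (fun w hw => hS _ (List.mem_append_left _ (List.mem_map.2 ⟨w, hw, rfl⟩))) z.1
  have h2 := h (S.comap (show M.Vec →+ (CopPair.dbl M).Vec from b))
    (fun w hw => hS _ (List.mem_append_right _ (List.mem_map.2 ⟨w, hw, rfl⟩))) z.2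
  have h3 := S.add_mem h1 h2
  have : ((z.1, 0) : M.Vec × M.Vec) + (0, z.2) = z :=
    Prod.ext (add_zero z.1) (zero_add z.2)
  exact this ▸ h3

theorem spans_plus : plusM.Spans [(1 : ZMod 3)] := fun S hS z =>
  plusM.irred S (fun _ _ h => h) _ (hS _ (List.mem_singleton.2 rfl)) plusM.pt_ne z

theorem spans_minus : minusM.Spans [((1, 0) : ZMod 3 × ZMod 3), (0, 1)] := by
  intro S hS z
  have h1 := S.nsmul_mem (hS ((1, 0) : ZMod 3 × ZMod 3) (List.mem_cons_self ..)) z.1.val
  have h2 := S.nsmul_mem (hS ((0, 1) : ZMod 3 × ZMod 3)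
    (List.mem_cons_of_mem _ (List.mem_singleton.2 rfl))) z.2.val
  have h3 := S.add_mem h1 h2
  have : z.1.val • ((1, 0) : ZMod 3 × ZMod 3) + z.2.val • ((0, 1) : ZMod 3 × ZMod 3) = z := by
    refine Prod.ext ?_ ?_ <;> simp [nsmul_eq_mul]
  exact this ▸ h3

end Model

variable {K : Type u} [Field K] {V : Type v} [AddCommGroup V] [Module K V]

section

variable [Finite V] [Nontrivial V] {E : Subgroup (V ≃ₗ[K] V)} {M : Model}

theorem sgn_inj {G : Type*} [AddGroup G] {s : Bool} {p q : G} (h : sgn s p = sgn s q) : p = q := by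
  cases s
  · exact h
  · exact neg_injective h

/-- The symmetry induced by a map normalising the layer and fixing a vector. -/
theorem Frame.sym (F : Frame E M) {g : V ≃+ V} (hn : Norm g E) {x : M.Vec} (hx0 : x ≠ 0)
    (hx : g (F.φ x) = F.φ x) :
    ∃ S : M.Sym, (∀ p, F.φ (S.m p) = g (F.φ p)) ∧
      ∀ c z, g (F.T c z) = sgn (S.ε c) (F.T (S.π c) (g z)) := by
  classical
  have himg : ∀ c, ∃ d s, ∀ z, g (F.T c z) = sgn s (F.T d (g z)) := by
    intro c
    obtain ⟨a', ha', hga⟩ := hn _ (F.mem c)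
    obtain ⟨d, s, hd⟩ := F.cover a' ha'
    exact ⟨d, s, fun z => (hga z).trans (hd _)⟩
  choose π ε hπ using himg
  -- the coordinates are invariant
  let R : AddSubgroup M.Vec := (AddMonoidHom.range F.φ).comap (g.toAddMonoidHom.comp F.φ)
  have hR : ∀ p, p ∈ R := by
    refine M.irred R (fun c p hp => ?_) x (show g (F.φ x) ∈ AddMonoidHom.range F.φ from ⟨x, hx.symm⟩) hx0
    obtain ⟨q, hq⟩ := hp
    change F.φ q = g (F.φ p) at hq
    refine ⟨sgn (ε c) (M.op (π c) q), ?_⟩
    show F.φ _ = g (F.φ (M.op c p))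
    rw [← F.act, hπ, map_sgn, ← F.act, hq]
  have hR' : ∀ p, ∃ q, F.φ q = g (F.φ p) := fun p => hR p
  choose m hm using hR'
  let mh : M.Vec →+ M.Vec := AddMonoidHom.mk' m fun p q => F.inj (by
    rw [map_add, hm, hm, hm, map_add, map_add])
  haveI : Finite M.Vec := Finite.of_injective F.φ F.inj
  have minj : Function.Injective m := fun p q h => F.inj (g.injective (by rw [← hm, ← hm, h]))
  have msurj : Function.Surjective m := (Finite.injective_iff_bijective.1 minj).2
  have hact : ∀ c p, m (M.op c p) = sgn (ε c) (M.op (π c) (m p)) := fun c p => F.inj (by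
    rw [hm, map_sgn, ← F.act c, hπ, ← hm, F.act])
  have pinj : Function.Injective π := by
    intro c d h
    refine M.code_eq (s := xor (ε c) (ε d)) fun p => minj ?_
    have e : ∀ s q, m (sgn s q) = sgn s (m q) := fun s q => map_sgn mh s q
    rw [e, hact, hact, h, sgn_sgn]
    congr 1
    cases ε c <;> cases ε d <;> rfl
  have padd : ∀ c d, π (c + d) = π c + π d := by
    intro c d
    obtain ⟨s, hs⟩ := M.op_comp c d
    obtain ⟨t, ht⟩ := M.op_comp (π c) (π d)
    refine M.code_eq (s := xor (ε (c + d)) (xor s (xor (ε d) (xor (ε c) t)))) fun q => ?_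
    obtain ⟨p, rfl⟩ := msurj q
    have h1 := congrArg m (hs p)
    have e : ∀ s q, m (sgn s q) = sgn s (m q) := fun s q => map_sgn mh s q
    rw [e, hact c, hact d, hact (c + d), M.op_sgn, ht] at h1
    simp only [sgn_sgn] at h1
    have h2 := congrArg (sgn (xor s (ε (c + d)))) h1
    simp only [sgn_sgn, Bool.xor_self, sgn_false] at h2
    rw [← h2]
    congr 1
    cases ε c <;> cases ε d <;> cases ε (c + d) <;> cases s <;> cases t <;> rfl
  exact ⟨⟨mh, minj, π, ε, hact, Finite.injective_iff_bijective.1 pinj, padd⟩, hm, hπ⟩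

/-- A symmetry which is trivial on the coordinates centralises the layer. -/
theorem Frame.fixes (h3 : ∀ k : K, k = 0 ∨ k = 1 ∨ k = -1) (F : Frame E M) {g : V ≃+ V} (S : M.Sym)
    (hg : ∀ c z, g (F.T c z) = sgn (S.ε c) (F.T (S.π c) (g z))) (hid : ∀ p, S.m p = p) : Fixes g E := by
  refine ⟨fun k z => ?_, fun a ha z => ?_⟩
  · rcases h3 k with rfl | rfl | rfl
    · rw [zero_smul, zero_smul, map_zero]
    · rw [one_smul, one_smul]
    · rw [neg_smul, one_smul, neg_smul, one_smul, map_neg]
  · have key : ∀ c, S.π c = c ∧ S.ε c = false := by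
      intro c
      have h1 : ∀ p, M.op c p = sgn (S.ε c) (M.op (S.π c) p) := fun p => by
        have := S.act c p
        rwa [hid, hid] at this
      have hc := M.code_eq h1
      refine ⟨hc.symm, ?_⟩
      by_contra he
      rw [Bool.not_eq_false] at he
      have h2 := h1 M.pt
      rw [he, ← hc] at h2
      exact M.op_ne_zero c M.pt_ne (M.eq_zero_of_neg h2)
    obtain ⟨c, s, hc⟩ := F.cover a ha
    rw [hc, hc, map_sgn, hg, (key c).1, (key c).2, sgn_false]

/-- Good pairs from their coordinates. -/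
theorem Frame.good (F : Frame E M) {x y : M.Vec} (hx : x ≠ 0) (hy : y ≠ 0)
    (h3 : ∀ k : K, k = 0 ∨ k = 1 ∨ k = -1) (hne : ∀ c s, M.op c x = sgn s x → c = 0)
    (horb : ∀ c s, M.op c x ≠ sgn s y) (hS : Stab E (F.φ x) (F.φ y)) : Good E (F.φ x) (F.φ y) := by
  have hx' : F.φ x ≠ 0 := fun h => hx (F.inj (h.trans (map_zero _).symm))
  refine ⟨hx', fun h => hy (F.inj (h.trans (map_zero _).symm)), fun a ha μ hμ => ?_, fun a ha h => ?_, hS⟩
  · obtain ⟨c, s, hc⟩ := F.cover a ha
    have hμ0 : μ ≠ 0 := fun h => Split.apply_ne_zero a hx' (by rw [hμ, h, zero_smul])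
    obtain ⟨t, ht⟩ := smul_sgn (V := V) h3 hμ0
    rw [hc, ht, F.act, ← map_sgn, ← map_sgn] at hμ
    have h1 := congrArg (sgn s) (F.inj hμ)
    rw [sgn_sgn, sgn_sgn, Bool.xor_self, sgn_false] at h1
    obtain rfl := hne c _ h1
    refine ⟨if s then -1 else 1, fun z => ?_⟩
    rw [hc, F.one]
    cases s <;> simp
  · obtain ⟨c, s, hc⟩ := F.cover a ha
    rw [hc, F.act, ← map_sgn] at h
    have h1 := congrArg (sgn s) (F.inj h)
    rw [sgn_sgn, Bool.xor_self, sgn_false] at h1
    exact horb c s h1

end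

end Cfsg.Agent.Solv.CopPair
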