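import Cfsg.Agent.Lib.Solv.CopPair.Chain

/-!
Certificates for layers of rank two, three and four over the field with three elements.
-/

set_option autoImplicit false
set_option linter.unusedSectionVars false
set_option linter.style.haveILetI false
set_option maxHeartbeats 1600000
set_option maxRecDepth 100000

namespace Cfsg.Agent.Solv.CopPair

universe u v

/-- Rank one, plus type. -/
abbrev plus1 : Model := dbl plusM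
/-- Rank two, plus type. -/
abbrev plus2 : Model := dbl plus1
/-- Rank three, plus type. -/
abbrev plus3 : Model := dbl plus2
/-- Rank four, plus type. -/
abbrev plus4 : Model := dbl plus3
/-- Rank two, minus type. -/
abbrev minus2 : Model := dbl minusM
/-- Rank three, minus type. -/
abbrev minus3 : Model := dbl minus2
/-- Rank four, minus type. -/
abbrev minus4 : Model := dbl minus3

/-- A vector spanning the one-dimensional coordinates. -/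
def basis0 : List plusM.Vec := [(1 : ZMod 3)]

/-- Spanning vectors of the two-dimensional coordinates. -/
def basisQ : List minusM.Vec := [((1, 0) : ZMod 3 × ZMod 3), (0, 1)]

/-- Spanning vectors of doubled coordinates. -/
def dblList {M : Model} (L : List M.Vec) : List (dbl M).Vec :=
  L.map (fun w => ((w, 0) : M.Vec × M.Vec)) ++ L.map fun w => ((0, w) : M.Vec × M.Vec)

/-- The first vector. -/
def um2 : minus2.Vec := (((0 : ZMod 3), (2 : ZMod 3)), ((2 : ZMod 3), (0 : ZMod 3)))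

/-- The second vector. -/
def vm2 : minus2.Vec := (((1 : ZMod 3), (2 : ZMod 3)), ((1 : ZMod 3), (2 : ZMod 3)))

/-- The certificate. -/
def stepsm2 : List minus2.Step :=
  [((((0 : ZMod 2), (0 : ZMod 2)), ((0 : ZMod 2), (1 : ZMod 2))), [],
    [(((0 : ZMod 3), (2 : ZMod 3)), ((2 : ZMod 3), (0 : ZMod 3))),
      (((1 : ZMod 3), (2 : ZMod 3)), ((1 : ZMod 3), (2 : ZMod 3))),
      (((2 : ZMod 3), (1 : ZMod 3)), ((2 : ZMod 3), (2 : ZMod 3))),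
      (((0 : ZMod 3), (2 : ZMod 3)), ((0 : ZMod 3), (2 : ZMod 3)))])]

/-- The coefficients. -/
def coefm2 : List (List (ZMod 3)) :=
  [[1, 0, 2, 1],
   [0, 2, 2, 2],
   [2, 1, 1, 1],
   [0, 1, 1, 0]]

/-- The first vector. -/
def up3 : plus3.Vec := ((((0 : ZMod 3), (2 : ZMod 3)), ((0 : ZMod 3), (0 : ZMod 3))), (((1 : ZMod 3), (1 : ZMod 3)), ((2 : ZMod 3), (2 : ZMod 3))))

/-- The second vector. -/
def vp3 : plus3.Vec := ((((2 : ZMod 3), (1 : ZMod 3)), ((2 : ZMod 3), (0 : ZMod 3))), (((2 : ZMod 3), (1 : ZMod 3)), ((0 : ZMod 3), (1 : ZMod 3))))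

/-- The certificate. -/
def stepsp3 : List plus3.Step :=
  [((((0 : ZMod 2), (0 : ZMod 2)), (((0 : ZMod 2), (1 : ZMod 2)), (((1 : ZMod 2), (0 : ZMod 2)), ()))), [],
    [((((0 : ZMod 3), (2 : ZMod 3)), ((0 : ZMod 3), (0 : ZMod 3))), (((1 : ZMod 3), (1 : ZMod 3)), ((2 : ZMod 3), (2 : ZMod 3)))),
      ((((2 : ZMod 3), (1 : ZMod 3)), ((2 : ZMod 3), (0 : ZMod 3))), (((2 : ZMod 3), (1 : ZMod 3)), ((0 : ZMod 3), (1 : ZMod 3)))),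
      ((((2 : ZMod 3), (0 : ZMod 3)), ((0 : ZMod 3), (0 : ZMod 3))), (((1 : ZMod 3), (1 : ZMod 3)), ((1 : ZMod 3), (1 : ZMod 3)))),
      ((((1 : ZMod 3), (2 : ZMod 3)), ((0 : ZMod 3), (1 : ZMod 3))), (((1 : ZMod 3), (2 : ZMod 3)), ((2 : ZMod 3), (0 : ZMod 3))))]),
   ((((0 : ZMod 2), (0 : ZMod 2)), (((1 : ZMod 2), (0 : ZMod 2)), (((1 : ZMod 2), (1 : ZMod 2)), ()))), [],
    [((((0 : ZMod 3), (2 : ZMod 3)), ((0 : ZMod 3), (0 : ZMod 3))), (((1 : ZMod 3), (1 : ZMod 3)), ((2 : ZMod 3), (2 : ZMod 3)))),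
      ((((2 : ZMod 3), (1 : ZMod 3)), ((2 : ZMod 3), (0 : ZMod 3))), (((2 : ZMod 3), (1 : ZMod 3)), ((0 : ZMod 3), (1 : ZMod 3)))),
      ((((2 : ZMod 3), (0 : ZMod 3)), ((0 : ZMod 3), (0 : ZMod 3))), (((1 : ZMod 3), (1 : ZMod 3)), ((1 : ZMod 3), (1 : ZMod 3)))),
      ((((1 : ZMod 3), (2 : ZMod 3)), ((0 : ZMod 3), (1 : ZMod 3))), (((1 : ZMod 3), (2 : ZMod 3)), ((2 : ZMod 3), (0 : ZMod 3))))]),
   ((((1 : ZMod 2), (0 : ZMod 2)), (((0 : ZMod 2), (0 : ZMod 2)), (((1 : ZMod 2), (0 : ZMod 2)), ()))), [],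
    [((((0 : ZMod 3), (2 : ZMod 3)), ((0 : ZMod 3), (0 : ZMod 3))), (((1 : ZMod 3), (1 : ZMod 3)), ((2 : ZMod 3), (2 : ZMod 3)))),
      ((((2 : ZMod 3), (1 : ZMod 3)), ((2 : ZMod 3), (0 : ZMod 3))), (((2 : ZMod 3), (1 : ZMod 3)), ((0 : ZMod 3), (1 : ZMod 3)))),
      ((((2 : ZMod 3), (0 : ZMod 3)), ((0 : ZMod 3), (0 : ZMod 3))), (((1 : ZMod 3), (1 : ZMod 3)), ((1 : ZMod 3), (1 : ZMod 3)))),
      ((((1 : ZMod 3), (2 : ZMod 3)), ((0 : ZMod 3), (1 : ZMod 3))), (((1 : ZMod 3), (2 : ZMod 3)), ((2 : ZMod 3), (0 : ZMod 3))))])]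

/-- The possible images of the generators. -/
def candp3 : List (List plus3.Code) :=
  [[(((1 : ZMod 2), (0 : ZMod 2)), (((0 : ZMod 2), (0 : ZMod 2)), (((0 : ZMod 2), (0 : ZMod 2)), ()))), (((1 : ZMod 2), (0 : ZMod 2)), (((0 : ZMod 2), (1 : ZMod 2)), (((1 : ZMod 2), (0 : ZMod 2)), ())))],
   [(((0 : ZMod 2), (1 : ZMod 2)), (((0 : ZMod 2), (0 : ZMod 2)), (((0 : ZMod 2), (0 : ZMod 2)), ()))), (((0 : ZMod 2), (1 : ZMod 2)), (((0 : ZMod 2), (1 : ZMod 2)), (((1 : ZMod 2), (0 : ZMod 2)), ())))],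
   [(((0 : ZMod 2), (0 : ZMod 2)), (((1 : ZMod 2), (0 : ZMod 2)), (((0 : ZMod 2), (0 : ZMod 2)), ()))), (((0 : ZMod 2), (1 : ZMod 2)), (((0 : ZMod 2), (1 : ZMod 2)), (((0 : ZMod 2), (1 : ZMod 2)), ()))), (((1 : ZMod 2), (0 : ZMod 2)), (((1 : ZMod 2), (0 : ZMod 2)), (((0 : ZMod 2), (0 : ZMod 2)), ()))), (((1 : ZMod 2), (1 : ZMod 2)), (((0 : ZMod 2), (0 : ZMod 2)), (((1 : ZMod 2), (1 : ZMod 2)), ())))],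
   [(((0 : ZMod 2), (0 : ZMod 2)), (((0 : ZMod 2), (0 : ZMod 2)), (((1 : ZMod 2), (0 : ZMod 2)), ()))), (((0 : ZMod 2), (0 : ZMod 2)), (((0 : ZMod 2), (1 : ZMod 2)), (((0 : ZMod 2), (0 : ZMod 2)), ())))],
   [(((0 : ZMod 2), (0 : ZMod 2)), (((0 : ZMod 2), (0 : ZMod 2)), (((1 : ZMod 2), (0 : ZMod 2)), ()))), (((0 : ZMod 2), (0 : ZMod 2)), (((0 : ZMod 2), (1 : ZMod 2)), (((0 : ZMod 2), (0 : ZMod 2)), ())))],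
   [(((0 : ZMod 2), (0 : ZMod 2)), (((0 : ZMod 2), (0 : ZMod 2)), (((0 : ZMod 2), (1 : ZMod 2)), ()))), (((0 : ZMod 2), (1 : ZMod 2)), (((1 : ZMod 2), (0 : ZMod 2)), (((1 : ZMod 2), (0 : ZMod 2)), ()))), (((1 : ZMod 2), (0 : ZMod 2)), (((0 : ZMod 2), (0 : ZMod 2)), (((0 : ZMod 2), (1 : ZMod 2)), ()))), (((1 : ZMod 2), (1 : ZMod 2)), (((1 : ZMod 2), (1 : ZMod 2)), (((0 : ZMod 2), (0 : ZMod 2)), ())))]]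

/-- The first vector. -/
def um3 : minus3.Vec := ((((2 : ZMod 3), (0 : ZMod 3)), ((2 : ZMod 3), (0 : ZMod 3))), (((2 : ZMod 3), (2 : ZMod 3)), ((0 : ZMod 3), (0 : ZMod 3))))

/-- The second vector. -/
def vm3 : minus3.Vec := ((((2 : ZMod 3), (0 : ZMod 3)), ((2 : ZMod 3), (1 : ZMod 3))), (((2 : ZMod 3), (2 : ZMod 3)), ((1 : ZMod 3), (2 : ZMod 3))))

/-- The certificate. -/
def stepsm3 : List minus3.Step :=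
  [((((0 : ZMod 2), (0 : ZMod 2)), (((0 : ZMod 2), (0 : ZMod 2)), ((0 : ZMod 2), (1 : ZMod 2)))), [],
    [((((2 : ZMod 3), (0 : ZMod 3)), ((2 : ZMod 3), (0 : ZMod 3))), (((2 : ZMod 3), (2 : ZMod 3)), ((0 : ZMod 3), (0 : ZMod 3)))),
      ((((2 : ZMod 3), (0 : ZMod 3)), ((2 : ZMod 3), (1 : ZMod 3))), (((2 : ZMod 3), (2 : ZMod 3)), ((1 : ZMod 3), (2 : ZMod 3)))),
      ((((2 : ZMod 3), (2 : ZMod 3)), ((2 : ZMod 3), (2 : ZMod 3))), (((1 : ZMod 3), (0 : ZMod 3)), ((0 : ZMod 3), (0 : ZMod 3)))),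
      ((((2 : ZMod 3), (2 : ZMod 3)), ((0 : ZMod 3), (1 : ZMod 3))), (((1 : ZMod 3), (0 : ZMod 3)), ((0 : ZMod 3), (2 : ZMod 3))))]),
   ((((0 : ZMod 2), (1 : ZMod 2)), (((0 : ZMod 2), (0 : ZMod 2)), ((1 : ZMod 2), (0 : ZMod 2)))), [],
    [((((2 : ZMod 3), (0 : ZMod 3)), ((2 : ZMod 3), (0 : ZMod 3))), (((2 : ZMod 3), (2 : ZMod 3)), ((0 : ZMod 3), (0 : ZMod 3)))),
      ((((2 : ZMod 3), (0 : ZMod 3)), ((2 : ZMod 3), (1 : ZMod 3))), (((2 : ZMod 3), (2 : ZMod 3)), ((1 : ZMod 3), (2 : ZMod 3)))),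
      ((((2 : ZMod 3), (2 : ZMod 3)), ((2 : ZMod 3), (2 : ZMod 3))), (((1 : ZMod 3), (0 : ZMod 3)), ((0 : ZMod 3), (0 : ZMod 3)))),
      ((((2 : ZMod 3), (2 : ZMod 3)), ((0 : ZMod 3), (1 : ZMod 3))), (((1 : ZMod 3), (0 : ZMod 3)), ((0 : ZMod 3), (2 : ZMod 3))))]),
   ((((1 : ZMod 2), (0 : ZMod 2)), (((0 : ZMod 2), (1 : ZMod 2)), ((1 : ZMod 2), (0 : ZMod 2)))), [],
    [((((2 : ZMod 3), (0 : ZMod 3)), ((2 : ZMod 3), (0 : ZMod 3))), (((2 : ZMod 3), (2 : ZMod 3)), ((0 : ZMod 3), (0 : ZMod 3)))),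
      ((((2 : ZMod 3), (0 : ZMod 3)), ((2 : ZMod 3), (1 : ZMod 3))), (((2 : ZMod 3), (2 : ZMod 3)), ((1 : ZMod 3), (2 : ZMod 3)))),
      ((((2 : ZMod 3), (2 : ZMod 3)), ((2 : ZMod 3), (2 : ZMod 3))), (((1 : ZMod 3), (0 : ZMod 3)), ((0 : ZMod 3), (0 : ZMod 3)))),
      ((((2 : ZMod 3), (2 : ZMod 3)), ((0 : ZMod 3), (1 : ZMod 3))), (((1 : ZMod 3), (0 : ZMod 3)), ((0 : ZMod 3), (2 : ZMod 3))))])]

/-- The possible images of the generators. -/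
def candm3 : List (List minus3.Code) :=
  [[(((0 : ZMod 2), (0 : ZMod 2)), (((1 : ZMod 2), (1 : ZMod 2)), ((0 : ZMod 2), (1 : ZMod 2)))), (((1 : ZMod 2), (0 : ZMod 2)), (((0 : ZMod 2), (0 : ZMod 2)), ((0 : ZMod 2), (0 : ZMod 2)))), (((1 : ZMod 2), (0 : ZMod 2)), (((0 : ZMod 2), (1 : ZMod 2)), ((0 : ZMod 2), (0 : ZMod 2)))), (((1 : ZMod 2), (1 : ZMod 2)), (((1 : ZMod 2), (1 : ZMod 2)), ((0 : ZMod 2), (0 : ZMod 2))))],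
   [(((0 : ZMod 2), (0 : ZMod 2)), (((1 : ZMod 2), (0 : ZMod 2)), ((0 : ZMod 2), (0 : ZMod 2)))), (((0 : ZMod 2), (1 : ZMod 2)), (((0 : ZMod 2), (0 : ZMod 2)), ((0 : ZMod 2), (0 : ZMod 2)))), (((0 : ZMod 2), (1 : ZMod 2)), (((0 : ZMod 2), (1 : ZMod 2)), ((0 : ZMod 2), (0 : ZMod 2)))), (((1 : ZMod 2), (1 : ZMod 2)), (((1 : ZMod 2), (0 : ZMod 2)), ((0 : ZMod 2), (1 : ZMod 2))))],
   [(((0 : ZMod 2), (0 : ZMod 2)), (((1 : ZMod 2), (0 : ZMod 2)), ((0 : ZMod 2), (0 : ZMod 2)))), (((0 : ZMod 2), (1 : ZMod 2)), (((0 : ZMod 2), (0 : ZMod 2)), ((0 : ZMod 2), (0 : ZMod 2)))), (((0 : ZMod 2), (1 : ZMod 2)), (((0 : ZMod 2), (1 : ZMod 2)), ((0 : ZMod 2), (0 : ZMod 2)))), (((1 : ZMod 2), (1 : ZMod 2)), (((1 : ZMod 2), (0 : ZMod 2)), ((0 : ZMod 2), (1 : ZMod 2))))],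
   [(((0 : ZMod 2), (0 : ZMod 2)), (((0 : ZMod 2), (1 : ZMod 2)), ((0 : ZMod 2), (0 : ZMod 2)))), (((1 : ZMod 2), (1 : ZMod 2)), (((0 : ZMod 2), (0 : ZMod 2)), ((0 : ZMod 2), (1 : ZMod 2))))],
   [(((0 : ZMod 2), (0 : ZMod 2)), (((0 : ZMod 2), (0 : ZMod 2)), ((1 : ZMod 2), (0 : ZMod 2)))), (((0 : ZMod 2), (0 : ZMod 2)), (((0 : ZMod 2), (1 : ZMod 2)), ((1 : ZMod 2), (0 : ZMod 2)))), (((0 : ZMod 2), (1 : ZMod 2)), (((1 : ZMod 2), (0 : ZMod 2)), ((1 : ZMod 2), (0 : ZMod 2)))), (((1 : ZMod 2), (0 : ZMod 2)), (((1 : ZMod 2), (0 : ZMod 2)), ((1 : ZMod 2), (1 : ZMod 2))))],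
   [(((0 : ZMod 2), (0 : ZMod 2)), (((0 : ZMod 2), (0 : ZMod 2)), ((0 : ZMod 2), (1 : ZMod 2))))]]

/-- The first vector. -/
def up4 : plus4.Vec := (((((1 : ZMod 3), (0 : ZMod 3)), ((1 : ZMod 3), (0 : ZMod 3))), (((1 : ZMod 3), (1 : ZMod 3)), ((2 : ZMod 3), (1 : ZMod 3)))), ((((1 : ZMod 3), (1 : ZMod 3)), ((0 : ZMod 3), (0 : ZMod 3))), (((2 : ZMod 3), (2 : ZMod 3)), ((2 : ZMod 3), (0 : ZMod 3)))))

/-- The second vector. -/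
def vp4 : plus4.Vec := (((((1 : ZMod 3), (2 : ZMod 3)), ((0 : ZMod 3), (2 : ZMod 3))), (((1 : ZMod 3), (0 : ZMod 3)), ((1 : ZMod 3), (0 : ZMod 3)))), ((((2 : ZMod 3), (1 : ZMod 3)), ((2 : ZMod 3), (2 : ZMod 3))), (((0 : ZMod 3), (0 : ZMod 3)), ((2 : ZMod 3), (1 : ZMod 3)))))

/-- The certificate. -/
def stepsp4 : List plus4.Step :=
  [((((0 : ZMod 2), (0 : ZMod 2)), (((0 : ZMod 2), (0 : ZMod 2)), (((0 : ZMod 2), (1 : ZMod 2)), (((0 : ZMod 2), (0 : ZMod 2)), ())))), [((((0 : ZMod 2), (0 : ZMod 2)), (((0 : ZMod 2), (0 : ZMod 2)), (((0 : ZMod 2), (0 : ZMod 2)), (((0 : ZMod 2), (0 : ZMod 2)), ())))), true, false, true)],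
    [(((((1 : ZMod 3), (0 : ZMod 3)), ((1 : ZMod 3), (0 : ZMod 3))), (((1 : ZMod 3), (1 : ZMod 3)), ((2 : ZMod 3), (1 : ZMod 3)))), ((((1 : ZMod 3), (1 : ZMod 3)), ((0 : ZMod 3), (0 : ZMod 3))), (((2 : ZMod 3), (2 : ZMod 3)), ((2 : ZMod 3), (0 : ZMod 3))))),
      (((((1 : ZMod 3), (2 : ZMod 3)), ((0 : ZMod 3), (2 : ZMod 3))), (((1 : ZMod 3), (0 : ZMod 3)), ((1 : ZMod 3), (0 : ZMod 3)))), ((((2 : ZMod 3), (1 : ZMod 3)), ((2 : ZMod 3), (2 : ZMod 3))), (((0 : ZMod 3), (0 : ZMod 3)), ((2 : ZMod 3), (1 : ZMod 3))))),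
      (((((1 : ZMod 3), (0 : ZMod 3)), ((2 : ZMod 3), (0 : ZMod 3))), (((1 : ZMod 3), (1 : ZMod 3)), ((1 : ZMod 3), (2 : ZMod 3)))), ((((1 : ZMod 3), (1 : ZMod 3)), ((0 : ZMod 3), (0 : ZMod 3))), (((2 : ZMod 3), (2 : ZMod 3)), ((1 : ZMod 3), (0 : ZMod 3))))),
      (((((1 : ZMod 3), (2 : ZMod 3)), ((0 : ZMod 3), (1 : ZMod 3))), (((1 : ZMod 3), (0 : ZMod 3)), ((2 : ZMod 3), (0 : ZMod 3)))), ((((2 : ZMod 3), (1 : ZMod 3)), ((1 : ZMod 3), (1 : ZMod 3))), (((0 : ZMod 3), (0 : ZMod 3)), ((1 : ZMod 3), (2 : ZMod 3)))))]),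
   ((((0 : ZMod 2), (0 : ZMod 2)), (((0 : ZMod 2), (0 : ZMod 2)), (((0 : ZMod 2), (0 : ZMod 2)), (((1 : ZMod 2), (0 : ZMod 2)), ())))), [],
    [(((((1 : ZMod 3), (0 : ZMod 3)), ((1 : ZMod 3), (0 : ZMod 3))), (((1 : ZMod 3), (1 : ZMod 3)), ((2 : ZMod 3), (1 : ZMod 3)))), ((((1 : ZMod 3), (1 : ZMod 3)), ((0 : ZMod 3), (0 : ZMod 3))), (((2 : ZMod 3), (2 : ZMod 3)), ((2 : ZMod 3), (0 : ZMod 3))))),
      (((((1 : ZMod 3), (2 : ZMod 3)), ((0 : ZMod 3), (2 : ZMod 3))), (((1 : ZMod 3), (0 : ZMod 3)), ((1 : ZMod 3), (0 : ZMod 3)))), ((((2 : ZMod 3), (1 : ZMod 3)), ((2 : ZMod 3), (2 : ZMod 3))), (((0 : ZMod 3), (0 : ZMod 3)), ((2 : ZMod 3), (1 : ZMod 3))))),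
      (((((1 : ZMod 3), (0 : ZMod 3)), ((2 : ZMod 3), (0 : ZMod 3))), (((1 : ZMod 3), (1 : ZMod 3)), ((1 : ZMod 3), (2 : ZMod 3)))), ((((1 : ZMod 3), (1 : ZMod 3)), ((0 : ZMod 3), (0 : ZMod 3))), (((2 : ZMod 3), (2 : ZMod 3)), ((1 : ZMod 3), (0 : ZMod 3))))),
      (((((1 : ZMod 3), (2 : ZMod 3)), ((0 : ZMod 3), (1 : ZMod 3))), (((1 : ZMod 3), (0 : ZMod 3)), ((2 : ZMod 3), (0 : ZMod 3)))), ((((2 : ZMod 3), (1 : ZMod 3)), ((1 : ZMod 3), (1 : ZMod 3))), (((0 : ZMod 3), (0 : ZMod 3)), ((1 : ZMod 3), (2 : ZMod 3))))),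
      (((((0 : ZMod 3), (1 : ZMod 3)), ((0 : ZMod 3), (1 : ZMod 3))), (((1 : ZMod 3), (1 : ZMod 3)), ((1 : ZMod 3), (2 : ZMod 3)))), ((((1 : ZMod 3), (1 : ZMod 3)), ((0 : ZMod 3), (0 : ZMod 3))), (((2 : ZMod 3), (2 : ZMod 3)), ((0 : ZMod 3), (2 : ZMod 3))))),
      (((((2 : ZMod 3), (1 : ZMod 3)), ((2 : ZMod 3), (0 : ZMod 3))), (((0 : ZMod 3), (1 : ZMod 3)), ((0 : ZMod 3), (1 : ZMod 3)))), ((((1 : ZMod 3), (2 : ZMod 3)), ((2 : ZMod 3), (2 : ZMod 3))), (((0 : ZMod 3), (0 : ZMod 3)), ((1 : ZMod 3), (2 : ZMod 3))))),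
      (((((0 : ZMod 3), (1 : ZMod 3)), ((0 : ZMod 3), (2 : ZMod 3))), (((1 : ZMod 3), (1 : ZMod 3)), ((2 : ZMod 3), (1 : ZMod 3)))), ((((1 : ZMod 3), (1 : ZMod 3)), ((0 : ZMod 3), (0 : ZMod 3))), (((2 : ZMod 3), (2 : ZMod 3)), ((0 : ZMod 3), (1 : ZMod 3))))),
      (((((2 : ZMod 3), (1 : ZMod 3)), ((1 : ZMod 3), (0 : ZMod 3))), (((0 : ZMod 3), (1 : ZMod 3)), ((0 : ZMod 3), (2 : ZMod 3)))), ((((1 : ZMod 3), (2 : ZMod 3)), ((1 : ZMod 3), (1 : ZMod 3))), (((0 : ZMod 3), (0 : ZMod 3)), ((2 : ZMod 3), (1 : ZMod 3)))))]),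
   ((((0 : ZMod 2), (0 : ZMod 2)), (((0 : ZMod 2), (0 : ZMod 2)), (((0 : ZMod 2), (0 : ZMod 2)), (((0 : ZMod 2), (1 : ZMod 2)), ())))), [],
    [(((((1 : ZMod 3), (0 : ZMod 3)), ((1 : ZMod 3), (0 : ZMod 3))), (((1 : ZMod 3), (1 : ZMod 3)), ((2 : ZMod 3), (1 : ZMod 3)))), ((((1 : ZMod 3), (1 : ZMod 3)), ((0 : ZMod 3), (0 : ZMod 3))), (((2 : ZMod 3), (2 : ZMod 3)), ((2 : ZMod 3), (0 : ZMod 3))))),
      (((((1 : ZMod 3), (2 : ZMod 3)), ((0 : ZMod 3), (2 : ZMod 3))), (((1 : ZMod 3), (0 : ZMod 3)), ((1 : ZMod 3), (0 : ZMod 3)))), ((((2 : ZMod 3), (1 : ZMod 3)), ((2 : ZMod 3), (2 : ZMod 3))), (((0 : ZMod 3), (0 : ZMod 3)), ((2 : ZMod 3), (1 : ZMod 3))))),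
      (((((1 : ZMod 3), (0 : ZMod 3)), ((2 : ZMod 3), (0 : ZMod 3))), (((1 : ZMod 3), (1 : ZMod 3)), ((1 : ZMod 3), (2 : ZMod 3)))), ((((1 : ZMod 3), (1 : ZMod 3)), ((0 : ZMod 3), (0 : ZMod 3))), (((2 : ZMod 3), (2 : ZMod 3)), ((1 : ZMod 3), (0 : ZMod 3))))),
      (((((1 : ZMod 3), (2 : ZMod 3)), ((0 : ZMod 3), (1 : ZMod 3))), (((1 : ZMod 3), (0 : ZMod 3)), ((2 : ZMod 3), (0 : ZMod 3)))), ((((2 : ZMod 3), (1 : ZMod 3)), ((1 : ZMod 3), (1 : ZMod 3))), (((0 : ZMod 3), (0 : ZMod 3)), ((1 : ZMod 3), (2 : ZMod 3))))),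
      (((((0 : ZMod 3), (1 : ZMod 3)), ((0 : ZMod 3), (1 : ZMod 3))), (((1 : ZMod 3), (1 : ZMod 3)), ((1 : ZMod 3), (2 : ZMod 3)))), ((((1 : ZMod 3), (1 : ZMod 3)), ((0 : ZMod 3), (0 : ZMod 3))), (((2 : ZMod 3), (2 : ZMod 3)), ((0 : ZMod 3), (2 : ZMod 3))))),
      (((((2 : ZMod 3), (1 : ZMod 3)), ((2 : ZMod 3), (0 : ZMod 3))), (((0 : ZMod 3), (1 : ZMod 3)), ((0 : ZMod 3), (1 : ZMod 3)))), ((((1 : ZMod 3), (2 : ZMod 3)), ((2 : ZMod 3), (2 : ZMod 3))), (((0 : ZMod 3), (0 : ZMod 3)), ((1 : ZMod 3), (2 : ZMod 3))))),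
      (((((0 : ZMod 3), (1 : ZMod 3)), ((0 : ZMod 3), (2 : ZMod 3))), (((1 : ZMod 3), (1 : ZMod 3)), ((2 : ZMod 3), (1 : ZMod 3)))), ((((1 : ZMod 3), (1 : ZMod 3)), ((0 : ZMod 3), (0 : ZMod 3))), (((2 : ZMod 3), (2 : ZMod 3)), ((0 : ZMod 3), (1 : ZMod 3))))),
      (((((2 : ZMod 3), (1 : ZMod 3)), ((1 : ZMod 3), (0 : ZMod 3))), (((0 : ZMod 3), (1 : ZMod 3)), ((0 : ZMod 3), (2 : ZMod 3)))), ((((1 : ZMod 3), (2 : ZMod 3)), ((1 : ZMod 3), (1 : ZMod 3))), (((0 : ZMod 3), (0 : ZMod 3)), ((2 : ZMod 3), (1 : ZMod 3))))),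
      (((((1 : ZMod 3), (0 : ZMod 3)), ((1 : ZMod 3), (0 : ZMod 3))), (((1 : ZMod 3), (2 : ZMod 3)), ((2 : ZMod 3), (2 : ZMod 3)))), ((((1 : ZMod 3), (2 : ZMod 3)), ((0 : ZMod 3), (0 : ZMod 3))), (((2 : ZMod 3), (1 : ZMod 3)), ((2 : ZMod 3), (0 : ZMod 3))))),
      (((((1 : ZMod 3), (1 : ZMod 3)), ((0 : ZMod 3), (1 : ZMod 3))), (((1 : ZMod 3), (0 : ZMod 3)), ((1 : ZMod 3), (0 : ZMod 3)))), ((((2 : ZMod 3), (2 : ZMod 3)), ((2 : ZMod 3), (1 : ZMod 3))), (((0 : ZMod 3), (0 : ZMod 3)), ((2 : ZMod 3), (2 : ZMod 3))))),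
      (((((1 : ZMod 3), (0 : ZMod 3)), ((2 : ZMod 3), (0 : ZMod 3))), (((1 : ZMod 3), (2 : ZMod 3)), ((1 : ZMod 3), (1 : ZMod 3)))), ((((1 : ZMod 3), (2 : ZMod 3)), ((0 : ZMod 3), (0 : ZMod 3))), (((2 : ZMod 3), (1 : ZMod 3)), ((1 : ZMod 3), (0 : ZMod 3))))),
      (((((1 : ZMod 3), (1 : ZMod 3)), ((0 : ZMod 3), (2 : ZMod 3))), (((1 : ZMod 3), (0 : ZMod 3)), ((2 : ZMod 3), (0 : ZMod 3)))), ((((2 : ZMod 3), (2 : ZMod 3)), ((1 : ZMod 3), (2 : ZMod 3))), (((0 : ZMod 3), (0 : ZMod 3)), ((1 : ZMod 3), (1 : ZMod 3))))),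
      (((((0 : ZMod 3), (2 : ZMod 3)), ((0 : ZMod 3), (2 : ZMod 3))), (((1 : ZMod 3), (2 : ZMod 3)), ((1 : ZMod 3), (1 : ZMod 3)))), ((((1 : ZMod 3), (2 : ZMod 3)), ((0 : ZMod 3), (0 : ZMod 3))), (((2 : ZMod 3), (1 : ZMod 3)), ((0 : ZMod 3), (1 : ZMod 3))))),
      (((((2 : ZMod 3), (2 : ZMod 3)), ((2 : ZMod 3), (0 : ZMod 3))), (((0 : ZMod 3), (2 : ZMod 3)), ((0 : ZMod 3), (2 : ZMod 3)))), ((((1 : ZMod 3), (1 : ZMod 3)), ((2 : ZMod 3), (1 : ZMod 3))), (((0 : ZMod 3), (0 : ZMod 3)), ((1 : ZMod 3), (1 : ZMod 3))))),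
      (((((0 : ZMod 3), (2 : ZMod 3)), ((0 : ZMod 3), (1 : ZMod 3))), (((1 : ZMod 3), (2 : ZMod 3)), ((2 : ZMod 3), (2 : ZMod 3)))), ((((1 : ZMod 3), (2 : ZMod 3)), ((0 : ZMod 3), (0 : ZMod 3))), (((2 : ZMod 3), (1 : ZMod 3)), ((0 : ZMod 3), (2 : ZMod 3))))),
      (((((2 : ZMod 3), (2 : ZMod 3)), ((1 : ZMod 3), (0 : ZMod 3))), (((0 : ZMod 3), (2 : ZMod 3)), ((0 : ZMod 3), (1 : ZMod 3)))), ((((1 : ZMod 3), (1 : ZMod 3)), ((1 : ZMod 3), (2 : ZMod 3))), (((0 : ZMod 3), (0 : ZMod 3)), ((2 : ZMod 3), (2 : ZMod 3)))))])]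

/-- The coefficients. -/
def coefp4 : List (List (ZMod 3)) :=
  [[1, 0, 1, 0, 2, 0, 2, 0, 1, 0, 1, 0, 2, 0, 2, 0],
   [2, 0, 2, 0, 1, 0, 1, 0, 1, 0, 1, 0, 2, 0, 2, 0],
   [2, 2, 1, 1, 0, 1, 0, 2, 2, 2, 1, 1, 0, 1, 0, 2],
   [0, 1, 0, 2, 2, 2, 1, 1, 0, 2, 0, 1, 1, 1, 2, 2],
   [0, 1, 0, 1, 0, 1, 0, 1, 0, 1, 0, 1, 0, 1, 0, 1],
   [0, 1, 0, 1, 0, 1, 0, 1, 0, 2, 0, 2, 0, 2, 0, 2],
   [0, 0, 0, 0, 1, 0, 2, 0, 0, 0, 0, 0, 1, 0, 2, 0],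
   [1, 0, 2, 0, 0, 0, 0, 0, 2, 0, 1, 0, 0, 0, 0, 0],
   [1, 0, 1, 0, 2, 1, 2, 1, 1, 0, 1, 0, 2, 1, 2, 1],
   [2, 1, 2, 1, 1, 0, 1, 0, 1, 2, 1, 2, 2, 0, 2, 0],
   [2, 0, 1, 0, 2, 2, 1, 1, 2, 0, 1, 0, 2, 2, 1, 1],
   [2, 2, 1, 1, 2, 0, 1, 0, 1, 1, 2, 2, 1, 0, 2, 0],
   [1, 1, 1, 1, 1, 2, 1, 2, 1, 1, 1, 1, 1, 2, 1, 2],
   [1, 2, 1, 2, 1, 1, 1, 1, 2, 1, 2, 1, 2, 2, 2, 2],
   [1, 2, 2, 1, 2, 1, 1, 2, 1, 2, 2, 1, 2, 1, 1, 2],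
   [2, 1, 1, 2, 1, 2, 2, 1, 1, 2, 2, 1, 2, 1, 1, 2]]

/-- The first vector. -/
def um4 : minus4.Vec := (((((0 : ZMod 3), (0 : ZMod 3)), ((0 : ZMod 3), (1 : ZMod 3))), (((0 : ZMod 3), (2 : ZMod 3)), ((0 : ZMod 3), (2 : ZMod 3)))), ((((2 : ZMod 3), (1 : ZMod 3)), ((1 : ZMod 3), (0 : ZMod 3))), (((1 : ZMod 3), (0 : ZMod 3)), ((1 : ZMod 3), (1 : ZMod 3)))))

/-- The second vector. -/
def vm4 : minus4.Vec := (((((2 : ZMod 3), (1 : ZMod 3)), ((2 : ZMod 3), (1 : ZMod 3))), (((1 : ZMod 3), (1 : ZMod 3)), ((0 : ZMod 3), (1 : ZMod 3)))), ((((1 : ZMod 3), (0 : ZMod 3)), ((0 : ZMod 3), (2 : ZMod 3))), (((0 : ZMod 3), (2 : ZMod 3)), ((2 : ZMod 3), (1 : ZMod 3)))))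

/-- The certificate. -/
def stepsm4 : List minus4.Step :=
  [((((0 : ZMod 2), (0 : ZMod 2)), (((0 : ZMod 2), (0 : ZMod 2)), (((0 : ZMod 2), (1 : ZMod 2)), ((0 : ZMod 2), (1 : ZMod 2))))), [((((0 : ZMod 2), (0 : ZMod 2)), (((0 : ZMod 2), (0 : ZMod 2)), (((0 : ZMod 2), (0 : ZMod 2)), ((0 : ZMod 2), (0 : ZMod 2))))), true, false, true)],
    [(((((0 : ZMod 3), (0 : ZMod 3)), ((0 : ZMod 3), (1 : ZMod 3))), (((0 : ZMod 3), (2 : ZMod 3)), ((0 : ZMod 3), (2 : ZMod 3)))), ((((2 : ZMod 3), (1 : ZMod 3)), ((1 : ZMod 3), (0 : ZMod 3))), (((1 : ZMod 3), (0 : ZMod 3)), ((1 : ZMod 3), (1 : ZMod 3))))),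
      (((((2 : ZMod 3), (1 : ZMod 3)), ((2 : ZMod 3), (1 : ZMod 3))), (((1 : ZMod 3), (1 : ZMod 3)), ((0 : ZMod 3), (1 : ZMod 3)))), ((((1 : ZMod 3), (0 : ZMod 3)), ((0 : ZMod 3), (2 : ZMod 3))), (((0 : ZMod 3), (2 : ZMod 3)), ((2 : ZMod 3), (1 : ZMod 3))))),
      (((((0 : ZMod 3), (0 : ZMod 3)), ((2 : ZMod 3), (1 : ZMod 3))), (((2 : ZMod 3), (1 : ZMod 3)), ((1 : ZMod 3), (2 : ZMod 3)))), ((((0 : ZMod 3), (1 : ZMod 3)), ((2 : ZMod 3), (2 : ZMod 3))), (((1 : ZMod 3), (1 : ZMod 3)), ((1 : ZMod 3), (0 : ZMod 3))))),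
      (((((0 : ZMod 3), (1 : ZMod 3)), ((0 : ZMod 3), (2 : ZMod 3))), (((2 : ZMod 3), (0 : ZMod 3)), ((2 : ZMod 3), (1 : ZMod 3)))), ((((1 : ZMod 3), (1 : ZMod 3)), ((1 : ZMod 3), (2 : ZMod 3))), (((2 : ZMod 3), (1 : ZMod 3)), ((0 : ZMod 3), (2 : ZMod 3)))))]),
   ((((0 : ZMod 2), (0 : ZMod 2)), (((0 : ZMod 2), (0 : ZMod 2)), (((0 : ZMod 2), (0 : ZMod 2)), ((1 : ZMod 2), (0 : ZMod 2))))), [],
    [(((((0 : ZMod 3), (0 : ZMod 3)), ((0 : ZMod 3), (1 : ZMod 3))), (((0 : ZMod 3), (2 : ZMod 3)), ((0 : ZMod 3), (2 : ZMod 3)))), ((((2 : ZMod 3), (1 : ZMod 3)), ((1 : ZMod 3), (0 : ZMod 3))), (((1 : ZMod 3), (0 : ZMod 3)), ((1 : ZMod 3), (1 : ZMod 3))))),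
      (((((2 : ZMod 3), (1 : ZMod 3)), ((2 : ZMod 3), (1 : ZMod 3))), (((1 : ZMod 3), (1 : ZMod 3)), ((0 : ZMod 3), (1 : ZMod 3)))), ((((1 : ZMod 3), (0 : ZMod 3)), ((0 : ZMod 3), (2 : ZMod 3))), (((0 : ZMod 3), (2 : ZMod 3)), ((2 : ZMod 3), (1 : ZMod 3))))),
      (((((0 : ZMod 3), (0 : ZMod 3)), ((2 : ZMod 3), (1 : ZMod 3))), (((2 : ZMod 3), (1 : ZMod 3)), ((1 : ZMod 3), (2 : ZMod 3)))), ((((0 : ZMod 3), (1 : ZMod 3)), ((2 : ZMod 3), (2 : ZMod 3))), (((1 : ZMod 3), (1 : ZMod 3)), ((1 : ZMod 3), (0 : ZMod 3))))),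
      (((((0 : ZMod 3), (1 : ZMod 3)), ((0 : ZMod 3), (2 : ZMod 3))), (((2 : ZMod 3), (0 : ZMod 3)), ((2 : ZMod 3), (1 : ZMod 3)))), ((((1 : ZMod 3), (1 : ZMod 3)), ((1 : ZMod 3), (2 : ZMod 3))), (((2 : ZMod 3), (1 : ZMod 3)), ((0 : ZMod 3), (2 : ZMod 3))))),
      (((((0 : ZMod 3), (0 : ZMod 3)), ((1 : ZMod 3), (0 : ZMod 3))), (((2 : ZMod 3), (0 : ZMod 3)), ((2 : ZMod 3), (0 : ZMod 3)))), ((((1 : ZMod 3), (1 : ZMod 3)), ((0 : ZMod 3), (2 : ZMod 3))), (((0 : ZMod 3), (2 : ZMod 3)), ((1 : ZMod 3), (2 : ZMod 3))))),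
      (((((1 : ZMod 3), (1 : ZMod 3)), ((1 : ZMod 3), (1 : ZMod 3))), (((1 : ZMod 3), (2 : ZMod 3)), ((1 : ZMod 3), (0 : ZMod 3)))), ((((0 : ZMod 3), (2 : ZMod 3)), ((2 : ZMod 3), (0 : ZMod 3))), (((2 : ZMod 3), (0 : ZMod 3)), ((1 : ZMod 3), (1 : ZMod 3))))),
      (((((0 : ZMod 3), (0 : ZMod 3)), ((1 : ZMod 3), (1 : ZMod 3))), (((1 : ZMod 3), (1 : ZMod 3)), ((2 : ZMod 3), (2 : ZMod 3)))), ((((1 : ZMod 3), (0 : ZMod 3)), ((2 : ZMod 3), (1 : ZMod 3))), (((1 : ZMod 3), (2 : ZMod 3)), ((0 : ZMod 3), (2 : ZMod 3))))),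
      (((((1 : ZMod 3), (0 : ZMod 3)), ((2 : ZMod 3), (0 : ZMod 3))), (((0 : ZMod 3), (1 : ZMod 3)), ((1 : ZMod 3), (1 : ZMod 3)))), ((((1 : ZMod 3), (2 : ZMod 3)), ((2 : ZMod 3), (2 : ZMod 3))), (((1 : ZMod 3), (1 : ZMod 3)), ((2 : ZMod 3), (0 : ZMod 3)))))]),
   ((((0 : ZMod 2), (0 : ZMod 2)), (((0 : ZMod 2), (0 : ZMod 2)), (((0 : ZMod 2), (0 : ZMod 2)), ((0 : ZMod 2), (1 : ZMod 2))))), [],
    [(((((0 : ZMod 3), (0 : ZMod 3)), ((0 : ZMod 3), (1 : ZMod 3))), (((0 : ZMod 3), (2 : ZMod 3)), ((0 : ZMod 3), (2 : ZMod 3)))), ((((2 : ZMod 3), (1 : ZMod 3)), ((1 : ZMod 3), (0 : ZMod 3))), (((1 : ZMod 3), (0 : ZMod 3)), ((1 : ZMod 3), (1 : ZMod 3))))),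
      (((((2 : ZMod 3), (1 : ZMod 3)), ((2 : ZMod 3), (1 : ZMod 3))), (((1 : ZMod 3), (1 : ZMod 3)), ((0 : ZMod 3), (1 : ZMod 3)))), ((((1 : ZMod 3), (0 : ZMod 3)), ((0 : ZMod 3), (2 : ZMod 3))), (((0 : ZMod 3), (2 : ZMod 3)), ((2 : ZMod 3), (1 : ZMod 3))))),
      (((((0 : ZMod 3), (0 : ZMod 3)), ((2 : ZMod 3), (1 : ZMod 3))), (((2 : ZMod 3), (1 : ZMod 3)), ((1 : ZMod 3), (2 : ZMod 3)))), ((((0 : ZMod 3), (1 : ZMod 3)), ((2 : ZMod 3), (2 : ZMod 3))), (((1 : ZMod 3), (1 : ZMod 3)), ((1 : ZMod 3), (0 : ZMod 3))))),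
      (((((0 : ZMod 3), (1 : ZMod 3)), ((0 : ZMod 3), (2 : ZMod 3))), (((2 : ZMod 3), (0 : ZMod 3)), ((2 : ZMod 3), (1 : ZMod 3)))), ((((1 : ZMod 3), (1 : ZMod 3)), ((1 : ZMod 3), (2 : ZMod 3))), (((2 : ZMod 3), (1 : ZMod 3)), ((0 : ZMod 3), (2 : ZMod 3))))),
      (((((0 : ZMod 3), (0 : ZMod 3)), ((1 : ZMod 3), (0 : ZMod 3))), (((2 : ZMod 3), (0 : ZMod 3)), ((2 : ZMod 3), (0 : ZMod 3)))), ((((1 : ZMod 3), (1 : ZMod 3)), ((0 : ZMod 3), (2 : ZMod 3))), (((0 : ZMod 3), (2 : ZMod 3)), ((1 : ZMod 3), (2 : ZMod 3))))),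
      (((((1 : ZMod 3), (1 : ZMod 3)), ((1 : ZMod 3), (1 : ZMod 3))), (((1 : ZMod 3), (2 : ZMod 3)), ((1 : ZMod 3), (0 : ZMod 3)))), ((((0 : ZMod 3), (2 : ZMod 3)), ((2 : ZMod 3), (0 : ZMod 3))), (((2 : ZMod 3), (0 : ZMod 3)), ((1 : ZMod 3), (1 : ZMod 3))))),
      (((((0 : ZMod 3), (0 : ZMod 3)), ((1 : ZMod 3), (1 : ZMod 3))), (((1 : ZMod 3), (1 : ZMod 3)), ((2 : ZMod 3), (2 : ZMod 3)))), ((((1 : ZMod 3), (0 : ZMod 3)), ((2 : ZMod 3), (1 : ZMod 3))), (((1 : ZMod 3), (2 : ZMod 3)), ((0 : ZMod 3), (2 : ZMod 3))))),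
      (((((1 : ZMod 3), (0 : ZMod 3)), ((2 : ZMod 3), (0 : ZMod 3))), (((0 : ZMod 3), (1 : ZMod 3)), ((1 : ZMod 3), (1 : ZMod 3)))), ((((1 : ZMod 3), (2 : ZMod 3)), ((2 : ZMod 3), (2 : ZMod 3))), (((1 : ZMod 3), (1 : ZMod 3)), ((2 : ZMod 3), (0 : ZMod 3))))),
      (((((0 : ZMod 3), (0 : ZMod 3)), ((1 : ZMod 3), (2 : ZMod 3))), (((2 : ZMod 3), (1 : ZMod 3)), ((2 : ZMod 3), (1 : ZMod 3)))), ((((0 : ZMod 3), (1 : ZMod 3)), ((1 : ZMod 3), (1 : ZMod 3))), (((1 : ZMod 3), (1 : ZMod 3)), ((2 : ZMod 3), (0 : ZMod 3))))),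
      (((((0 : ZMod 3), (1 : ZMod 3)), ((0 : ZMod 3), (1 : ZMod 3))), (((2 : ZMod 3), (0 : ZMod 3)), ((1 : ZMod 3), (2 : ZMod 3)))), ((((1 : ZMod 3), (1 : ZMod 3)), ((2 : ZMod 3), (1 : ZMod 3))), (((2 : ZMod 3), (1 : ZMod 3)), ((0 : ZMod 3), (1 : ZMod 3))))),
      (((((0 : ZMod 3), (0 : ZMod 3)), ((0 : ZMod 3), (1 : ZMod 3))), (((0 : ZMod 3), (1 : ZMod 3)), ((0 : ZMod 3), (2 : ZMod 3)))), ((((1 : ZMod 3), (2 : ZMod 3)), ((1 : ZMod 3), (0 : ZMod 3))), (((2 : ZMod 3), (0 : ZMod 3)), ((1 : ZMod 3), (1 : ZMod 3))))),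
      (((((1 : ZMod 3), (2 : ZMod 3)), ((2 : ZMod 3), (1 : ZMod 3))), (((2 : ZMod 3), (2 : ZMod 3)), ((0 : ZMod 3), (1 : ZMod 3)))), ((((2 : ZMod 3), (0 : ZMod 3)), ((0 : ZMod 3), (2 : ZMod 3))), (((0 : ZMod 3), (1 : ZMod 3)), ((2 : ZMod 3), (1 : ZMod 3))))),
      (((((0 : ZMod 3), (0 : ZMod 3)), ((1 : ZMod 3), (1 : ZMod 3))), (((2 : ZMod 3), (2 : ZMod 3)), ((2 : ZMod 3), (2 : ZMod 3)))), ((((2 : ZMod 3), (0 : ZMod 3)), ((2 : ZMod 3), (1 : ZMod 3))), (((2 : ZMod 3), (1 : ZMod 3)), ((0 : ZMod 3), (2 : ZMod 3))))),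
      (((((2 : ZMod 3), (0 : ZMod 3)), ((2 : ZMod 3), (0 : ZMod 3))), (((0 : ZMod 3), (2 : ZMod 3)), ((1 : ZMod 3), (1 : ZMod 3)))), ((((2 : ZMod 3), (1 : ZMod 3)), ((2 : ZMod 3), (2 : ZMod 3))), (((2 : ZMod 3), (2 : ZMod 3)), ((2 : ZMod 3), (0 : ZMod 3))))),
      (((((0 : ZMod 3), (0 : ZMod 3)), ((2 : ZMod 3), (0 : ZMod 3))), (((2 : ZMod 3), (0 : ZMod 3)), ((1 : ZMod 3), (0 : ZMod 3)))), ((((1 : ZMod 3), (1 : ZMod 3)), ((0 : ZMod 3), (1 : ZMod 3))), (((0 : ZMod 3), (2 : ZMod 3)), ((2 : ZMod 3), (1 : ZMod 3))))),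
      (((((1 : ZMod 3), (1 : ZMod 3)), ((2 : ZMod 3), (2 : ZMod 3))), (((1 : ZMod 3), (2 : ZMod 3)), ((2 : ZMod 3), (0 : ZMod 3)))), ((((0 : ZMod 3), (2 : ZMod 3)), ((1 : ZMod 3), (0 : ZMod 3))), (((2 : ZMod 3), (0 : ZMod 3)), ((2 : ZMod 3), (2 : ZMod 3)))))])]

/-- The coefficients. -/
def coefm4 : List (List (ZMod 3)) :=
  [[1, 0, 1, 2, 1, 1, 0, 1, 1, 2, 2, 0, 0, 2, 1, 1],
   [1, 1, 0, 1, 2, 0, 2, 1, 0, 1, 2, 2, 1, 2, 2, 0],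
   [2, 0, 1, 2, 2, 2, 0, 1, 2, 1, 2, 0, 0, 1, 1, 1],
   [2, 2, 0, 1, 1, 0, 2, 1, 0, 2, 2, 2, 2, 1, 2, 0],
   [2, 2, 1, 2, 0, 2, 1, 0, 1, 2, 1, 1, 2, 0, 0, 2],
   [0, 2, 1, 0, 1, 1, 2, 1, 1, 0, 0, 1, 1, 2, 1, 1],
   [0, 2, 2, 2, 2, 0, 1, 2, 1, 1, 0, 2, 1, 2, 1, 0],
   [2, 0, 1, 2, 0, 1, 1, 1, 2, 1, 2, 0, 1, 1, 0, 2],
   [2, 2, 0, 2, 1, 2, 2, 0, 0, 2, 1, 1, 1, 0, 1, 2],
   [1, 2, 2, 0, 1, 1, 0, 1, 2, 0, 2, 1, 0, 2, 1, 1],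
   [0, 1, 2, 0, 2, 2, 1, 2, 1, 0, 0, 1, 1, 2, 1, 1],
   [2, 2, 1, 2, 0, 2, 1, 0, 2, 1, 2, 2, 1, 0, 0, 1],
   [0, 2, 2, 2, 1, 2, 1, 0, 2, 2, 0, 1, 2, 0, 1, 2],
   [1, 2, 1, 0, 0, 1, 1, 1, 1, 0, 2, 1, 2, 2, 0, 1],
   [1, 2, 2, 0, 1, 1, 0, 1, 1, 0, 1, 2, 0, 1, 2, 2],
   [1, 1, 0, 1, 2, 1, 1, 0, 0, 2, 1, 1, 1, 0, 1, 2]]

theorem checkm2 : minus2.Chain um2 vm2 [um2, vm2] [] stepsm2 ∧ minus2.form um2 vm2 ≠ 0 ∧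
    dblList basisQ = coefm2.map (fun a => minus2.comb3 a (minus2.lastW [um2, vm2] stepsm2)) := by
  decide +kernel

theorem checkp4 : plus4.Chain up4 vp4 [up4, vp4] [] stepsp4 ∧ plus4.form up4 up4 ≠ 0 ∧
    dblList (dblList (dblList (dblList basis0))) =
      coefp4.map (fun a => plus4.comb3 a (plus4.lastW [up4, vp4] stepsp4)) := by
  decide +kernel

theorem checkm4 : minus4.Chain um4 vm4 [um4, vm4] [] stepsm4 ∧ minus4.form um4 vm4 ≠ 0 ∧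
    dblList (dblList (dblList basisQ)) =
      coefm4.map (fun a => minus4.comb3 a (minus4.lastW [um4, vm4] stepsm4)) := by
  decide +kernel

theorem checkp3 : plus3.Chain up3 vp3 [up3, vp3] [] stepsp3 ∧ plus3.form up3 up3 ≠ 0 := by
  decide +kernel

theorem checkm3 : minus3.Chain um3 vm3 [um3, vm3] [] stepsm3 ∧ minus3.form um3 vm3 ≠ 0 := by
  decide +kernel

theorem ne_p4 : up4 ≠ 0 ∧ vp4 ≠ 0 ∧ (∀ c s, plus4.op c up4 = sgn s up4 → c = 0) ∧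
    ∀ c s, plus4.op c up4 ≠ sgn s vp4 := by
  decide +kernel

theorem ne_m4 : um4 ≠ 0 ∧ vm4 ≠ 0 ∧ (∀ c s, minus4.op c um4 = sgn s um4 → c = 0) ∧
    ∀ c s, minus4.op c um4 ≠ sgn s vm4 := by
  decide +kernel

theorem ne_p3 : up3 ≠ 0 ∧ ∀ c s, plus3.op c up3 = sgn s up3 → c = 0 := by decide +kernel

theorem ne_m3 : um3 ≠ 0 ∧ ∀ c s, minus3.op c um3 = sgn s um3 → c = 0 := by decide +kernel

theorem ne_m2 : um2 ≠ 0 := by decide +kernel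

variable {K : Type u} [Field K] {V : Type v} [AddCommGroup V] [Module K V] [Finite V] [Nontrivial V]
  {E : Subgroup (V ≃ₗ[K] V)}

theorem stab_of_cert {M : Model} (F : Frame E M) (h3 : ∀ k : K, k = 0 ∨ k = 1 ∨ k = -1) {x y : M.Vec}
    (hx0 : x ≠ 0) {L : List M.Step} (hc : M.Chain x y [x, y] [] L)
    (hf : M.form x x ≠ 0 ∨ M.form x y ≠ 0) {B : List M.Vec} (hB : M.Spans B)
    {C : List (List (ZMod 3))} (hC : B = C.map fun a => M.comb3 a (M.lastW [x, y] L)) :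
    Stab E (F.φ x) (F.φ y) := by
  intro g _ hn hgx hgy
  obtain ⟨S, hm, hT⟩ := F.sym hn hx0 hgx
  have hx : S.m x = x := F.inj (by rw [hm, hgx])
  have hy : S.m y = y := F.inj (by rw [hm, hgy])
  have hform : ∀ p q, M.form (S.m p) (S.m q) = M.form p q := by
    rcases hf with h | h
    · exact S.form_eq hx hx h
    · exact S.form_eq hx hy h
  have h := (S.chain hform hx hy L [x, y] [] (by simp [hx, hy]) (by simp) hc).1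
  exact F.fixes h3 S hT (Model.Sym.id_of_spans M S h hB C hC)

theorem stab_minus2 (h3 : ∀ k : K, k = 0 ∨ k = 1 ∨ k = -1) (F : Frame E minus2) :
    Stab E (F.φ um2) (F.φ vm2) ∧ F.φ um2 ≠ 0 :=
  ⟨stab_of_cert F h3 ne_m2 checkm2.1 (Or.inr checkm2.2.1) Model.spans_minus.dbl checkm2.2.2,
    fun h => ne_m2 (F.inj (h.trans (map_zero _).symm))⟩

theorem good_plus4 (h3 : ∀ k : K, k = 0 ∨ k = 1 ∨ k = -1) (F : Frame E plus4) : ∃ x y, Good E x y :=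
  ⟨_, _, F.good ne_p4.1 ne_p4.2.1 h3 ne_p4.2.2.1 ne_p4.2.2.2
    (stab_of_cert F h3 ne_p4.1 checkp4.1 (Or.inl checkp4.2.1) Model.spans_plus.dbl.dbl.dbl.dbl checkp4.2.2)⟩

theorem good_minus4 (h3 : ∀ k : K, k = 0 ∨ k = 1 ∨ k = -1) (F : Frame E minus4) : ∃ x y, Good E x y :=
  ⟨_, _, F.good ne_m4.1 ne_m4.2.1 h3 ne_m4.2.2.1 ne_m4.2.2.2
    (stab_of_cert F h3 ne_m4.1 checkm4.1 (Or.inr checkm4.2.1) Model.spans_minus.dbl.dbl.dbl checkm4.2.2)⟩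

end Cfsg.Agent.Solv.CopPair
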