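import Cfsg.Agent.Lib.Solv.CopPair.Cert

/-!
Chains of pinned codes.
-/

set_option autoImplicit false
set_option linter.unusedSectionVars false
set_option linter.style.haveILetI false

namespace Cfsg.Agent.Solv.CopPair

namespace Model

variable (M : Model)

/-- A step: a code, its counting invariants, and the fixed vectors afterwards. -/
abbrev Step : Type := M.Code × List (M.Code × Bool × Bool × Bool) × List M.Vec

/-- A certificate. -/
def Chain (x y : M.Vec) : List M.Vec → List M.Code → List M.Step → Prop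
  | _, _, [] => True
  | W, P, s :: r => M.Pinned x y W P s.2.1 s.1 ∧ (∀ w ∈ s.2.2, w ∈ W ++ W.map (M.op s.1)) ∧
      Chain x y s.2.2 (s.1 :: P) r

instance decChain (x y : M.Vec) : ∀ (W : List M.Vec) (P : List M.Code) (L : List M.Step),
    Decidable (M.Chain x y W P L)
  | _, _, [] => isTrue trivial
  | W, P, s :: r =>
    haveI := decChain x y s.2.2 (s.1 :: P) r
    inferInstanceAs (Decidable (M.Pinned x y W P s.2.1 s.1 ∧
      (∀ w ∈ s.2.2, w ∈ W ++ W.map (M.op s.1)) ∧ M.Chain x y s.2.2 (s.1 :: P) r))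

/-- The fixed vectors after a chain. -/
def lastW : List M.Vec → List M.Step → List M.Vec
  | W, [] => W
  | _, s :: r => lastW s.2.2 r

/-- The pinned codes after a chain. -/
def lastP : List M.Code → List M.Step → List M.Code
  | P, [] => P
  | P, s :: r => lastP (s.1 :: P) r

theorem Sym.chain {M : Model} (S : M.Sym) {x y : M.Vec}
    (hform : ∀ p q, M.form (S.m p) (S.m q) = M.form p q) (hx : S.m x = x) (hy : S.m y = y) :
    ∀ (L : List M.Step) (W : List M.Vec) (P : List M.Code), (∀ w ∈ W, S.m w = w) →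
      (∀ b ∈ P, S.π b = b) → M.Chain x y W P L →
      (∀ w ∈ M.lastW W L, S.m w = w) ∧ ∀ b ∈ M.lastP P L, S.π b = b
  | [], _, _, hW, hP, _ => ⟨hW, hP⟩
  | s :: r, W, P, hW, hP, h => by
    obtain ⟨h1, h2, h3⟩ := h
    obtain ⟨hW', hP'⟩ := S.step hform hx hy hW hP h1
    exact Sym.chain S hform hx hy r s.2.2 (s.1 :: P) (fun w hw => hW' w (h2 w hw)) hP' h3

end Model

end Cfsg.Agent.Solv.CopPair
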