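import Mathlib

/-!
Sets of vectors with trivial setwise stabiliser in a group of order prime to three.
-/

set_option autoImplicit false
set_option linter.unusedSectionVars false
set_option linter.style.haveILetI false
set_option maxHeartbeats 800000

namespace Cfsg.Agent.Solv.CopPair

universe u v

/-! ### Codes for the span of three vectors in characteristic two -/

/-- The linear map with given images of the basis. -/
def lin8 (f : Fin 8 × Fin 8 × Fin 8) (n : Fin 8) : Fin 8 :=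
  (if n.val.testBit 0 then f.1 else 0) ^^^ (if n.val.testBit 1 then f.2.1 else 0) ^^^
    (if n.val.testBit 2 then f.2.2 else 0)

/-- The product of two linear maps has order three up to order two. -/
def Clash8 (f g : Fin 8 × Fin 8 × Fin 8) : Prop :=
  (∀ n, (fun x => lin8 f (lin8 g x))^[6] n = n) ∧ ∃ n, (fun x => lin8 f (lin8 g x))^[2] n ≠ n

instance (f g : Fin 8 × Fin 8 × Fin 8) : Decidable (Clash8 f g) := by unfold Clash8; infer_instance

/-- The identity. -/
def id8 : Fin 8 × Fin 8 × Fin 8 := (1, 2, 4)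

/-- Candidate sets and the symmetries they can have. -/
def tbl8 : List (List (Fin 8) × List (Fin 8 × Fin 8 × Fin 8)) := [
  ([1, 2, 3, 4],
    [(1, 3, 4), (3, 2, 4), (2, 1, 4)]),
  ([2, 4, 6, 3],
    [(1, 2, 6), (5, 6, 4), (7, 4, 2)]),
  ([2, 4, 6, 5],
    [(3, 2, 6), (1, 6, 4), (7, 4, 2)]),
  ([1, 2, 3, 6],
    [(1, 3, 5), (3, 2, 4), (2, 1, 7)]),
  ([1, 4, 5, 3],
    [(1, 2, 5), (5, 6, 4), (4, 7, 1)]),
  ([1, 4, 5, 6],
    [(1, 3, 5), (5, 2, 4), (4, 7, 1)]),
  ([1, 2, 3, 5],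
    [(1, 3, 4), (3, 2, 6), (2, 1, 7)]),
  ([1, 4, 5, 2],
    [(1, 2, 5), (5, 2, 4), (4, 2, 1)])]

theorem tbl8_complete : ∀ e ∈ tbl8, ∀ a b c : Fin 8, (∀ n ∈ e.1, lin8 (a, b, c) n ∈ e.1) →
    (∀ n, lin8 (a, b, c) n = 0 → n = 0) → (∀ n, lin8 (a, b, c) n = n) ∨ Clash8 (a, b, c) id8 ∨ (a, b, c) ∈ e.2 := by decide +kernel

theorem tbl8_span : ∀ e ∈ tbl8, 0 ∉ e.1 ∧
    ∀ n : Fin 8, ∃ x ∈ 0 :: e.1, ∃ y ∈ 0 :: e.1, ∃ z ∈ 0 :: e.1, n = x ^^^ y ^^^ z := by decide +kernel

theorem tbl8_key : ∀ f₀ ∈ (tbl8.head (by decide)).2, ∃ e₁ ∈ tbl8, ∀ f₁ ∈ e₁.2, Clash8 f₀ f₁ ∨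
    ∃ e₂ ∈ tbl8, ∀ f₂ ∈ e₂.2, Clash8 f₀ f₂ ∨ Clash8 f₁ f₂ := by decide +kernel

/-! ### Four points in general position -/

/-- The coefficients of the four points. -/
def vec4 : Fin 4 → ℤ × ℤ × ℤ := ![(1, 0, 0), (0, 1, 0), (0, 0, 1), (2, 1, 0)]

/-- Divisible by no prime above three. -/
def Small12 (n : ℤ) : Prop := n ≠ 0 ∧ 12 % n.natAbs = 0

instance (n : ℤ) : Decidable (Small12 n) := by unfold Small12; infer_instance

theorem vec4_ne : ∀ i : Fin 4, Small12 (vec4 i).1 ∨ Small12 (vec4 i).2.1 ∨ Small12 (vec4 i).2.2 := by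
  decide +kernel

theorem vec4_inj : ∀ i j : Fin 4, i ≠ j → Small12 (vec4 i - vec4 j).1 ∨ Small12 (vec4 i - vec4 j).2.1 ∨
    Small12 (vec4 i - vec4 j).2.2 := by decide +kernel

theorem vec4_perm : ∀ i j k l : Fin 4, i ≠ j → i ≠ k → i ≠ l → j ≠ k → j ≠ l → k ≠ l →
    (i = 0 ∧ j = 1 ∧ k = 2 ∧ l = 3) ∨ (∀ x, ![i, j, k, l] (![i, j, k, l] (![i, j, k, l] x)) = x) ∨
      Small12 (vec4 i + vec4 i + vec4 j - vec4 l).1 ∨ Small12 (vec4 i + vec4 i + vec4 j - vec4 l).2.1 ∨
      Small12 (vec4 i + vec4 i + vec4 j - vec4 l).2.2 := by decide +kernel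

theorem not_dvd_small {q : ℕ} (hq : q.Prime) (h5 : 5 ≤ q) {n : ℤ} (hn : Small12 n) : ¬(q : ℤ) ∣ n := by
  intro h
  have h1 : q ∣ n.natAbs := Int.natCast_dvd.1 h
  have h2 : q ∣ 12 := h1.trans (Nat.dvd_of_mod_eq_zero hn.2)
  have h3 : q ≤ 12 := Nat.le_of_dvd (by norm_num) h2
  interval_cases q <;> revert hq h2 <;> norm_num

/-! ### The sets -/

variable {G : Type u} [Group G] [Finite G] {W : Type v} [AddCommGroup W] [DistribMulAction G W]

theorem triv_of_pow {α : Type v} [MulAction G α] {g : G} {n : ℕ} (hn : Nat.Coprime n (Nat.card G))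
    (h : ∀ x : α, g ^ n • x = x) : ∀ x : α, g • x = x := by
  obtain ⟨m, hm⟩ := exists_pow_eq_self_of_coprime (Nat.Coprime.coprime_dvd_right (orderOf_dvd_natCard g) hn)
  intro x
  have h1 : ∀ i : ℕ, (g ^ n) ^ i • x = x := by
    intro i
    induction i with
    | zero => rw [pow_zero, one_smul]
    | succ i ih => rw [pow_succ, mul_smul, h, ih]
  simpa [hm] using h1 m

/-- Being a set with trivial setwise stabiliser. -/
def Rigid (G : Type u) {W : Type v} [Group G] [AddCommGroup W] [DistribMulAction G W] (S : Set W) : Prop :=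
  (0 : W) ∉ S ∧ ∀ g : G, (∀ x ∈ S, g • x ∈ S) → ∀ x : W, g • x = x

theorem rigid_one {a : W} (h : ∀ g : G, g • a = a → ∀ x : W, g • x = x) : ∃ S : Set W, Rigid G S := by
  by_cases ha : a = 0
  · exact ⟨∅, Set.notMem_empty _, fun g _ => h g (by rw [ha, smul_zero])⟩
  · refine ⟨{a}, fun h0 => ha h0.symm, fun g hg => h g ?_⟩
    exact hg a rfl

theorem rigid_two (h3 : ¬3 ∣ Nat.card G) {a b : W}
    (h : ∀ g : G, g • a = a → g • b = b → ∀ x : W, g • x = x)
    (ha : b ∉ AddSubgroup.zmultiples a) (hb : a ∉ AddSubgroup.zmultiples b) : ∃ S : Set W, Rigid G S := by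
  have hb0 : b ≠ 0 := fun h0 => ha (h0 ▸ zero_mem _)
  have ha0 : a ≠ 0 := fun h0 => hb (h0 ▸ zero_mem _)
  have hab : a ≠ b := fun h0 => ha (h0 ▸ AddSubgroup.mem_zmultiples a)
  have hab0 : a + b ≠ 0 := fun h0 => ha (by
    rw [neg_eq_of_add_eq_zero_right h0 |>.symm]; exact neg_mem (AddSubgroup.mem_zmultiples a))
  by_contra hno
  push Not at hno
  obtain ⟨r, hr, hr'⟩ : ∃ r : G, (∀ x ∈ ({a, b} : Set W), r • x ∈ ({a, b} : Set W)) ∧ ¬∀ x : W, r • x = x := by
    by_contra h0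
    push Not at h0
    exact hno {a, b} ⟨by rintro (h1 | h1) <;> [exact ha0 h1.symm; exact hb0 h1.symm],
      fun g hg => h0 g hg⟩
  obtain ⟨t, ht, ht'⟩ : ∃ t : G, (∀ x ∈ ({a, a + b} : Set W), t • x ∈ ({a, a + b} : Set W)) ∧
      ¬∀ x : W, t • x = x := by
    by_contra h0
    push Not at h0
    exact hno {a, a + b} ⟨by rintro (h1 | h1) <;> [exact ha0 h1.symm; exact hab0 h1.symm],
      fun g hg => h0 g hg⟩
  have hra : r • a = b ∧ r • b = a := by
    rcases hr a (Or.inl rfl) with h1 | h1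
    · rcases hr b (Or.inr rfl) with h2 | h2
      · exact absurd (smul_left_cancel r (h1.trans h2.symm)) hab
      · exact absurd (h r h1 h2) hr'
    · refine ⟨h1, ?_⟩
      rcases hr b (Or.inr rfl) with h2 | h2
      · exact h2
      · exact absurd (smul_left_cancel r (h1.trans h2.symm)) hab
  have hne : a ≠ a + b := fun h0 => hb0 (left_eq_add.1 h0)
  have hta : t • a = a + b ∧ t • b = -b := by
    rcases ht a (Or.inl rfl) with h1 | h1
    · rcases ht (a + b) (Or.inr rfl) with h2 | h2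
      · exact absurd (smul_left_cancel t (h1.trans h2.symm)) hne
      · have h2' : t • (a + b) = a + b := h2
        rw [smul_add, h1] at h2'
        exact absurd (h t h1 (add_left_cancel h2')) ht'
    · refine ⟨h1, ?_⟩
      rcases ht (a + b) (Or.inr rfl) with h2 | h2
      · rw [smul_add, show t • a = a + b from h1] at h2
        calc t • b = (a + b + t • b) - (a + b) := by abel
          _ = a - (a + b) := by rw [h2]
          _ = -b := by abel
      · exact absurd (smul_left_cancel t (h1.trans h2.symm)) hne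
  have e1 : (r * t) • a = a + b := by rw [mul_smul, hta.1, smul_add, hra.1, hra.2, add_comm]
  have e2 : (r * t) • b = -a := by rw [mul_smul, hta.2, smul_neg, hra.2]
  have e3 : (r * t) ^ 2 • a = b := by
    rw [pow_two, mul_smul, e1, smul_add, e1, e2]; abel
  have e4 : (r * t) ^ 3 • a = -a ∧ (r * t) ^ 3 • b = -b := by
    constructor
    · rw [pow_succ', mul_smul, e3, e2]
    · rw [← e3, ← mul_smul, ← pow_add, show 3 + 2 = 2 + 3 from rfl, pow_add, mul_smul,
        show (r * t) ^ 3 • a = -a by rw [pow_succ', mul_smul, e3, e2], smul_neg, e3]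
  have h6 : ∀ x : W, ((r * t) ^ 2) ^ 3 • x = x := by
    refine h _ ?_ ?_ <;> rw [← pow_mul, show 2 * 3 = 3 + 3 from rfl, pow_add, mul_smul]
    · rw [e4.1, smul_neg, e4.1, neg_neg]
    · rw [e4.2, smul_neg, e4.2, neg_neg]
  have := triv_of_pow ((Nat.Prime.coprime_iff_not_dvd Nat.prime_three).2 h3) h6 a
  exact hab (e3 ▸ this).symm

section

variable {a b c : W} {q : ℕ}

/-- The combination with given coefficients. -/
def comb3 (a b c : W) (z : ℤ × ℤ × ℤ) : W := z.1 • a + z.2.1 • b + z.2.2 • c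

theorem comb3_add (z w : ℤ × ℤ × ℤ) : comb3 a b c (z + w) = comb3 a b c z + comb3 a b c w := by
  simp only [comb3, Prod.fst_add, Prod.snd_add, add_zsmul]; abel

theorem comb3_sub (z w : ℤ × ℤ × ℤ) : comb3 a b c (z - w) = comb3 a b c z - comb3 a b c w := by
  simp only [comb3, Prod.fst_sub, Prod.snd_sub, sub_zsmul]; abel

/-- Four points in general position. -/
theorem rigid_big (h3 : ¬3 ∣ Nat.card G) (hq : q.Prime) (h5 : 5 ≤ q)
    (hind : ∀ z, comb3 a b c z = 0 → (q : ℤ) ∣ z.1 ∧ (q : ℤ) ∣ z.2.1 ∧ (q : ℤ) ∣ z.2.2)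
    (h : ∀ g : G, g • a = a → g • b = b → g • c = c → ∀ x : W, g • x = x) : ∃ S : Set W, Rigid G S := by
  classical
  let v : Fin 4 → W := fun i => comb3 a b c (vec4 i)
  have hsmall : ∀ {z : ℤ × ℤ × ℤ}, Small12 z.1 ∨ Small12 z.2.1 ∨ Small12 z.2.2 → comb3 a b c z ≠ 0 := by
    intro z hz h0
    obtain ⟨d1, d2, d3⟩ := hind z h0
    rcases hz with h1 | h1 | h1
    · exact not_dvd_small hq h5 h1 d1
    · exact not_dvd_small hq h5 h1 d2
    · exact not_dvd_small hq h5 h1 d3
  have hinj : Function.Injective v := by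
    intro i j hij
    by_contra hne
    exact hsmall (vec4_inj i j hne) (by rw [comb3_sub]; exact sub_eq_zero.2 hij)
  refine ⟨Set.range v, fun ⟨i, hi⟩ => hsmall (vec4_ne i) hi, fun g hg => ?_⟩
  choose π hπ using fun i => hg (v i) ⟨i, rfl⟩
  have hπi : Function.Injective π := fun i j hij => hinj (smul_left_cancel g (by rw [← hπ, ← hπ, hij]))
  have hva : v 0 = a ∧ v 1 = b ∧ v 2 = c ∧ v 3 = a + a + b := by
    simp [v, vec4, comb3, two_zsmul]
  have hrel : comb3 a b c (vec4 (π 0) + vec4 (π 0) + vec4 (π 1) - vec4 (π 3)) = 0 := by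
    rw [comb3_sub, comb3_add, comb3_add]
    show v (π 0) + v (π 0) + v (π 1) - v (π 3) = 0
    rw [hπ, hπ, hπ, hva.1, hva.2.1, hva.2.2.2, smul_add, smul_add, sub_self]
  have hne : ∀ {i j : Fin 4}, i ≠ j → π i ≠ π j := fun hij e => hij (hπi e)
  rcases vec4_perm (π 0) (π 1) (π 2) (π 3) (hne (by decide)) (hne (by decide)) (hne (by decide))
    (hne (by decide)) (hne (by decide)) (hne (by decide)) with ⟨e0, e1, e2, -⟩ | h1 | h1
  · refine h g ?_ ?_ ?_
    · rw [← hva.1, ← hπ, e0]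
    · rw [← hva.2.1, ← hπ, e1]
    · rw [← hva.2.2.1, ← hπ, e2]
  · have hπv : ![π 0, π 1, π 2, π 3] = π := funext fun i => by fin_cases i <;> rfl
    rw [hπv] at h1
    have h33 : ∀ i, g ^ 3 • v i = v i := fun i => by
      rw [pow_succ', pow_two, mul_smul, mul_smul, ← hπ, ← hπ, ← hπ, h1]
    refine triv_of_pow ((Nat.Prime.coprime_iff_not_dvd Nat.prime_three).2 h3) (h _ ?_ ?_ ?_)
    · rw [← hva.1]; exact h33 0
    · rw [← hva.2.1]; exact h33 1
    · rw [← hva.2.2.1]; exact h33 2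
  · exact absurd hrel (hsmall h1)

/-- The point with a given code. -/
def pt8 (a b c : W) (n : Fin 8) : W :=
  (if n.val.testBit 0 then a else 0) + (if n.val.testBit 1 then b else 0) +
    (if n.val.testBit 2 then c else 0)

/-- Three points in characteristic two. -/
theorem rigid_bin (h3 : ¬3 ∣ Nat.card G) (h2 : ∀ x : W, x + x = 0)
    (hinj : Function.Injective (pt8 a b c))
    (h : ∀ g : G, g • a = a → g • b = b → g • c = c → ∀ x : W, g • x = x) : ∃ S : Set W, Rigid G S := by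
  classical
  have hxor : ∀ m n : Fin 8, pt8 a b c (m ^^^ n) = pt8 a b c m + pt8 a b c n := by
    intro m n
    have hbit : ∀ m n : Fin 8, ∀ i : Fin 3, (m ^^^ n).val.testBit i.val =
        Bool.xor (m.val.testBit i.val) (n.val.testBit i.val) := by decide +kernel
    have hsel : ∀ (s t : Bool) (x : W), (if Bool.xor s t then x else 0) =
        (if s then x else 0) + (if t then x else 0) := by
      intro s t x; cases s <;> cases t <;> simp [h2]
    simp only [pt8]
    rw [show (m ^^^ n).val.testBit 0 = _ from hbit m n 0, show (m ^^^ n).val.testBit 1 = _ from hbit m n 1,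
      show (m ^^^ n).val.testBit 2 = _ from hbit m n 2, hsel, hsel, hsel]
    simp only [Fin.val_zero, Fin.val_one, Fin.val_two]
    abel
  have hpt : pt8 a b c 1 = a ∧ pt8 a b c 2 = b ∧ pt8 a b c 4 = c ∧ pt8 a b c 0 = 0 := by
    simp (config := { decide := true }) [pt8]
  by_contra hno
  push Not at hno
  have key : ∀ e ∈ tbl8, ∃ g : G, ∃ f ∈ e.2, ∀ n, g • pt8 a b c n = pt8 a b c (lin8 f n) := by
    intro e he
    obtain ⟨hz, hspan⟩ := tbl8_span e he
    obtain ⟨g, hg, hg'⟩ : ∃ g : G, (∀ x ∈ pt8 a b c '' {n | n ∈ e.1}, g • x ∈ pt8 a b c '' {n | n ∈ e.1}) ∧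
        ¬∀ x : W, g • x = x := by
      by_contra h0
      push Not at h0
      refine hno _ ⟨?_, fun g hg => h0 g hg⟩
      rintro ⟨n, hn, hn0⟩
      exact hz (hinj (hn0.trans hpt.2.2.2.symm) ▸ hn)
    have him : ∀ n, ∃ m, g • pt8 a b c n = pt8 a b c m := by
      intro n
      obtain ⟨x, hx, y, hy, z, hz', rfl⟩ := hspan n
      have hone : ∀ x ∈ 0 :: e.1, ∃ m, g • pt8 a b c x = pt8 a b c m := by
        intro x hx
        rcases List.mem_cons.1 hx with rfl | hx
        · exact ⟨0, by rw [hpt.2.2.2, smul_zero]⟩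
        · obtain ⟨m, -, hm⟩ := hg _ ⟨x, hx, rfl⟩
          exact ⟨m, hm.symm⟩
      obtain ⟨x', hx'⟩ := hone x hx
      obtain ⟨y', hy'⟩ := hone y hy
      obtain ⟨z', hz''⟩ := hone z hz'
      exact ⟨x' ^^^ y' ^^^ z', by rw [hxor, hxor, hxor, hxor, smul_add, smul_add, hx', hy', hz'']⟩
    choose m hm using him
    obtain ⟨f, hf⟩ : ∃ f, f = (m 1, m 2, m 4) := ⟨_, rfl⟩
    have hlin : ∀ n, g • pt8 a b c n = pt8 a b c (lin8 f n) := by
      intro n
      rw [lin8, hxor, hxor]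
      conv_lhs => rw [pt8]
      rw [smul_add, smul_add, hf]
      congr 1
      congr 1
      all_goals
        split_ifs with h0
        · rw [← hm]; simp [hpt]
        · rw [smul_zero, hpt.2.2.2]
    have htriv : ∀ i : ℕ, (∀ n, g ^ i • pt8 a b c n = pt8 a b c n) → ∀ x : W, g ^ i • x = x :=
      fun i hi => h _ (hpt.1 ▸ hi 1) (hpt.2.1 ▸ hi 2) (hpt.2.2.1 ▸ hi 4)
    rcases tbl8_complete e he f.1 f.2.1 f.2.2 (fun n hn => by
        obtain ⟨k, hk, hk'⟩ := hg _ ⟨n, hn, rfl⟩
        rw [hlin] at hk'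
        exact hinj hk' ▸ hk) (fun n hn => by
        have h0 := hlin n
        rw [show lin8 f n = 0 from hn, hpt.2.2.2] at h0
        exact hinj (((smul_eq_zero_iff_eq g).1 h0).trans hpt.2.2.2.symm)) with h1 | h1 | h1
    · exact absurd (fun x => by simpa using htriv 1 (fun n => by rw [pow_one, hlin, h1]) x) hg'
    · exfalso
      have hid : (fun x => lin8 f (lin8 id8 x)) = lin8 f := funext fun x => by
        congr 1
        revert x
        decide +kernel
      obtain ⟨h6, n₀, hn₀⟩ := h1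
      change ∀ n, (fun x => lin8 f (lin8 id8 x))^[6] n = n at h6
      change (fun x => lin8 f (lin8 id8 x))^[2] n₀ ≠ n₀ at hn₀
      rw [hid] at h6 hn₀
      have hit : ∀ (i : ℕ) n, g ^ i • pt8 a b c n = pt8 a b c ((lin8 f)^[i] n) := by
        intro i
        induction i with
        | zero => intro n; rw [pow_zero, one_smul]; rfl
        | succ i ih => intro n; rw [pow_succ, mul_smul, hlin, ih, Function.iterate_succ_apply]
      have h23 : ∀ x : W, (g ^ 2) ^ 3 • x = x := fun x => by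
        rw [← pow_mul]; exact htriv 6 (fun n => by rw [hit, h6]) x
      have := triv_of_pow ((Nat.Prime.coprime_iff_not_dvd Nat.prime_three).2 h3) h23 (pt8 a b c n₀)
      rw [hit] at this
      exact hn₀ (hinj this)
    · exact ⟨g, f, h1, hlin⟩
  have noclash : ∀ {r t : G} {f g : Fin 8 × Fin 8 × Fin 8}, (∀ n, r • pt8 a b c n = pt8 a b c (lin8 f n)) →
      (∀ n, t • pt8 a b c n = pt8 a b c (lin8 g n)) → Clash8 f g → False := by
    intro r t f g hr ht hc
    obtain ⟨h6, n₀, hn₀⟩ := hc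
    have hit : ∀ (i : ℕ) n, (r * t) ^ i • pt8 a b c n = pt8 a b c ((fun x => lin8 f (lin8 g x))^[i] n) := by
      intro i
      induction i with
      | zero => intro n; rw [pow_zero, one_smul]; rfl
      | succ i ih => intro n; rw [pow_succ, mul_smul, mul_smul r t, ht, hr, ih, Function.iterate_succ_apply]
    have h23 : ∀ x : W, ((r * t) ^ 2) ^ 3 • x = x := fun x => by
      rw [← pow_mul]
      exact h _ (hpt.1 ▸ by rw [hit, h6]) (hpt.2.1 ▸ by rw [hit, h6]) (hpt.2.2.1 ▸ by rw [hit, h6]) x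
    have := triv_of_pow ((Nat.Prime.coprime_iff_not_dvd Nat.prime_three).2 h3) h23 (pt8 a b c n₀)
    rw [hit] at this
    exact hn₀ (hinj this)
  obtain ⟨g₀, f₀, hf₀, hg₀⟩ := key _ (List.head_mem (by decide : tbl8 ≠ []))
  obtain ⟨e₁, he₁, hk₁⟩ := tbl8_key f₀ hf₀
  obtain ⟨g₁, f₁, hf₁, hg₁⟩ := key e₁ he₁
  rcases hk₁ f₁ hf₁ with hc | ⟨e₂, he₂, hk₂⟩
  · exact noclash hg₀ hg₁ hc
  obtain ⟨g₂, f₂, hf₂, hg₂⟩ := key e₂ he₂
  rcases hk₂ f₂ hf₂ with hc | hc
  · exact noclash hg₀ hg₂ hc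
  · exact noclash hg₁ hg₂ hc

end

/-- A set with trivial setwise stabiliser from three vectors. -/
theorem exists_rigid {q : ℕ} (hq : q.Prime) (hq3 : q ≠ 3) (hW : ∀ x : W, q • x = 0) (h3 : ¬3 ∣ Nat.card G)
    {a b c : W} (h : ∀ g : G, g • a = a → g • b = b → g • c = c → ∀ x : W, g • x = x) :
    ∃ S : Set W, Rigid G S := by
  have two : ∀ a b : W, (∀ g : G, g • a = a → g • b = b → ∀ x : W, g • x = x) → ∃ S : Set W, Rigid G S := by
    intro a b h
    by_cases ha : b ∈ AddSubgroup.zmultiples a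
    · obtain ⟨i, rfl⟩ := AddSubgroup.mem_zmultiples_iff.1 ha
      exact rigid_one (a := a) fun g hg => h g hg (by rw [smul_comm, hg])
    by_cases hb : a ∈ AddSubgroup.zmultiples b
    · obtain ⟨i, rfl⟩ := AddSubgroup.mem_zmultiples_iff.1 hb
      exact rigid_one (a := b) fun g hg => h g (by rw [smul_comm, hg]) hg
    exact rigid_two h3 h ha hb
  have solve : ∀ (k : ℤ) (x y : W), ¬(q : ℤ) ∣ k → k • x = y →
      ∃ l : ℤ, x = l • y := by
    intro k x y hk hxy
    obtain ⟨s, t, hst⟩ := (Nat.prime_iff_prime_int.1 hq).coprime_iff_not_dvd.2 hk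
    refine ⟨t, ?_⟩
    rw [← hxy, smul_smul]
    conv_lhs => rw [← one_zsmul x, ← hst, add_zsmul, ← smul_smul]
    rw [natCast_zsmul, hW, smul_zero, zero_add]
  by_cases hind : ∀ z, comb3 a b c z = 0 → (q : ℤ) ∣ z.1 ∧ (q : ℤ) ∣ z.2.1 ∧ (q : ℤ) ∣ z.2.2
  · rcases eq_or_ne q 2 with rfl | hq2
    · refine rigid_bin h3 (fun x => by rw [← two_nsmul]; exact hW x) (fun m n hmn => ?_) h
      let co : Fin 8 → ℤ × ℤ × ℤ := fun n => (if n.val.testBit 0 then 1 else 0,
        if n.val.testBit 1 then 1 else 0, if n.val.testBit 2 then 1 else 0)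
      have hco : ∀ n, pt8 a b c n = comb3 a b c (co n) := fun n => by
        unfold pt8
        simp only [co, comb3]
        split_ifs <;> simp
      have h0 := hind (co m - co n) (by rw [comb3_sub, ← hco, ← hco, hmn, sub_self])
      have hdec : ∀ m n : Fin 8, ((2 : ℤ) ∣ (co m - co n).1 ∧ (2 : ℤ) ∣ (co m - co n).2.1 ∧
          (2 : ℤ) ∣ (co m - co n).2.2) → m = n := by decide +kernel
      exact hdec m n (by exact_mod_cast h0)
    · have h5 : 5 ≤ q := by
        have := hq.two_le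
        rcases Nat.lt_or_ge q 5 with h0 | h0
        · interval_cases q
          · omega
          · omega
          · revert hq; norm_num
        · exact h0
      exact rigid_big h3 hq h5 hind h
  · push Not at hind
    obtain ⟨⟨i, j, k⟩, hz, hnot⟩ := hind
    change i • a + j • b + k • c = 0 at hz
    by_cases hi : (q : ℤ) ∣ i
    · by_cases hj : (q : ℤ) ∣ j
      · obtain ⟨l, hl⟩ := solve k c _ (hnot hi hj) (eq_neg_of_add_eq_zero_right hz)
        exact two a b fun g ha hb => h g ha hb (by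
          rw [hl, smul_comm, smul_neg, smul_add, smul_comm g, smul_comm g, ha, hb])
      · obtain ⟨l, hl⟩ := solve j b (-(i • a + k • c)) hj
          (eq_neg_of_add_eq_zero_left (by rw [← hz]; abel))
        exact two a c fun g ha hc => h g ha (by
          rw [hl, smul_comm, smul_neg, smul_add, smul_comm g, smul_comm g, ha, hc]) hc
    · obtain ⟨l, hl⟩ := solve i a (-(j • b + k • c)) hi
        (eq_neg_of_add_eq_zero_left (by rw [← hz]; abel))
      exact two b c fun g hb hc => h g (by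
        rw [hl, smul_comm, smul_neg, smul_add, smul_comm g, smul_comm g, hb, hc]) hb hc

end Cfsg.Agent.Solv.CopPair
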