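import Cfsg.Agent.Lib.Solv.Triple.Main
import Cfsg.Agent.Lib.Solv.CopPair.DistSet

/-!
Three colours suffice for a solvable permutation group of order prime to three.
-/

set_option autoImplicit false
set_option linter.unusedSectionVars false
set_option linter.style.haveILetI false

namespace Cfsg.Agent.Solv.CopPair

open Cfsg.Agent.Solv.OddPair (CR setAct cr_of_irred exists_elem_normal)
open Cfsg.Agent.Solv.Triple (PB3)

universe u v

/-- A colouring with three colours preserved only by the kernel. -/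
def Colour3 (A : Type u) (Ω : Type v) [Group A] [MulAction A Ω] : Prop :=
  ∃ c : Ω → Fin 3, ∀ a : A, (∀ x, c (a • x) = c x) → ∀ x : Ω, a • x = x

section
variable {A : Type u} {Ω : Type v} [Group A] [MulAction A Ω]

theorem colour3_union {P : Set Ω} (hP : ∀ (a : A), ∀ x ∈ P, a • x ∈ P)
    (hQ : ∀ (a : A), ∀ x ∈ Pᶜ, a • x ∈ Pᶜ) (h1 : letI := setAct P hP; Colour3 A P)
    (h2 : letI := setAct Pᶜ hQ; Colour3 A (Pᶜ : Set Ω)) : Colour3 A Ω := by
  classical
  letI := setAct P hP
  letI := setAct Pᶜ hQ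
  obtain ⟨c, hc⟩ := h1
  obtain ⟨d, hd⟩ := h2
  refine ⟨fun x => if h : x ∈ P then c ⟨x, h⟩ else d ⟨x, h⟩, fun a ha x => ?_⟩
  by_cases hx : x ∈ P
  · refine congrArg Subtype.val (hc a (fun y => ?_) ⟨x, hx⟩)
    have := ha (y : Ω)
    simp only [dif_pos (hP a _ y.2), dif_pos y.2] at this
    exact this
  · refine congrArg Subtype.val (hd a (fun y => ?_) ⟨x, hx⟩)
    have := ha (y : Ω)
    simp only [dif_neg (hQ a _ y.2 : _ ∉ P), dif_neg (y.2 : _ ∉ P)] at this
    exact this

/-- Three inequivalent colourings from one, by shifting the colours. -/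
theorem three_colourings [Finite A] (h3 : ¬3 ∣ Nat.card A) [Nonempty Ω] (h : Colour3 A Ω) :
    ∃ d : Fin 3 → Ω → Fin 3, ∀ i j, ∀ a : A, (∀ x, d j (a • x) = d i x) →
      i = j ∧ ∀ x : Ω, a • x = x := by
  obtain ⟨c, hc⟩ := h
  refine ⟨fun i x => c x + i, fun i j a ha => ?_⟩
  have h1 : ∀ x, c (a • x) = c x + (i - j) := fun x => by
    rw [eq_sub_of_add_eq (ha x), add_sub_assoc]
  have htriv : ∀ x : Ω, a • x = x := by
    refine triv_of_pow ((Nat.Prime.coprime_iff_not_dvd Nat.prime_three).2 h3) (hc _ fun x => ?_)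
    rw [pow_succ', pow_two, mul_smul, mul_smul, h1, h1, h1, add_assoc, add_assoc, add_eq_left]
    generalize i - j = k
    revert k
    decide
  obtain ⟨x⟩ := ‹Nonempty Ω›
  have h2 := h1 x
  rw [htriv x, left_eq_add, sub_eq_zero] at h2
  exact ⟨h2, htriv⟩

variable [Finite A]

theorem colour3_blocks {x : Ω} (htr : ∀ y : Ω, ∃ a : A, a • x = y) (h3 : ¬3 ∣ Nat.card A)
    {H : Subgroup A} (hH : MulAction.stabilizer A x ≤ H) (hq : Colour3 A (A ⧸ H))
    (hfib : ∀ (P : Set Ω) (hP : ∀ (h : H), ∀ y ∈ P, h • y ∈ P), (∀ y ∈ P, ∃ h ∈ H, h • x = y) →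
      letI := setAct P hP; Colour3 H P) : Colour3 A Ω := by
  classical
  choose τ hτ using htr
  let π : Ω → A ⧸ H := fun y => ((τ y : A) : A ⧸ H)
  have hπ : ∀ (a : A) (y : Ω), π (a • y) = a • π y := by
    intro a y
    refine QuotientGroup.eq.2 (hH ?_)
    change ((τ (a • y))⁻¹ * (a * τ y)) • x = x
    rw [mul_smul, mul_smul, hτ y, inv_smul_eq_iff, hτ]
  have hπx : π x = ((1 : A) : A ⧸ H) :=
    QuotientGroup.eq.2 (hH (by
      rw [MulAction.mem_stabilizer_iff, mul_one, inv_smul_eq_iff, hτ x]))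
  let P : Set Ω := {y | π y = ((1 : A) : A ⧸ H)}
  have hP : ∀ (h : H), ∀ y ∈ P, h • y ∈ P := fun h y (hy : π y = _) => by
    change π ((h : A) • y) = _
    rw [hπ, hy]
    change (((h : A) * 1 : A) : A ⧸ H) = _
    rw [mul_one]
    exact QuotientGroup.eq.2 (by rw [mul_one]; exact inv_mem h.2)
  letI := setAct P hP
  haveI : Nonempty P := ⟨⟨x, hπx⟩⟩
  obtain ⟨d, hd⟩ := three_colourings (A := H) (Ω := P) (fun h => h3 (h.trans (Subgroup.card_subgroup_dvd_card H)))
    (hfib P hP fun y (hy : π y = _) => ⟨τ y, by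
      have h1 : (τ y)⁻¹ * 1 ∈ H := QuotientGroup.eq.1 hy
      rw [mul_one] at h1
      exact inv_mem_iff.1 h1, hτ y⟩)
  obtain ⟨c', hc'⟩ := hq
  have hz : ∀ y : Ω, (π y).out⁻¹ • y ∈ P := fun y => by
    change π ((π y).out⁻¹ • y) = _
    rw [hπ, inv_smul_eq_iff]
    change π y = (((π y).out * 1 : A) : A ⧸ H)
    rw [mul_one]
    exact (QuotientGroup.out_eq' _).symm
  refine ⟨fun y => d (c' (π y)) ⟨_, hz y⟩, fun a ha => ?_⟩
  have hmem : ∀ i : A ⧸ H, (a • i).out⁻¹ * (a * i.out) ∈ H := fun i => by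
    refine QuotientGroup.eq.1 ?_
    rw [QuotientGroup.out_eq']
    change a • i = ((a * i.out : A) : A ⧸ H)
    nth_rewrite 1 [← QuotientGroup.out_eq' i]
    rfl
  have key : ∀ (i : A ⧸ H) (z : P), d (c' (a • i)) ((⟨_, hmem i⟩ : H) • z) = d (c' i) z := by
    intro i z
    obtain ⟨y, hy⟩ : ∃ y, y = i.out • (z : Ω) := ⟨_, rfl⟩
    have hyi : π y = i := by
      rw [hy, hπ, show π z = _ from z.2]
      change ((i.out * 1 : A) : A ⧸ H) = i
      rw [mul_one]
      exact QuotientGroup.out_eq' i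
    have h1 : (⟨_, hz y⟩ : P) = z := Subtype.ext (by
      show (π y).out⁻¹ • y = (z : Ω)
      rw [hyi, hy, inv_smul_smul])
    have h2 : (⟨_, hz (a • y)⟩ : P) = (⟨_, hmem i⟩ : H) • z := Subtype.ext (by
      show (π (a • y)).out⁻¹ • a • y = ((a • i).out⁻¹ * (a * i.out)) • (z : Ω)
      rw [hπ, hyi, hy, mul_smul, mul_smul])
    have h3 := ha y
    change d (c' (π (a • y))) ⟨_, hz (a • y)⟩ = d (c' (π y)) ⟨_, hz y⟩ at h3
    rw [h1, h2, hπ, hyi] at h3
    exact h3
  have hfixQ : ∀ i : A ⧸ H, a • i = i := hc' a fun i => (hd _ _ _ (key i)).1.symm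
  intro y
  have h1 := congrArg Subtype.val ((hd _ _ _ (key (π y))).2 ⟨_, hz y⟩)
  change ((a • π y).out⁻¹ * (a * (π y).out)) • ((π y).out⁻¹ • y) = (π y).out⁻¹ • y at h1
  rw [hfixQ, mul_smul, mul_smul, smul_inv_smul] at h1
  exact smul_left_cancel _ h1

end

/-- The primitive case. -/
theorem colour3_primitive {A Ω : Type v} [Group A] [Finite A] [MulAction A Ω] [Finite Ω] {n : ℕ}
    (hP : PB3.{v} n) (hn : Nat.card Ω ≤ n) (hA : Group.IsSolvable A) (h3 : ¬3 ∣ Nat.card A)
    (hf : ∀ a : A, (∀ y : Ω, a • y = y) → a = 1) {x : Ω} (htr : ∀ y : Ω, ∃ a : A, a • x = y)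
    (hmax : ∀ H : Subgroup A, MulAction.stabilizer A x ≤ H →
      H = MulAction.stabilizer A x ∨ H = ⊤) : Colour3 A Ω := by
  classical
  rcases subsingleton_or_nontrivial A with hs | hnt
  · exact ⟨fun _ => 0, fun a _ y => by rw [Subsingleton.elim a 1, one_smul]⟩
  obtain ⟨q, T, hq, hT, hT1, hTc, hTq⟩ := exists_elem_normal hA
  haveI := hT
  obtain ⟨A0, hA0⟩ : ∃ A0, A0 = MulAction.stabilizer A x := ⟨_, rfl⟩
  have hmem0 : ∀ {a : A}, a ∈ A0 ↔ a • x = x := fun {a} => by rw [hA0, MulAction.mem_stabilizer_iff]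
  have hTtr : ∀ y : Ω, ∃ t ∈ T, t • x = y := by
    have h1 : T ⊔ A0 = ⊤ := by
      rcases hmax (T ⊔ A0) (hA0 ▸ le_sup_right) with h | h
      · refine absurd ((Subgroup.eq_bot_iff_forall T).2 fun t ht => hf t fun y => ?_) hT1
        obtain ⟨a, rfl⟩ := htr y
        have h2 : a⁻¹ * t * a ∈ MulAction.stabilizer A x :=
          h ▸ Subgroup.mem_sup_left (by simpa using hT.conj_mem t ht a⁻¹)
        rw [MulAction.mem_stabilizer_iff, mul_smul, mul_smul, inv_smul_eq_iff] at h2
        exact h2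
      · exact h
    intro y
    obtain ⟨a, rfl⟩ := htr y
    have h2 : a ∈ ((T ⊔ A0 : Subgroup A) : Set A) := by rw [h1]; exact Subgroup.mem_top a
    rw [Subgroup.normal_mul, Set.mem_mul] at h2
    obtain ⟨t, ht, s, hs, rfl⟩ := h2
    exact ⟨t, ht, by rw [mul_smul, hmem0.1 hs]⟩
  have hreg : ∀ t ∈ T, ∀ y : Ω, t • y = y → t = 1 := by
    intro t ht y hy
    refine hf t fun z => ?_
    obtain ⟨r, hr, rfl⟩ := hTtr y
    obtain ⟨s, hs, rfl⟩ := hTtr z
    rw [← mul_smul, (hTc t ht r hr).eq, mul_smul, smul_left_cancel_iff] at hy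
    rw [← mul_smul, (hTc t ht s hs).eq, mul_smul, hy]
  letI : CommGroup T :=
    { (inferInstance : Group T) with mul_comm := fun a b => Subtype.ext (hTc a a.2 b b.2).eq }
  letI : MulDistribMulAction A0 T :=
    { smul := fun g t => ⟨(g : A) * t * (g : A)⁻¹, hT.conj_mem t t.2 g⟩
      one_smul := fun t => Subtype.ext (show ((1 : A0) : A) * t * ((1 : A0) : A)⁻¹ = t by simp)
      mul_smul := fun g h t => Subtype.ext
        (show ((g * h : A0) : A) * t * ((g * h : A0) : A)⁻¹ = g * (h * t * (h : A)⁻¹) * (g : A)⁻¹ by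
          rw [Subgroup.coe_mul]; group)
      smul_mul := fun g s t => Subtype.ext
        (show (g : A) * ((s * t : T) : A) * (g : A)⁻¹ = (g * s * (g : A)⁻¹) * (g * t * (g : A)⁻¹) by
          rw [Subgroup.coe_mul]; group)
      smul_one := fun g => Subtype.ext (show (g : A) * ((1 : T) : A) * (g : A)⁻¹ = 1 by simp) }
  letI : DistribMulAction A0 (Additive T) :=
    { smul := fun g t => Additive.ofMul (g • Additive.toMul t)
      one_smul := fun t => congrArg Additive.ofMul (one_smul A0 (Additive.toMul t))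
      mul_smul := fun g h t => congrArg Additive.ofMul (mul_smul g h (Additive.toMul t))
      smul_zero := fun g => congrArg Additive.ofMul (smul_one g)
      smul_add := fun g s t => congrArg Additive.ofMul (smul_mul' g (Additive.toMul s) (Additive.toMul t)) }
  haveI : Finite (Additive T) := (inferInstance : Finite T)
  have hcr : CR A0 (Additive T) := by
    refine cr_of_irred fun U hU => ?_
    let O : Set Ω := {y | ∃ t : T, Additive.ofMul t ∈ U ∧ (t : A) • x = y}
    let H : Subgroup A :=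
      { carrier := {g | ∀ y, y ∈ O ↔ g • y ∈ O}
        one_mem' := fun y => by rw [one_smul]
        mul_mem' := fun {g h} hg hh y => by rw [mul_smul, hh y, hg (h • y)]
        inv_mem' := fun {g} hg y => by rw [hg (g⁻¹ • y), smul_inv_smul] }
    have hUH : ∀ t : T, Additive.ofMul t ∈ U → (t : A) ∈ H := by
      intro t ht y
      constructor
      · rintro ⟨s, hs, rfl⟩
        exact ⟨t * s, U.add_mem ht hs, by rw [Subgroup.coe_mul, mul_smul]⟩
      · rintro ⟨s, hs, h⟩
        refine ⟨t⁻¹ * s, U.add_mem (U.neg_mem ht) hs, ?_⟩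
        rw [Subgroup.coe_mul, mul_smul, h, Subgroup.coe_inv, inv_smul_smul]
    have hA0H : A0 ≤ H := by
      intro g hg y
      have move : ∀ (g : A0) (y : Ω), y ∈ O → (g : A) • y ∈ O := by
        rintro g _ ⟨s, hs, rfl⟩
        refine ⟨g • s, hU g _ hs, ?_⟩
        show ((g : A) * s * (g : A)⁻¹) • x = (g : A) • (s : A) • x
        rw [mul_smul, mul_smul, show (g : A)⁻¹ • x = x from hmem0.1 (inv_mem g.2)]
      refine ⟨move ⟨g, hg⟩ y, fun h => ?_⟩
      have h1 := move ⟨g⁻¹, inv_mem hg⟩ _ h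
      rwa [show ((⟨g⁻¹, inv_mem hg⟩ : A0) : A) = g⁻¹ from rfl, inv_smul_smul] at h1
    rcases hmax H (hA0 ▸ hA0H) with hH | hH
    · refine Or.inl ((AddSubgroup.eq_bot_iff_forall U).2 fun t ht => ?_)
      have h1 := hUH (Additive.toMul t) ht
      rw [hH, MulAction.mem_stabilizer_iff] at h1
      exact congrArg Additive.ofMul (Subtype.ext (hreg _ (Additive.toMul t).2 x h1) : Additive.toMul t = 1)
    · refine Or.inr (AddSubgroup.eq_top_iff' U |>.2 fun t => ?_)
      have h1 : x ∈ O := ⟨1, U.zero_mem, one_smul A x⟩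
      have h2 : ((Additive.toMul t : T) : A) ∈ H := hH ▸ Subgroup.mem_top _
      obtain ⟨s, hs, he⟩ := (h2 x).1 h1
      have h3 := hreg ((s : A)⁻¹ * (Additive.toMul t : T)) (mul_mem (inv_mem s.2) (Additive.toMul t).2) x
        (by rw [mul_smul, ← he, inv_smul_smul])
      rwa [show s = Additive.toMul t from Subtype.ext (inv_mul_eq_one.1 h3)] at hs
  haveI := hA
  have hcard : Nat.card (Additive T) ≤ n := by
    refine le_trans (Nat.card_le_card_of_injective
      (fun t : Additive T => ((Additive.toMul t : T) : A) • x) fun r s hrs => ?_) hn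
    have h1 := hreg (((Additive.toMul s : T) : A)⁻¹ * (Additive.toMul r : T))
      (mul_mem (inv_mem (Additive.toMul s).2) (Additive.toMul r).2) x
      (by rw [mul_smul, show ((Additive.toMul r : T) : A) • x = ((Additive.toMul s : T) : A) • x from hrs,
        inv_smul_smul])
    exact congrArg Additive.ofMul (Subtype.ext (inv_mul_eq_one.1 h1).symm :
      (Additive.toMul r : T) = Additive.toMul s)
  obtain ⟨v, hv⟩ := hP A0 (Additive T) inferInstance hcr hcard
  have hq3 : q ≠ 3 := by
    rintro rfl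
    obtain ⟨t, ht, ht1⟩ : ∃ t ∈ T, t ≠ 1 := by
      by_contra h
      push Not at h
      exact hT1 ((Subgroup.eq_bot_iff_forall T).2 h)
    exact h3 (orderOf_eq_prime (p := 3) (hTq t ht) ht1 ▸ orderOf_dvd_natCard t)
  obtain ⟨S, hS0, hS⟩ := exists_rigid (G := A0) (W := Additive T) hq hq3
    (fun t => congrArg Additive.ofMul (Subtype.ext (hTq _ (Additive.toMul t).2) : Additive.toMul t ^ q = 1))
    (fun h => h3 (h.trans (Subgroup.card_subgroup_dvd_card A0))) (a := v 0) (b := v 1) (c := v 2)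
    (fun g h0 h1 h2 => hv g fun i => by fin_cases i <;> assumption)
  let pnt : Additive T → Ω := fun t => ((Additive.toMul t : T) : A) • x
  have hinj : Function.Injective pnt := fun r s hrs => by
    have h1 := hreg (((Additive.toMul s : T) : A)⁻¹ * (Additive.toMul r : T))
      (mul_mem (inv_mem (Additive.toMul s).2) (Additive.toMul r).2) x
      (by rw [mul_smul, show ((Additive.toMul r : T) : A) • x = ((Additive.toMul s : T) : A) • x from hrs,
        inv_smul_smul])
    exact congrArg Additive.ofMul (Subtype.ext (inv_mul_eq_one.1 h1).symm :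
      (Additive.toMul r : T) = Additive.toMul s)
  refine ⟨fun y => if y = x then 0 else if y ∈ pnt '' S then 1 else 2, fun a ha => ?_⟩
  have hax : a • x = x := by
    have h := ha x
    simp only [if_true] at h
    by_contra hne
    rw [if_neg hne] at h
    split_ifs at h <;> simp at h
  have hg : a ∈ A0 := hmem0.2 hax
  have hmove : ∀ t : Additive T, a • pnt t = pnt ((⟨a, hg⟩ : A0) • t) := fun t => by
    show a • ((Additive.toMul t : T) : A) • x = (a * ((Additive.toMul t : T) : A) * a⁻¹) • x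
    rw [mul_smul, mul_smul, show a⁻¹ • x = x from hmem0.1 (inv_mem hg)]
  have hSinv : ∀ t ∈ S, (⟨a, hg⟩ : A0) • t ∈ S := fun t ht => by
    have hne : pnt t ≠ x := fun e => hS0 (by
      rwa [← hinj (a₁ := t) (a₂ := 0) (e.trans (one_smul A x).symm)])
    have hne' : a • pnt t ≠ x := fun e => hne (MulAction.injective a (e.trans hax.symm))
    have h := ha (pnt t)
    simp only [if_neg hne, if_neg hne', if_pos (Set.mem_image_of_mem pnt ht)] at h
    by_contra hnot
    rw [if_neg] at h
    · simp at h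
    · rintro ⟨s, hs, hse⟩
      rw [hmove] at hse
      exact hnot (hinj hse ▸ hs)
  intro y
  obtain ⟨t, ht, rfl⟩ := hTtr y
  have h1 : a * t * a⁻¹ = t :=
    congrArg (fun s : Additive T => ((Additive.toMul s : T) : A))
      (hS ⟨a, hg⟩ hSinv (Additive.ofMul ⟨t, ht⟩))
  have h2 : a * t = t * a := by nth_rewrite 2 [← h1]; rw [inv_mul_cancel_right]
  rw [← mul_smul, h2, mul_smul, hax]

/-- Solvable permutation groups of degree at most `n` of order prime to three have a distinguishing three-colouring. -/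
theorem colour3_of {n : ℕ} (hP : PB3.{v} n) :
    ∀ m ≤ n, ∀ (A Ω : Type v) [Group A] [Finite A] [MulAction A Ω] [Finite Ω],
      Group.IsSolvable A → ¬3 ∣ Nat.card A → Nat.card Ω = m → Colour3 A Ω := by
  intro m
  induction m using Nat.strong_induction_on with
  | _ m ih =>
    intro hmn A Ω _ _ _ _ hA h3 hm
    haveI := hA
    by_cases h2 : Nat.card Ω < 2
    · haveI : Subsingleton Ω := Finite.card_le_one_iff_subsingleton.1 (by omega)
      exact ⟨fun _ => 0, fun a _ x => Subsingleton.elim _ _⟩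
    haveI : Nonempty Ω := (Nat.card_pos_iff.1 (by omega : 0 < Nat.card Ω)).1
    obtain ⟨x⟩ := ‹Nonempty Ω›
    have hlt : ∀ (P : Set Ω) (z : Ω), z ∉ P → Nat.card P < m := fun P z hz => by
      rw [← hm, Nat.card_coe_set_eq, ← Set.ncard_univ]
      exact Set.ncard_lt_ncard ⟨Set.subset_univ P, fun h => hz (h (Set.mem_univ z))⟩
    by_cases htr : ∀ y : Ω, ∃ a : A, a • x = y
    swap
    · push Not at htr
      obtain ⟨y, hy⟩ := htr
      have hP' : ∀ (a : A), ∀ z ∈ MulAction.orbit A x, a • z ∈ MulAction.orbit A x := by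
        rintro a _ ⟨b, rfl⟩
        exact ⟨a * b, mul_smul a b x⟩
      have hQ : ∀ (a : A), ∀ z ∈ (MulAction.orbit A x)ᶜ, a • z ∈ (MulAction.orbit A x)ᶜ :=
        fun a z hz h => hz (by simpa using hP' a⁻¹ _ h)
      refine colour3_union hP' hQ ?_ ?_
      · letI := setAct _ hP'
        have hPlt := hlt (MulAction.orbit A x) y (fun ⟨a, ha⟩ => hy a ha)
        exact ih _ hPlt (by omega) A _ hA h3 rfl
      · letI := setAct _ hQ
        have hPlt := hlt (MulAction.orbit A x)ᶜ x (fun h => h (MulAction.mem_orbit_self x))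
        exact ih _ hPlt (by omega) A _ hA h3 rfl
    have horb : (MulAction.stabilizer A x).index = Nat.card Ω := by
      rw [MulAction.index_stabilizer, show MulAction.orbit A x = Set.univ from
        Set.eq_univ_iff_forall.2 fun y => htr y, Set.ncard_univ]
    by_cases hmax : ∀ H : Subgroup A, MulAction.stabilizer A x ≤ H →
        H = MulAction.stabilizer A x ∨ H = ⊤
    · let ρ := MulAction.toPermHom A Ω
      obtain ⟨c, hc⟩ := colour3_primitive (A := ρ.range) (Ω := Ω) (x := x) hP (by omega)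
        (Group.isSolvable_of_surjective (f := ρ.rangeRestrict) ρ.rangeRestrict_surjective)
        (fun h => h3 (h.trans (Subgroup.card_range_dvd ρ)))
        (fun a h => Subtype.ext (Equiv.ext h))
        (fun y => by obtain ⟨a, ha⟩ := htr y; exact ⟨ρ.rangeRestrict a, ha⟩)
        (fun H hH => by
          have h1 : MulAction.stabilizer A x ≤ H.comap ρ.rangeRestrict := fun a ha => hH ha
          rcases hmax _ h1 with h | h
          · refine Or.inl (le_antisymm (fun b hb => ?_) hH)
            obtain ⟨a, rfl⟩ := ρ.rangeRestrict_surjective b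
            exact (h.le (show a ∈ H.comap ρ.rangeRestrict from hb) : a • x = x)
          · refine Or.inr (eq_top_iff.2 fun b _ => ?_)
            obtain ⟨a, rfl⟩ := ρ.rangeRestrict_surjective b
            exact h.ge (Subgroup.mem_top a))
      exact ⟨c, fun a ha => hc (ρ.rangeRestrict a) ha⟩
    · push Not at hmax
      obtain ⟨H, hH, hne, hne'⟩ := hmax
      obtain ⟨a, -, ha⟩ : ∃ a ∈ (⊤ : Subgroup A), a ∉ H := by
        by_contra h; push Not at h; exact hne' (eq_top_iff.2 h)
      refine colour3_blocks htr h3 hH ?_ fun P hP' hPH => ?_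
      · have hd := Subgroup.index_dvd_of_le hH
        have h1 : H.index ≠ (MulAction.stabilizer A x).index := fun h => hne (by
          refine (Subgroup.eq_of_le_of_card_ge hH ?_).symm
          have e1 := Subgroup.card_mul_index H
          have e2 := Subgroup.card_mul_index (MulAction.stabilizer A x)
          rw [h, ← e2] at e1
          exact (Nat.eq_of_mul_eq_mul_right (by omega) e1).le)
        have h2 := Nat.le_of_dvd (by omega) hd
        have hcq : Nat.card (A ⧸ H) < m := by rw [← Subgroup.index_eq_card]; omega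
        exact ih _ hcq (by omega) A (A ⧸ H) hA h3 rfl
      · have hout : a • x ∉ P := fun h => by
          obtain ⟨h', hh', he⟩ := hPH _ h
          have h1 : h'⁻¹ * a ∈ H := hH (by
            rw [MulAction.mem_stabilizer_iff, mul_smul, ← he, inv_smul_smul])
          exact ha (by simpa using H.mul_mem hh' h1)
        have hPlt := hlt P _ hout
        letI := setAct P hP'
        exact ih _ hPlt (by omega) H P inferInstance (fun h => h3 (h.trans (Subgroup.card_subgroup_dvd_card H))) rfl

end Cfsg.Agent.Solv.CopPair
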