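import Cfsg.Agent.Lib.Solv.CopPair.Base

/-!
Splitting a layer, the four-group layer without eigenvectors, and the recursion.
-/

set_option autoImplicit false
set_option linter.unusedSectionVars false
set_option linter.style.haveILetI false
set_option maxHeartbeats 800000

namespace Cfsg.Agent.Solv.CopPair

universe u v

variable {K : Type u} [Field K] {V : Type v} [AddCommGroup V] [Module K V]

/-- Two elements commuting up to sign, with non-square squares, and nothing else. -/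
structure Quat (E : Subgroup (V ≃ₗ[K] V)) (f b : V ≃ₗ[K] V) (R S : K) : Prop where
  hf : f ∈ E
  hb : b ∈ E
  hfR : ∀ x, f (f x) = R • x
  hbS : ∀ x, b (b x) = S • x
  anti : ∀ x, f (b x) = (-1 : K) • b (f x)
  hR : ¬IsSquare R
  hS : ¬IsSquare S
  hneg : ¬IsSquare (-1 : K)
  gen : ∀ a ∈ E, ∃ c : K, (∀ x, a x = c • x) ∨ (∀ x, a x = c • f x) ∨ (∀ x, a x = c • b x) ∨
    (∀ x, a x = c • f (b x))

theorem mul_pow_scal {a b : V ≃ₗ[K] V} {c : K} (h : ∀ x, b (a x) = c • a (b x)) :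
    ∀ (n : ℕ) x, ((a * b) ^ n) x = c ^ n.choose 2 • (a ^ n) ((b ^ n) x)
  | 0 => fun x => by simp
  | n + 1 => fun x => by
    rw [pow_succ', pow_succ' a, pow_succ' b]
    show a (b (((a * b) ^ n) x)) = _
    rw [mul_pow_scal h n x, map_smul, map_smul]
    have h1 : ∀ k y, b ((a ^ k) y) = c ^ k • (a ^ k) (b y) := by
      intro k
      induction k with
      | zero => intro y; rw [pow_zero, pow_zero, one_smul]; rfl
      | succ k ih =>
        intro y
        rw [pow_succ', pow_succ']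
        show b (a ((a ^ k) y)) = _
        rw [h, ih, map_smul, smul_smul]
        rfl
    rw [h1, map_smul, smul_smul, Nat.choose_succ_succ', Nat.choose_one_right, ← pow_add, add_comm n]
    rfl

theorem isSc_pow {a : V ≃ₗ[K] V} (h : IsSc a) (n : ℕ) : IsSc (a ^ n) := by
  obtain ⟨c, hc⟩ := h
  exact ⟨c ^ n, fun x => pow_apply_eigen a (hc x) n⟩

section

variable [Nontrivial V] {E : Subgroup (V ≃ₗ[K] V)}

/-- From a non-scalar element with prime power scalar and an element acting as a root, a split. -/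
theorem split_of_root (hE : Layer E) {f : V ≃ₗ[K] V} (hf : f ∈ E) (hns : ¬IsSc f) {l : ℕ}
    (hl : l.Prime) {ρ : K} (hρ : ∀ x, (f ^ l) x = ρ ^ l • x) :
    ∃ (z e : V ≃ₗ[K] V) (ω : K), Split E z e l ω ∧ ∃ x, z x = x ∧ x ≠ 0 := by
  obtain ⟨x₀, hx₀⟩ := exists_ne (0 : V)
  have hρ0 : ρ ≠ 0 := fun h => Split.apply_ne_zero (f ^ l) hx₀ (by rw [hρ, h, zero_pow hl.ne_zero, zero_smul])
  obtain ⟨s, hsE, hs⟩ := hE.scalar ρ⁻¹ (inv_ne_zero hρ0)
  obtain ⟨z, hz⟩ : ∃ z, z = s * f := ⟨_, rfl⟩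
  have hzE : z ∈ E := hz ▸ mul_mem hsE hf
  have hzx : ∀ x, z x = ρ⁻¹ • f x := fun x => by rw [hz]; exact hs _
  have hzl : ∀ x, (z ^ l) x = x := by
    intro x
    rw [hz, mul_pow_scal (c := 1) (fun y => by rw [one_smul, hs, hs, map_smul]), one_pow, one_smul, hρ,
      map_smul, pow_apply_eigen s (hs x), smul_smul, inv_pow, mul_inv_cancel₀ (pow_ne_zero l hρ0), one_smul]
  have hzns : ¬IsSc z := fun ⟨c, hc⟩ => hns ⟨ρ * c, fun x => by
    rw [mul_smul, ← hc, hzx, smul_smul, mul_inv_cancel₀ hρ0, one_smul]⟩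
  obtain ⟨e, he, c, hc, hc1⟩ : ∃ e ∈ E, ∃ c : K, (∀ x, z (e x) = c • e (z x)) ∧ c ≠ 1 := by
    by_contra h
    push Not at h
    refine hzns (hE.center z hzE fun b hb x => ?_)
    obtain ⟨c, hc⟩ := hE.comm z hzE b hb
    rw [hc, h b hb c hc, one_smul]
  have hcl : c ^ l = 1 := by
    have h1 := pow_comm_scal hc l x₀
    rw [hzl, hzl] at h1
    exact eq_smul_of_smul (Split.apply_ne_zero e hx₀) (by rw [one_smul]; exact h1.symm)
  have hroot : IsPrimitiveRoot c l := by
    haveI := Fact.mk hl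
    rw [← orderOf_eq_prime hcl hc1]
    exact IsPrimitiveRoot.orderOf c
  have hsp : Split E z e l c := ⟨hzE, he, hl, hroot, hc, hzl⟩
  refine ⟨z, e, c, hsp, ?_⟩
  haveI := hsp.neZero
  -- some eigenvalue occurs
  obtain ⟨k, hk, hy⟩ : ∃ k < l, proj z l (c ^ k) x₀ ≠ 0 := by
    by_contra h
    push Not at h
    have h1 : ∑ k ∈ Finset.range l, proj z l (c ^ k) x₀ = 0 :=
      Finset.sum_eq_zero fun k hk => h k (Finset.mem_range.1 hk)
    simp only [proj] at h1
    rw [Finset.sum_comm, Finset.sum_eq_single 0] at h1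
    · simp only [pow_zero, one_smul, Finset.sum_const, Finset.card_range] at h1
      rw [← Nat.cast_smul_eq_nsmul K] at h1
      exact smul_ne_zero hroot.neZero'.out (Split.apply_ne_zero (1 : V ≃ₗ[K] V) hx₀) h1
    · intro i hi hi0
      rw [← Finset.sum_smul]
      have hsum : ∑ k ∈ Finset.range l, ((c ^ k)⁻¹) ^ i = 0 := by
        rw [Finset.sum_congr rfl fun k _ => show ((c ^ k)⁻¹) ^ i = ((c ^ i)⁻¹) ^ k by
          rw [inv_pow, inv_pow, ← pow_mul, ← pow_mul, mul_comm]]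
        have hne : (c ^ i)⁻¹ ≠ 1 := fun h => hi0 (hroot.pow_inj (Finset.mem_range.1 hi) hl.pos
          (by rw [pow_zero]; exact inv_eq_one.1 h))
        have h2 := geom_sum_mul (c ^ i)⁻¹ l
        rw [inv_pow (c ^ i) l, show (c ^ i) ^ l = 1 by rw [← pow_mul, mul_comm, pow_mul, hcl, one_pow], inv_one,
          sub_self] at h2
        exact (mul_eq_zero.1 h2).resolve_right (sub_ne_zero.2 hne)
      rw [hsum, zero_smul]
    · exact fun h0 => absurd (Finset.mem_range.2 hl.pos) h0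
  refine ⟨(e ^ (l - k)) (proj z l (c ^ k) x₀), ?_, Split.apply_ne_zero _ hy⟩
  have hyz : z (proj z l (c ^ k) x₀) = c ^ k • proj z l (c ^ k) x₀ := by
    have h0 : c ^ k ≠ 0 := pow_ne_zero k hsp.ω_ne_zero
    obtain ⟨μ, hμ⟩ : ∃ μ, μ = c ^ k := ⟨_, rfl⟩
    have hμl : μ ^ l = 1 := by rw [hμ, ← pow_mul, mul_comm, pow_mul, hcl, one_pow]
    rw [← hμ] at h0 ⊢
    let T : ℕ → V := fun i => (μ⁻¹) ^ i • (z ^ i) x₀
    have hT : T l = T 0 := by
      show (μ⁻¹) ^ l • (z ^ l) x₀ = (μ⁻¹) ^ 0 • (z ^ 0) x₀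
      rw [hzl, inv_pow, hμl, inv_one, pow_zero, pow_zero]
      rfl
    have hstep : ∀ i, z ((μ⁻¹) ^ i • (z ^ i) x₀) = μ • T (i + 1) := fun i => by
      show _ = μ • ((μ⁻¹) ^ (i + 1) • (z ^ (i + 1)) x₀)
      rw [map_smul, smul_smul, pow_succ' z i, pow_succ' μ⁻¹, ← mul_assoc, mul_inv_cancel₀ h0, one_mul]
      rfl
    rw [proj, map_sum, Finset.sum_congr rfl fun i _ => hstep i, ← Finset.smul_sum]
    congr 1
    have h1 := Finset.sum_range_succ' T l
    have h2 := Finset.sum_range_succ T l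
    rw [h2, hT] at h1
    exact (add_right_cancel h1).symm
  rw [hsp.pow_e_comm, hyz, map_smul, smul_smul, ← pow_add, show l - k + k = l by omega, hcl, one_smul]

/-- Every non-scalar layer splits, or is a four-group without eigenvectors. -/
theorem exists_split (hE : Layer E) (hns : ¬∀ a ∈ E, IsSc a) {γ : K}
    (hγ : ∀ k : K, k ≠ 0 → ∃ n : ℕ, k = γ ^ n) :
    (∃ (z e : V ≃ₗ[K] V) (l : ℕ) (ω : K), Split E z e l ω ∧ ∃ x, z x = x ∧ x ≠ 0) ∨
      ∃ f b R S, Quat E f b R S := by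
  classical
  obtain ⟨x₀, hx₀⟩ := exists_ne (0 : V)
  obtain ⟨m, hm, hexp⟩ := hE.expo
  have hm0 : m ≠ 0 := hm.ne_zero
  -- some power of prime order
  have prime_part : ∀ a ∈ E, ¬IsSc a → ∃ (l : ℕ) (f : V ≃ₗ[K] V), l.Prime ∧ f ∈ E ∧ ¬IsSc f ∧ IsSc (f ^ l) := by
    intro a ha hna
    have hex : ∃ d, 0 < d ∧ IsSc (a ^ d) := ⟨m, Nat.pos_of_ne_zero hm0, hexp a ha⟩
    obtain ⟨hd0, hd⟩ := Nat.find_spec hex
    have hd1 : Nat.find hex ≠ 1 := fun h => hna (by rw [h, pow_one] at hd; exact hd)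
    obtain ⟨l, hl, d, hld⟩ := Nat.exists_prime_and_dvd hd1
    have hdpos : 0 < d := Nat.pos_of_ne_zero fun h => by rw [h, mul_zero] at hld; omega
    refine ⟨l, a ^ d, hl, pow_mem ha d, fun h => ?_, by rw [← pow_mul, mul_comm, ← hld]; exact hd⟩
    refine Nat.find_min hex (m := d) ?_ ⟨hdpos, h⟩
    rw [hld]
    calc d = 1 * d := (one_mul d).symm
      _ < l * d := Nat.mul_lt_mul_of_pos_right hl.one_lt hdpos
  have comm_ne : ∀ a ∈ E, ¬IsSc a → ∃ b ∈ E, ∃ c : K, (∀ x, a (b x) = c • b (a x)) ∧ c ≠ 1 := by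
    intro a ha hna
    by_contra h
    push Not at h
    refine hna (hE.center a ha fun b hb x => ?_)
    obtain ⟨c, hc⟩ := hE.comm a ha b hb
    rw [hc, h b hb c hc, one_smul]
  have root : ∀ {a b : V ≃ₗ[K] V} {c : K} {n : ℕ}, (∀ x, a (b x) = c • b (a x)) → IsSc (a ^ n) →
      c ^ n = 1 := by
    intro a b c n hc ⟨s, hs⟩
    have h1 := pow_comm_scal hc n x₀
    rw [hs, hs, map_smul] at h1
    have hs0 : s ≠ 0 := fun h => Split.apply_ne_zero (a ^ n) hx₀ (by rw [hs, h, zero_smul])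
    exact eq_smul_of_smul (smul_ne_zero hs0 (Split.apply_ne_zero b hx₀)) (by rw [one_smul]; exact h1.symm)
  have ne_zero : ∀ {a : V ≃ₗ[K] V} {s : K}, (∀ x, a x = s • x) → s ≠ 0 := fun {a s} h h0 =>
    Split.apply_ne_zero a hx₀ (by rw [h, h0, zero_smul])
  by_cases hodd : ∃ (l : ℕ) (f : V ≃ₗ[K] V), l.Prime ∧ l ≠ 2 ∧ f ∈ E ∧ ¬IsSc f ∧ IsSc (f ^ l)
  · left
    obtain ⟨l, f, hl, hl2, hf, hnf, R, hR⟩ := hodd
    obtain ⟨b, hb, c, hc, hc1⟩ := comm_ne f hf hnf
    have hcl : c ^ l = 1 := root hc ⟨R, hR⟩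
    -- a partner of the same prime
    have hlm : l ∣ m := by
      by_contra h
      refine hc1 ?_
      have h1 := pow_gcd_eq_one.2 ⟨hcl, root hc (hexp f hf)⟩
      rwa [show Nat.gcd l m = 1 from hl.coprime_iff_not_dvd.2 h, pow_one] at h1
    obtain ⟨m', hm'⟩ := hlm
    have hnl : ¬l ∣ m' := by
      rintro ⟨k, hk⟩
      exact hl.not_isUnit (hm l ⟨k, by rw [hm', hk, mul_assoc]⟩)
    obtain ⟨b', hb'⟩ : ∃ b', b' = b ^ m' := ⟨_, rfl⟩
    have hb'E : b' ∈ E := hb' ▸ pow_mem hb m'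
    obtain ⟨S, hS⟩ : IsSc (b' ^ l) := by
      rw [hb', ← pow_mul, mul_comm, ← hm']
      exact hexp b hb
    obtain ⟨c', hc'⟩ := hE.comm f hf b' hb'E
    have hc'1 : c' ≠ 1 := by
      intro h
      have h1 : ∀ n x, f ((b ^ n) x) = c ^ n • (b ^ n) (f x) := by
        intro n
        induction n with
        | zero => intro x; rw [pow_zero, pow_zero, one_smul]; rfl
        | succ n ih =>
          intro x
          rw [pow_succ', pow_succ']
          show f (b ((b ^ n) x)) = _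
          rw [hc, ih, map_smul, smul_smul]
          rfl
      have h2 := h1 m' x₀
      rw [← hb', hc', h] at h2
      have h3 : c ^ m' = 1 := (eq_smul_of_smul (Split.apply_ne_zero b' (Split.apply_ne_zero f hx₀)) h2).symm
      refine hc1 ?_
      have h4 := pow_gcd_eq_one.2 ⟨hcl, h3⟩
      rwa [Nat.coprime_iff_gcd_eq_one.1 (hl.coprime_iff_not_dvd.2 hnl), pow_one] at h4
    have hc'l : c' ^ l = 1 := root hc' ⟨R, hR⟩
    obtain ⟨r, hr⟩ := hγ R (ne_zero hR)
    obtain ⟨s, hs⟩ := hγ S (ne_zero hS)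
    by_cases hlr : l ∣ r
    · obtain ⟨r', rfl⟩ := hlr
      obtain ⟨z, e, ω, h1⟩ := split_of_root hE hf hnf hl (ρ := γ ^ r') fun x => by
        rw [← pow_mul, mul_comm, ← hr]; exact hR x
      exact ⟨z, e, l, ω, h1⟩
    obtain ⟨i, hi⟩ : ∃ i : ℕ, l ∣ s + r * i := by
      haveI := Fact.mk hl
      have hr0 : (r : ZMod l) ≠ 0 := fun h => hlr ((ZMod.natCast_eq_zero_iff r l).1 h)
      refine ⟨(-(s : ZMod l) / (r : ZMod l)).val, (ZMod.natCast_eq_zero_iff _ l).1 ?_⟩
      push_cast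
      rw [ZMod.natCast_zmod_val, mul_div_cancel₀ _ hr0, add_neg_cancel]
    obtain ⟨j, hj⟩ := hi
    have hfi : ∀ n x, b' ((f ^ n) x) = c'⁻¹ ^ n • (f ^ n) (b' x) := by
      intro n x
      have h1 := pow_comm_scal hc' n x
      rw [h1, smul_smul, ← mul_pow, inv_mul_cancel₀ (fun h => by
        rw [h, zero_pow hl.ne_zero] at hc'l; exact zero_ne_one hc'l), one_pow, one_smul]
    have hns' : ¬IsSc (f ^ i * b') := by
      rintro ⟨d, hd⟩
      have hd0 : d ≠ 0 := ne_zero hd
      refine hc'1 ?_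
      have h1 : ∀ x, f ((f ^ i * b') x) = c' • (f ^ i * b') (f x) := by
        intro x
        show f ((f ^ i) (b' x)) = c' • (f ^ i) (b' (f x))
        rw [← map_smul, ← hc']
        show (f * f ^ i) (b' x) = (f ^ i * f) (b' x)
        rw [← pow_succ', ← pow_succ]
      have h2 := h1 x₀
      rw [hd, hd, map_smul, smul_smul] at h2
      exact (mul_right_cancel₀ hd0 (by
        rw [one_mul]; exact eq_smul_of_smul (Split.apply_ne_zero f hx₀) h2)).symm
    obtain ⟨z, e, ω, h1⟩ := split_of_root hE (mul_mem (pow_mem hf i) hb'E) hns' hl (ρ := γ ^ j) fun x => by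
      have hone : (c'⁻¹ ^ i) ^ l.choose 2 = 1 := by
        obtain ⟨k, hk⟩ := hl.dvd_choose_self (k := 2) (by norm_num) (lt_of_le_of_ne hl.two_le (Ne.symm hl2))
        rw [hk, pow_mul, ← pow_mul c'⁻¹ i l, mul_comm i l, pow_mul, inv_pow, hc'l, inv_one, one_pow, one_pow]
      rw [mul_pow_scal (hfi i), hS, map_smul, ← pow_mul f, mul_comm i l, pow_mul f,
        pow_apply_eigen (f ^ l) (hR x), smul_smul, smul_smul, hone, one_mul]
      congr 1
      rw [hr, hs, ← pow_mul, ← pow_mul, ← pow_add, hj, mul_comm j l]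
    exact ⟨z, e, l, ω, h1⟩
  push Not at hodd
  obtain ⟨a₀, ha₀, hna₀⟩ : ∃ a ∈ E, ¬IsSc a := by simpa using hns
  have two : ∀ a ∈ E, IsSc (a ^ 2) := by
    intro a ha
    by_contra h
    obtain ⟨l, f, hl, hf, hnf, hfl⟩ := prime_part _ (pow_mem ha 2) h
    by_cases hl2 : l = 2
    · subst hl2
      obtain ⟨b, hb, c, hc, hc1⟩ := comm_ne f hf hnf
      obtain ⟨d, hd⟩ := hE.comm a ha b hb
      obtain ⟨k, hk⟩ : ∃ k, m = 2 * k := by
        have hc2 := root hc hfl
        rcases Nat.even_or_odd m with ⟨k, hk⟩ | hmo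
        · exact ⟨k, by omega⟩
        · exfalso
          refine hc1 ?_
          have h1 := pow_gcd_eq_one.2 ⟨hc2, root hc (hexp f hf)⟩
          rwa [show Nat.gcd 2 m = 1 from (Nat.coprime_two_left.2 hmo), pow_one] at h1
      have hko : ¬2 ∣ k := fun ⟨i, hi⟩ => Nat.prime_two.not_isUnit (hm 2 ⟨i, by omega⟩)
      -- the odd power of a square is scalar
      have h2k : IsSc ((a ^ 2) ^ k) := by rw [← pow_mul, ← hk]; exact hexp a ha
      exact absurd h2k fun h2k => by
        have hex : ∃ n, 0 < n ∧ IsSc ((a ^ 2) ^ n) := ⟨k, by omega, h2k⟩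
        obtain ⟨hn0, hn⟩ := Nat.find_spec hex
        have hn1 : Nat.find hex ≠ 1 := fun e => h (by rw [e, pow_one] at hn; exact hn)
        obtain ⟨l, hl, n, hln⟩ := Nat.exists_prime_and_dvd hn1
        have hnpos : 0 < n := Nat.pos_of_ne_zero fun e => by rw [e, mul_zero] at hln; omega
        by_cases hl2 : l = 2
        · subst hl2
          -- the least exponent divides the odd one
          obtain ⟨N, hN⟩ : ∃ N, N = Nat.find hex := ⟨_, rfl⟩
          have hdvd : N ∣ k := by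
            rw [Nat.dvd_iff_mod_eq_zero]
            by_contra hmod
            refine Nat.find_min hex (m := k % N) (by rw [hN]; exact Nat.mod_lt _ hn0)
              ⟨Nat.pos_of_ne_zero hmod, ?_⟩
            obtain ⟨s, hs⟩ := h2k
            obtain ⟨r, hr⟩ := isSc_pow hn (k / N)
            have hr0 := ne_zero hr
            refine ⟨r⁻¹ * s, fun x => ?_⟩
            rw [← Nat.div_add_mod k N, pow_add, pow_mul, hN] at hs
            have hs' := hs x
            change (((a ^ 2) ^ Nat.find hex) ^ (k / Nat.find hex)) _ = _ at hs'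
            rw [← hN] at hs' hr
            rw [hr] at hs'
            rw [mul_smul, ← hs', smul_smul, inv_mul_cancel₀ hr0, one_smul, hN]
            rfl
          exact hko (dvd_trans (Dvd.intro n (hN.trans hln).symm) hdvd)
        · refine hodd l ((a ^ 2) ^ n) hl hl2 (pow_mem (pow_mem ha 2) n) (fun e => ?_)
            (by rw [← pow_mul _ n, mul_comm, ← hln]; exact hn)
          refine Nat.find_min hex (m := n) ?_ ⟨hnpos, e⟩
          rw [hln]
          calc n = 1 * n := (one_mul n).symm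
            _ < l * n := Nat.mul_lt_mul_of_pos_right hl.one_lt hnpos
    · exact hodd l f hl hl2 hf hnf hfl
  have sign : ∀ a ∈ E, ∀ b ∈ E, ∀ c : K, (∀ x, a (b x) = c • b (a x)) → c = 1 ∨ c = -1 := fun a ha b hb c hc => by
    have := root hc (two a ha)
    rw [pow_two] at this
    exact mul_self_eq_one_iff.1 this
  obtain ⟨b, hb, c, hc, hc1⟩ := comm_ne a₀ ha₀ hna₀
  obtain rfl : c = -1 := (sign a₀ ha₀ b hb c hc).resolve_left hc1
  have hne1 : (-1 : K) ≠ 1 := hc1
  obtain ⟨R, hR⟩ := two a₀ ha₀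
  obtain ⟨S, hS⟩ := two b hb
  have sq_split : ∀ (a : V ≃ₗ[K] V) (T : K), a ∈ E → ¬IsSc a → (∀ x, a (a x) = T • x) → IsSquare T →
      ∃ (z e : V ≃ₗ[K] V) (l : ℕ) (ω : K), Split E z e l ω ∧ ∃ x, z x = x ∧ x ≠ 0 := by
    rintro a T ha hna hT ⟨ρ, rfl⟩
    obtain ⟨z, e, ω, h1⟩ := split_of_root hE ha hna Nat.prime_two (ρ := ρ) fun x => by
      rw [pow_two, pow_two]; exact hT x
    exact ⟨z, e, 2, ω, h1⟩
  have hRR : ∀ x, a₀ (a₀ x) = R • x := fun x => by
    have := hR x; rwa [pow_two] at this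
  have hSS : ∀ x, b (b x) = S • x := fun x => by
    have := hS x; rwa [pow_two] at this
  have hab2 : ∀ x, (a₀ * b) ((a₀ * b) x) = (-(R * S)) • x := fun x => by
    show a₀ (b (a₀ (b x))) = _
    have h1 : b (a₀ (b x)) = (-1 : K) • a₀ (b (b x)) := by
      rw [hc (b x), smul_smul, neg_one_mul, neg_neg, one_smul]
    rw [h1, map_smul, hRR, hSS, smul_smul, smul_smul]
    congr 1
    ring
  have hnb : ¬IsSc b := fun ⟨d, hd⟩ => by
    refine hne1 ?_
    have h1 := hc x₀
    rw [hd, hd, map_smul, smul_smul] at h1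
    exact (mul_right_cancel₀ (ne_zero hd) (by
      rw [one_mul]; exact eq_smul_of_smul (Split.apply_ne_zero a₀ hx₀) h1)).symm
  have hnab : ¬IsSc (a₀ * b) := fun ⟨d, hd⟩ => by
    refine hne1 ?_
    have h1 : a₀ ((a₀ * b) x₀) = (-1 : K) • (a₀ * b) (a₀ x₀) := by
      show a₀ (a₀ (b x₀)) = (-1 : K) • a₀ (b (a₀ x₀))
      rw [← map_smul, ← hc]
    rw [hd, hd, map_smul, smul_smul] at h1
    exact (mul_right_cancel₀ (ne_zero hd) (by
      rw [one_mul]; exact eq_smul_of_smul (Split.apply_ne_zero a₀ hx₀) h1)).symm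
  have hR0 : R ≠ 0 := ne_zero hR
  have hS0 : S ≠ 0 := ne_zero hS
  by_cases hRsq : IsSquare R
  · exact Or.inl (sq_split a₀ R ha₀ hna₀ hRR hRsq)
  by_cases hSsq : IsSquare S
  · exact Or.inl (sq_split b S hb hnb hSS hSsq)
  have prod_sq : ∀ s t : K, s ≠ 0 → t ≠ 0 → ¬IsSquare s → ¬IsSquare t → IsSquare (s * t) := by
    intro s t hs0 ht0 hs ht
    obtain ⟨i, rfl⟩ := hγ s hs0
    obtain ⟨j, rfl⟩ := hγ t ht0
    rcases Nat.even_or_odd i with ⟨k, rfl⟩ | hi
    · exact absurd ⟨γ ^ k, pow_add γ k k⟩ hs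
    rcases Nat.even_or_odd j with ⟨k, rfl⟩ | hj
    · exact absurd ⟨γ ^ k, pow_add γ k k⟩ ht
    obtain ⟨k, hk⟩ := hi.add_odd hj
    exact ⟨γ ^ k, by rw [← pow_add, hk, pow_add]⟩
  by_cases hneg : IsSquare (-1 : K)
  · refine Or.inl (sq_split _ _ (mul_mem ha₀ hb) hnab hab2 ?_)
    rw [← neg_one_mul]
    exact hneg.mul (prod_sq R S hR0 hS0 hRsq hSsq)
  by_cases hcomm : ∃ a ∈ E, ¬IsSc a ∧ (∀ x, a (a₀ x) = a₀ (a x)) ∧ ∀ x, a (b x) = b (a x)
  · left
    obtain ⟨a, ha, hna, hca, hcb⟩ := hcomm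
    obtain ⟨T, hT⟩ := two a ha
    have hTT : ∀ x, a (a x) = T • x := fun x => by
      have := hT x; rwa [pow_two] at this
    by_cases hTsq : IsSquare T
    · exact sq_split a T ha hna hTT hTsq
    refine sq_split (a * a₀) (T * R) (mul_mem ha ha₀) (fun ⟨d, hd⟩ => ?_) (fun x => ?_)
      (prod_sq T R (ne_zero hT) hR0 hTsq hRsq)
    · refine hne1 ?_
      have h1 : (a * a₀) (b x₀) = (-1 : K) • b ((a * a₀) x₀) := by
        show a (a₀ (b x₀)) = (-1 : K) • b (a (a₀ x₀))
        rw [hc, map_smul, hcb]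
      rw [hd, hd, map_smul, smul_smul] at h1
      exact (mul_right_cancel₀ (ne_zero hd) (by
        rw [one_mul]; exact eq_smul_of_smul (Split.apply_ne_zero b hx₀) h1)).symm
    · show a (a₀ (a (a₀ x))) = _
      rw [← hca, hTT, hRR, smul_smul]
  right
  push Not at hcomm
  refine ⟨a₀, b, R, S, ha₀, hb, hRR, hSS, hc, hRsq, hSsq, hneg, fun a ha => ?_⟩
  -- reduce by the two generators
  obtain ⟨c1, hc1'⟩ := hE.comm a ha a₀ ha₀
  obtain ⟨c2, hc2'⟩ := hE.comm a ha b hb
  have hba : ∀ x, b (a₀ x) = (-1 : K) • a₀ (b x) := fun x => by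
    rw [hc, smul_smul, neg_one_mul, neg_neg, one_smul]
  have conclude : ∀ g ∈ E, (∀ x, (a * g) (a₀ x) = a₀ ((a * g) x)) → (∀ x, (a * g) (b x) = b ((a * g) x)) →
      ∃ d : K, ∀ x, a (g x) = d • x := by
    intro g hg h1 h2
    by_contra hcon
    push Not at hcon
    have hnsc : ¬IsSc (a * g) := fun ⟨d, hd⟩ => by
      obtain ⟨x, hx⟩ := hcon d
      exact hx (hd x)
    obtain ⟨x, hx⟩ := hcomm _ (mul_mem ha hg) hnsc h1
    exact hx (h2 x)
  rcases sign a ha a₀ ha₀ c1 hc1' with rfl | rfl <;> rcases sign a ha b hb c2 hc2' with rfl | rfl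
  · obtain ⟨d, hd⟩ := conclude 1 (one_mem E) (fun x => by simpa using hc1' x) (fun x => by simpa using hc2' x)
    exact ⟨d, Or.inl fun x => hd x⟩
  · -- multiply by the first
    obtain ⟨d, hd⟩ := conclude a₀ ha₀
      (fun x => by show a (a₀ (a₀ x)) = a₀ (a (a₀ x)); rw [hc1', one_smul])
      (fun x => by
        show a (a₀ (b x)) = b (a (a₀ x))
        rw [hc, map_smul, hc2', smul_smul, neg_one_mul, neg_neg, one_smul])
    refine ⟨d * R⁻¹, Or.inr (Or.inl fun x => ?_)⟩
    have h1 := hd (a₀ x)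
    rw [hRR, map_smul] at h1
    rw [mul_comm, mul_smul, ← h1, smul_smul, inv_mul_cancel₀ hR0, one_smul]
  · obtain ⟨d, hd⟩ := conclude b hb
      (fun x => by
        show a (b (a₀ x)) = a₀ (a (b x))
        rw [hba, map_smul, hc1', smul_smul, neg_one_mul, neg_neg, one_smul])
      (fun x => by show a (b (b x)) = b (a (b x)); rw [hc2', one_smul])
    refine ⟨d * S⁻¹, Or.inr (Or.inr (Or.inl fun x => ?_))⟩
    have h1 := hd (b x)
    rw [hSS, map_smul] at h1
    rw [mul_comm, mul_smul, ← h1, smul_smul, inv_mul_cancel₀ hS0, one_smul]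
  · obtain ⟨d, hd⟩ := conclude (a₀ * b) (mul_mem ha₀ hb)
      (fun x => by
        show a (a₀ (b (a₀ x))) = a₀ (a (a₀ (b x)))
        rw [hba, map_smul, map_smul, hc1', smul_smul, neg_one_mul, neg_neg, one_smul])
      (fun x => by
        show a (a₀ (b (b x))) = b (a (a₀ (b x)))
        rw [hc, map_smul, hc2', smul_smul, neg_one_mul, neg_neg, one_smul])
    refine ⟨d * (-(R * S))⁻¹, Or.inr (Or.inr (Or.inr fun x => ?_))⟩
    have hRS : -(R * S) ≠ 0 := neg_ne_zero.2 (mul_ne_zero hR0 hS0)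
    have h1 := hd (a₀ (b x))
    change a (a₀ (b (a₀ (b x)))) = _ at h1
    rw [show a₀ (b (a₀ (b x))) = (-(R * S)) • x from hab2 x, map_smul] at h1
    rw [mul_comm, mul_smul, ← h1, smul_smul, inv_mul_cancel₀ hRS, one_smul]

/-- The layer without eigenvectors. -/
theorem good_quat [Finite K] (hE : Layer E) {f b : V ≃ₗ[K] V} {R S : K}
    (hq : Quat E f b R S) {γ : K} (hγ : ∀ k : K, k ≠ 0 → ∃ n : ℕ, k = γ ^ n) (hγ2 : γ * γ ≠ 1)
    (h2 : (2 : K) ≠ 0) : ∃ x y, Good E x y := by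
  classical
  haveI := Fintype.ofFinite K
  obtain ⟨x₀, hx₀⟩ := exists_ne (0 : V)
  have hR0 : R ≠ 0 := fun h => hq.hR (h ▸ IsSquare.zero)
  have hS0 : S ≠ 0 := fun h => hq.hS (h ▸ IsSquare.zero)
  obtain ⟨a, a', haa⟩ : ∃ a a' : K, a * a * R + a' * a' * S = 1 := by
    have hcard : Fintype.card K % 2 = 1 := by
      refine FiniteField.odd_card_of_char_ne_two fun h => h2 ?_
      have h' := CharP.cast_eq_zero K (ringChar K)
      rw [h] at h'
      exact_mod_cast h'
    obtain ⟨a, a', h⟩ := FiniteField.exists_root_sum_quadratic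
      (f := Polynomial.C R * Polynomial.X ^ 2 - 1) (g := Polynomial.C S * Polynomial.X ^ 2)
      (by
        rw [← Polynomial.C_1, sub_eq_add_neg, ← Polynomial.C_neg,
          Polynomial.degree_add_C (by rw [Polynomial.degree_C_mul_X_pow 2 hR0]; norm_num)]
        exact Polynomial.degree_C_mul_X_pow 2 hR0)
      (Polynomial.degree_C_mul_X_pow 2 hS0) hcard
    refine ⟨a, a', ?_⟩
    simp only [Polynomial.eval_sub, Polynomial.eval_mul, Polynomial.eval_C, Polynomial.eval_pow,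
      Polynomial.eval_X, Polynomial.eval_one] at h
    linear_combination h
  have ha0 : a ≠ 0 := by
    rintro rfl
    refine hq.hS ⟨a'⁻¹, ?_⟩
    have : a' ≠ 0 := by rintro rfl; simp at haa
    field_simp
    linear_combination haa
  have ha'0 : a' ≠ 0 := by
    rintro rfl
    refine hq.hR ⟨a⁻¹, ?_⟩
    field_simp
    linear_combination haa
  let t : V → V := fun x => a • f x + a' • b x
  have htt : ∀ x, t (t x) = x := by
    intro x
    show a • f (a • f x + a' • b x) + a' • b (a • f x + a' • b x) = x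
    rw [map_add, map_add, map_smul, map_smul, map_smul, map_smul, hq.hfR, hq.hbS, hq.anti]
    simp only [smul_add, smul_smul, ← mul_assoc]
    have : (a * a' * (-1 : K)) • b (f x) + (a' * a) • b (f x) = 0 := by
      rw [← add_smul, show a * a' * (-1 : K) + a' * a = 0 by ring, zero_smul]
    calc (a * a * R) • x + (a * a' * (-1 : K)) • b (f x) + ((a' * a) • b (f x) + (a' * a' * S) • x)
        = (a * a * R) • x + ((a * a' * (-1 : K)) • b (f x) + (a' * a) • b (f x)) + (a' * a' * S) • x := by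
          abel
      _ = x := by rw [this, add_zero, ← add_smul, haa, one_smul]
  obtain ⟨u, hu, htu⟩ : ∃ u, u ≠ 0 ∧ t u = u := by
    by_contra h
    push Not at h
    have hneg : ∀ x, t x = -x := fun x => by
      by_contra hx
      refine h (x + t x) (fun h0 => hx (eq_neg_of_add_eq_zero_right h0)) ?_
      show a • f (x + t x) + a' • b (x + t x) = x + t x
      rw [map_add f x (t x), map_add b x (t x), smul_add, smul_add, add_add_add_comm]
      show t x + t (t x) = x + t x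
      rw [htt, add_comm]
    have h1 := hneg (f x₀)
    have h2' := congrArg f (hneg x₀)
    change a • f (f x₀) + a' • b (f x₀) = -f x₀ at h1
    change f (a • f x₀ + a' • b x₀) = f (-x₀) at h2'
    rw [map_add, map_smul, map_smul, hq.hfR, hq.anti, map_neg] at h2'
    rw [hq.hfR, ← h2', add_right_inj, smul_smul] at h1
    have h3 := eq_smul_of_smul (Split.apply_ne_zero b (Split.apply_ne_zero f hx₀)) h1
    exact mul_ne_zero h2 ha'0 (by linear_combination h3)
  have hfu : ∀ μ : K, f u ≠ μ • u := by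
    intro μ h
    refine hq.hR ⟨μ, ?_⟩
    have h1 := hq.hfR u
    rw [h, map_smul, h, smul_smul] at h1
    exact (eq_smul_of_smul hu h1).symm
  have indep : ∀ {c d c' d' : K}, c • u + d • f u = c' • u + d' • f u → c = c' ∧ d = d' := by
    intro c d c' d' h
    have h1 : (c - c') • u = (d' - d) • f u := by
      rw [sub_smul, sub_smul, sub_eq_sub_iff_add_eq_add, h, add_comm]
    by_cases hd : d' - d = 0
    · rw [hd, zero_smul] at h1
      exact ⟨sub_eq_zero.1 ((smul_eq_zero.1 h1).resolve_right hu), (sub_eq_zero.1 hd).symm⟩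
    · exact absurd (by rw [mul_smul, h1, smul_smul, inv_mul_cancel₀ hd, one_smul])
        (hfu ((d' - d)⁻¹ * (c - c')))
  have hbu : b u = a'⁻¹ • u + (-(a'⁻¹ * a)) • f u := by
    have h1 : a • f u + a' • b u = u := htu
    nth_rewrite 2 [← h1]
    rw [smul_add, smul_smul, smul_smul, inv_mul_cancel₀ ha'0, one_smul, neg_smul]
    abel
  have hfbu : f (b u) = (-(a'⁻¹ * a * R)) • u + a'⁻¹ • f u := by
    rw [hbu, map_add, map_smul, map_smul, hq.hfR, smul_smul, add_comm]
    congr 2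
    ring
  have hfb2 : ∀ x, f (b (f (b x))) = (-(R * S)) • x := fun x => by
    have h1 : b (f (b x)) = (-1 : K) • f (b (b x)) := by
      rw [hq.anti (b x), smul_smul, neg_one_mul, neg_neg, one_smul]
    rw [h1, map_smul, hq.hfR, hq.hbS, smul_smul, smul_smul]
    congr 1
    ring
  have hne : ∀ y, y ≠ 0 → NE E y := by
    intro y hy g hg μ hμ
    obtain ⟨c, hc⟩ := hq.gen g hg
    rcases hc with hc | hc | hc | hc
    · exact ⟨c, hc⟩
    · exfalso
      have hc0 : c ≠ 0 := fun h => Split.apply_ne_zero g hy (by rw [hc, h, zero_smul])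
      refine hq.hR ⟨c⁻¹ * μ, ?_⟩
      have h1 : f y = (c⁻¹ * μ) • y := by
        rw [mul_smul, ← hμ, hc, smul_smul, inv_mul_cancel₀ hc0, one_smul]
      have h2' := hq.hfR y
      rw [h1, map_smul, h1, smul_smul] at h2'
      exact (eq_smul_of_smul hy h2').symm
    · exfalso
      have hc0 : c ≠ 0 := fun h => Split.apply_ne_zero g hy (by rw [hc, h, zero_smul])
      refine hq.hS ⟨c⁻¹ * μ, ?_⟩
      have h1 : b y = (c⁻¹ * μ) • y := by
        rw [mul_smul, ← hμ, hc, smul_smul, inv_mul_cancel₀ hc0, one_smul]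
      have h2' := hq.hbS y
      rw [h1, map_smul, h1, smul_smul] at h2'
      exact (eq_smul_of_smul hy h2').symm
    · exfalso
      have hc0 : c ≠ 0 := fun h => Split.apply_ne_zero g hy (by rw [hc, h, zero_smul])
      have hsq : IsSquare (-(R * S)) := by
        refine ⟨c⁻¹ * μ, ?_⟩
        have h1 : f (b y) = (c⁻¹ * μ) • y := by
          rw [mul_smul, ← hμ, hc, smul_smul, inv_mul_cancel₀ hc0, one_smul]
        have h2' := hfb2 y
        rw [h1, map_smul, map_smul, h1, smul_smul] at h2'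
        exact (eq_smul_of_smul hy h2').symm
      refine hq.hneg ?_
      have hRS : IsSquare (R * S) := by
        obtain ⟨i, rfl⟩ := hγ R hR0
        obtain ⟨j, rfl⟩ := hγ S hS0
        rcases Nat.even_or_odd i with ⟨k, rfl⟩ | hi
        · exact absurd ⟨γ ^ k, pow_add γ k k⟩ hq.hR
        rcases Nat.even_or_odd j with ⟨k, rfl⟩ | hj
        · exact absurd ⟨γ ^ k, pow_add γ k k⟩ hq.hS
        obtain ⟨k, hk⟩ := hi.add_odd hj
        exact ⟨γ ^ k, by rw [← pow_add, hk, pow_add]⟩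
      have := hsq.div hRS
      rwa [neg_div, div_self (mul_ne_zero hR0 hS0)] at this
  -- the coefficient
  have hγ0 : γ ≠ 0 := by
    intro h
    obtain ⟨n, hn⟩ := hγ R hR0
    rcases Nat.eq_zero_or_pos n with rfl | hn'
    · exact hq.hR ⟨1, by rw [hn, pow_zero, mul_one]⟩
    · exact hR0 (by rw [hn, h, zero_pow hn'.ne'])
  have hgsq : ¬IsSquare γ := by
    rintro ⟨r, hr⟩
    obtain ⟨i, hi⟩ := hγ R hR0
    exact hq.hR ⟨r ^ i, by rw [hi, hr, mul_pow]⟩
  have mk : ∀ η : K, η ≠ 0 → ¬IsSquare η → ∃ r : K, r ≠ 0 ∧ r * r * R = η := by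
    intro η hη hns
    obtain ⟨i, rfl⟩ := hγ η hη
    obtain ⟨j, hj⟩ := hγ R⁻¹ (inv_ne_zero hR0)
    have hjo : Odd j := by
      rcases Nat.even_or_odd j with ⟨k, rfl⟩ | h
      · exact absurd ⟨(γ ^ k)⁻¹, by rw [← mul_inv, ← pow_add, ← hj, inv_inv]⟩ hq.hR
      · exact h
    have hio : Odd i := by
      rcases Nat.even_or_odd i with ⟨k, rfl⟩ | h
      · exact absurd ⟨γ ^ k, pow_add γ k k⟩ hns
      · exact h
    obtain ⟨k, hk⟩ := hio.add_odd hjo
    refine ⟨γ ^ k, pow_ne_zero k hγ0, ?_⟩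
    rw [← pow_add, ← hk, pow_add, ← hj, mul_assoc, inv_mul_cancel₀ hR0, mul_one]
  obtain ⟨r1, hr10, hr1⟩ := mk γ hγ0 hgsq
  obtain ⟨r2, hr20, hr2⟩ := mk γ⁻¹ (inv_ne_zero hγ0) fun ⟨r, hr⟩ => hgsq ⟨r⁻¹, by
    rw [← mul_inv, ← hr, inv_inv]⟩
  have hne12 : ∀ ε : K, ε * ε = 1 → r2 ≠ ε * r1 := fun ε hε h => hγ2 (by
    have : γ⁻¹ = γ := by rw [← hr2, h, ← hr1]; linear_combination (r1 * r1 * R) * hε
    nth_rewrite 2 [← this]
    exact mul_inv_cancel₀ hγ0)
  have hneg1 : -r1 ≠ r1 := fun h => mul_ne_zero h2 hr10 (by linear_combination -h)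
  obtain ⟨r, hr0, hrg, hra, hrb⟩ :
      ∃ r : K, r ≠ 0 ∧ Gen (r * r * R) ∧ r ≠ -a ∧ r ≠ -(a * R)⁻¹ := by
    have g1 : Gen (r1 * r1 * R) := hr1 ▸ gen_of_powers hγ
    have g1' : Gen (-r1 * -r1 * R) := by rw [neg_mul_neg]; exact g1
    have g2 : Gen (r2 * r2 * R) := hr2 ▸ gen_of_powers fun k hk => by
      obtain ⟨n, hn⟩ := hγ k⁻¹ (inv_ne_zero hk)
      exact ⟨n, by rw [inv_pow, ← hn, inv_inv]⟩
    by_cases k1 : r1 = -a ∨ r1 = -(a * R)⁻¹
    · by_cases k2 : -r1 = -a ∨ -r1 = -(a * R)⁻¹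
      · refine ⟨r2, hr20, g2, fun h => ?_, fun h => ?_⟩
        · rcases k1 with k1 | k1
          · exact hne12 1 (one_mul 1) (by rw [one_mul, h, k1])
          · rcases k2 with k2 | k2
            · exact hne12 (-1) (by ring) (by rw [neg_one_mul, h, k2])
            · exact hneg1 (k2.trans k1.symm)
        · rcases k1 with k1 | k1
          · rcases k2 with k2 | k2
            · exact hneg1 (k2.trans k1.symm)
            · exact hne12 (-1) (by ring) (by rw [neg_one_mul, h, k2])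
          · exact hne12 1 (one_mul 1) (by rw [one_mul, h, k1])
      · push Not at k2
        exact ⟨-r1, neg_ne_zero.2 hr10, g1', k2.1, k2.2⟩
    · push Not at k1
      exact ⟨r1, hr10, g1, k1.1, k1.2⟩
  have hy : u + r • f u ≠ 0 := fun h => one_ne_zero (indep (c := 1) (d := r) (c' := 0) (d' := 0)
    (by rw [one_smul, zero_smul, zero_smul, add_zero]; exact h)).1
  refine ⟨u, u + r • f u, hu, hy, hne u hu, fun g hg h => ?_, ?_⟩
  · have hr : u + r • f u = (1 : K) • u + r • f u := by rw [one_smul]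
    obtain ⟨c, hc⟩ := hq.gen g hg
    rw [hr] at h
    rcases hc with hc | hc | hc | hc
    · exact hr0 (indep (c := c) (d := 0) (c' := 1) (d' := r) (by rw [zero_smul, add_zero, ← hc]; exact h)).2.symm
    · exact zero_ne_one (indep (c := 0) (d := c) (c' := 1) (d' := r) (by rw [zero_smul, zero_add, ← hc]; exact h)).1
    · rw [hc, hbu, smul_add, smul_smul, smul_smul] at h
      obtain ⟨e1, e2⟩ := indep h
      exact hra (by rw [← e2]; linear_combination (-a) * e1)
    · rw [hc, hfbu, smul_add, smul_smul, smul_smul] at h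
      obtain ⟨e1, e2⟩ := indep h
      refine hrb ?_
      have h5 : r * (a * R) = -1 := by rw [← e2]; linear_combination -e1
      refine (eq_div_iff (mul_ne_zero ha0 hR0)).2 h5 |>.trans ?_
      rw [neg_div, one_div]
  · intro g hg hnorm hgu hgy
    choose σ hσ using hg
    have hval : ∀ k, σ k • u = g (k • u) := fun k => by rw [hσ, hgu]
    let σ' : K →+* K :=
      { toFun := σ
        map_one' := eq_smul_of_smul hu (by rw [hval, one_smul, hgu])
        map_mul' := fun p q => eq_smul_of_smul hu (by rw [hval, mul_smul, hσ, mul_smul, hval])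
        map_zero' := eq_smul_of_smul hu (by rw [hval, zero_smul, map_zero])
        map_add' := fun p q => eq_smul_of_smul hu (by
          rw [hval, add_smul, map_add, add_smul, hval, hval]) }
    rw [map_add, hgu, add_right_inj, hσ] at hgy
    obtain ⟨f', hf'E, hf'⟩ := hnorm f hq.hf
    rw [hf', hgu] at hgy
    obtain ⟨κ, hκ⟩ := hq.gen f' hf'E
    have hσr : σ r ≠ 0 := fun h => by
      rw [h, zero_smul] at hgy
      exact smul_ne_zero hr0 (Split.apply_ne_zero f hu) hgy.symm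
    have hf'f : ∀ x, f' x = κ • f x := by
      have hgy' : σ r • f' u = (0 : K) • u + r • f u := by rw [zero_smul, zero_add]; exact hgy
      rcases hκ with h | h | h | h
      · exfalso
        rw [h, smul_smul] at hgy'
        exact hr0 (indep (c := σ r * κ) (d := 0) (by rw [zero_smul, add_zero]; exact hgy')).2.symm
      · exact h
      · exfalso
        rw [h, hbu, smul_smul, smul_add, smul_smul, smul_smul] at hgy'
        have h0 := (indep hgy').1
        have hκ0 : κ ≠ 0 := fun hk => Split.apply_ne_zero f' hu (by rw [h, hk, zero_smul])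
        exact mul_ne_zero (mul_ne_zero hσr hκ0) (inv_ne_zero ha'0) h0
      · exfalso
        rw [h, hfbu, smul_smul, smul_add, smul_smul, smul_smul] at hgy'
        have h0 := (indep hgy').1
        have hκ0 : κ ≠ 0 := fun hk => Split.apply_ne_zero f' hu (by rw [h, hk, zero_smul])
        exact mul_ne_zero (mul_ne_zero hσr hκ0)
          (neg_ne_zero.2 (mul_ne_zero (mul_ne_zero (inv_ne_zero ha'0) ha0) hR0)) h0
    rw [hf'f, smul_smul] at hgy
    have h1 : σ r * κ = r := eq_smul_of_smul (Split.apply_ne_zero f hu) hgy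
    have h2' : σ R = κ * κ * R := by
      refine eq_smul_of_smul hu ?_
      rw [hval, ← hq.hfR, hf', hf', hgu, hf'f, hf'f, map_smul, hq.hfR, smul_smul, smul_smul, mul_assoc]
    have hid : ∀ k, σ k = k := by
      refine fun k => hrg σ' ?_ k
      rw [map_mul, map_mul]
      show σ r * σ r * σ R = r * r * R
      rw [h2']; linear_combination (σ r * κ * R + r * R) * h1
    have hlin : ∀ (k : K) x, g (k • x) = k • g x := fun k x => by rw [hσ, hid]
    have hκ1 : κ = 1 := by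
      rw [hid] at h1
      exact mul_left_cancel₀ hr0 (by rw [mul_one]; exact h1)
    have hgf : ∀ x, g (f x) = f (g x) := fun x => by rw [hf', hf'f, hκ1, one_smul]
    obtain ⟨b', hb'E, hb'⟩ := hnorm b hq.hb
    have hgb : ∀ x, g (b x) = b (g x) := by
      have h3 : g (b u) = b u := by
        rw [hbu, map_add, hlin, hlin, hgf, hgu]
      obtain ⟨d, hd⟩ := hne u hu (b⁻¹ * b') (mul_mem (inv_mem hq.hb) hb'E) 1 (by
        rw [one_smul]
        show b.symm (b' u) = u
        nth_rewrite 1 [← hgu]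
        rw [← hb', h3, LinearEquiv.symm_apply_apply])
      have hd1 : d = 1 := eq_smul_of_smul hu (by
        rw [← hd u, one_smul]
        show b.symm (b' u) = u
        nth_rewrite 1 [← hgu]
        rw [← hb', h3, LinearEquiv.symm_apply_apply])
      intro x
      have h4 : b.symm (b' (g x)) = g x := by
        have := hd (g x)
        rw [hd1, one_smul] at this
        exact this
      rw [hb']
      nth_rewrite 2 [← h4]
      rw [LinearEquiv.apply_symm_apply]
    refine ⟨hlin, fun c hc x => ?_⟩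
    obtain ⟨d, hd⟩ := hq.gen c hc
    rcases hd with hd | hd | hd | hd
    · rw [hd, hd, hlin]
    · rw [hd, hd, hlin, hgf]
    · rw [hd, hd, hlin, hgb]
    · rw [hd, hd, hlin, hgf, hgb]

end

/-- Good pairs in every non-scalar layer over a field with more than five elements. -/
theorem exists_good [Finite K] {γ : K} (hγ : ∀ k : K, k ≠ 0 → ∃ n : ℕ, k = γ ^ n) (hγ3 : γ ^ 3 ≠ 1)
    (hγ4 : γ ^ 4 ≠ 1) (h2 : (2 : K) ≠ 0) :
    ∀ (n : ℕ) {V : Type v} [AddCommGroup V] [Module K V] [Finite V] [Nontrivial V]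
      (E : Subgroup (V ≃ₗ[K] V)), Nat.card V ≤ n → Layer E → (¬∀ a ∈ E, IsSc a) → ∃ x y, Good E x y := by
  intro n
  induction n with
  | zero =>
    intro V _ _ _ _ E h
    have := Nat.card_pos (α := V)
    omega
  | succ n ih =>
    intro V _ _ _ _ E hn hE hns
    rcases exists_split hE hns hγ with ⟨z, e, l, ω, hs, x₁, hx₁, hx0⟩ | ⟨f, b, R, S, hq⟩
    swap
    · exact good_quat hE hq hγ (fun h => hγ4 (by linear_combination (γ * γ + 1) * h)) h2
    haveI : Nontrivial (X0 z) := ⟨⟨⟨x₁, hx₁⟩, 0, fun h => hx0 (congrArg Subtype.val h)⟩⟩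
    have hlt : Nat.card (X0 z) ≤ n := by
      haveI := Fintype.ofFinite V
      haveI := Fintype.ofFinite (X0 z)
      have h1 : Fintype.card (X0 z) < Fintype.card V := by
        refine Fintype.card_lt_of_injective_of_notMem Subtype.val Subtype.val_injective (b := e x₁) ?_
        rintro ⟨⟨y, hy⟩, he⟩
        change y = e x₁ at he
        rw [he, mem_X0, hs.hze, hx₁] at hy
        exact hs.ω_ne_one (eq_smul_of_smul (Split.apply_ne_zero e hx0) (by rw [one_smul]; exact hy))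
      rw [Nat.card_eq_fintype_card] at hn ⊢
      omega
    by_cases hsc : ∀ a ∈ sub0 E z, IsSc a
    · obtain ⟨x, -, hx⟩ := hs.base_pair hE hsc (u₀ := ⟨x₁, hx₁⟩)
        (fun h => hx0 (congrArg Subtype.val h)) hγ hγ3 h2
      exact ⟨x, x₁, hx hγ4⟩
    · obtain ⟨u, v, hG⟩ := ih (sub0 E z) hlt (hs.layer hE hx₁ hx0) hsc
      obtain ⟨x, hx⟩ := hs.good_step hE hG
      exact ⟨x, u, hx⟩

end Cfsg.Agent.Solv.CopPair
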