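import Cfsg.Agent.Lib.Solv.CopPair.FiveModel
import Cfsg.Agent.Lib.Solv.CopPair.Recursion

/-!
The recursion over the field with five elements.
-/

set_option autoImplicit false
set_option linter.unusedSectionVars false
set_option linter.style.haveILetI false
set_option maxHeartbeats 1600000

namespace Cfsg.Agent.Solv.CopPair

universe u v

variable {K : Type u} [Field K] {V : Type v} [AddCommGroup V] [Module K V]

theorem fact_five : Fact (Nat.Prime 5) := ⟨by norm_num⟩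

attribute [local instance] fact_five

set_option maxRecDepth 100000

theorem add_self5 : ∀ i a : Fin 2 × Fin 2, i + a + a = i := by decide +kernel

theorem sg5_right : ∀ b i a : Fin 2 × Fin 2, sg5 b (i + a) = sg5 b i * sg5 b a := by decide +kernel

theorem sg5_left : ∀ b b' i : Fin 2 × Fin 2, sg5 (b + b') i = sg5 b i * sg5 b' i := by decide +kernel

theorem sg5_three : ∀ b a i : Fin 2 × Fin 2, sg5 b a * sg5 b i * sg5 b (i + a) = 1 := by decide +kernel

theorem sg5_zero : ∀ i : Fin 2 × Fin 2, sg5 (0, 0) i = 1 := by decide +kernel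

theorem sg5_ne_zero : ∀ b i : Fin 2 × Fin 2, sg5 b i ≠ 0 := by decide +kernel

theorem sum_sg5 : ∀ j : Fin 2 × Fin 2, ∑ b, sg5 b j * sg5 b j = 4 := by decide +kernel

theorem sum_sg5_ne : ∀ j i : Fin 2 × Fin 2, i ≠ j → ∑ b, sg5 b j * sg5 b i = 0 := by decide +kernel

theorem four_ne : (4 : ZMod 5) ≠ 0 := by decide +kernel

theorem four_u5_ne : ∀ j : Fin 2 × Fin 2, 4 * u5 j ≠ 0 := by decide +kernel

theorem u5_ne : u5 (0, 0) ≠ 0 := by decide +kernel

theorem v5_ne : v5 (0, 1) ≠ 0 := by decide +kernel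

theorem inv5_of : ∀ (a b : Fin 2 × Fin 2) (c : ZMod 5),
    c * sg5 b (0, 0) * (c * sg5 b ((0, 0) + a)) = 1 → inv5 a b c := by decide +kernel

theorem v5_eq : ∀ i, v5 i =
    4 * u5 i + (4 * op5 (0, 0) (1, 0) 1 u5 i + 2 * op5 (0, 0) (0, 1) 1 u5 i) := by decide +kernel

theorem op5_id : ∀ i, op5 (0, 0) (0, 0) 1 u5 i = u5 i := by decide +kernel

theorem op5_both : ∀ i,
    op5 (0, 0) (1, 1) 1 u5 i = op5 (0, 0) (1, 0) 1 (op5 (0, 0) (0, 1) 1 u5) i := by decide +kernel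

theorem delta5 : ∀ j i : Fin 2 × Fin 2, (if i = j then (4 : ZMod 5) * u5 j else 0) =
    (sg5 (0, 0) j * op5 (0, 0) (0, 0) 1 u5 i + sg5 (1, 0) j * op5 (0, 0) (1, 0) 1 u5 i) +
    (sg5 (0, 1) j * op5 (0, 0) (0, 1) 1 u5 i + sg5 (1, 1) j * op5 (0, 0) (1, 1) 1 u5 i) := by
  decide +kernel

theorem neg_one_ne5 : (-1 : ZMod 5) ≠ 1 := by decide +kernel

/-- All squares in the layer are squares of scalars. -/
def Sq (E : Subgroup (V ≃ₗ[K] V)) : Prop := ∀ a ∈ E, ∃ c : K, ∀ x, a (a x) = (c * c) • x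

/-- A layer of rank one. -/
def R1 (E : Subgroup (V ≃ₗ[K] V)) : Prop :=
  ∃ (z e : V ≃ₗ[K] V) (ω : K), Split E z e 2 ω ∧ (∀ a ∈ sub0 E z, IsSc a) ∧ ∃ x, z x = x ∧ x ≠ 0

theorem Sq.sub0 {E : Subgroup (V ≃ₗ[K] V)} (h : Sq E) (z : V ≃ₗ[K] V) : Sq (sub0 E z) := by
  rintro a ⟨⟨b, hb⟩, rfl⟩
  obtain ⟨c, hc⟩ := h b hb.1
  exact ⟨c, fun x => Subtype.ext (by rw [restr_apply, restr_apply]; exact hc x)⟩

section

variable [Nontrivial V] {E : Subgroup (V ≃ₗ[K] V)}

theorem split_sq (hE : Layer E) (hsq : Sq E) {a : V ≃ₗ[K] V} (ha : a ∈ E) (hns : ¬IsSc a) :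
    ∃ (z e : V ≃ₗ[K] V) (ω : K), Split E z e 2 ω ∧ ∃ x, z x = x ∧ x ≠ 0 := by
  obtain ⟨c, hc⟩ := hsq a ha
  exact split_of_root hE ha hns Nat.prime_two (ρ := c) fun x => by rw [pow_two, pow_two]; exact hc x

/-- An element of the layer scaled to an involution. -/
theorem normalise (hE : Layer E) (hsq : Sq E) {a : V ≃ₗ[K] V} (ha : a ∈ E) :
    ∃ a' ∈ E, ∃ c : K, c ≠ 0 ∧ (∀ x, a' x = c • a x) ∧ ∀ x, a' (a' x) = x := by
  obtain ⟨x₀, hx₀⟩ := exists_ne (0 : V)
  obtain ⟨c, hc⟩ := hsq a ha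
  have hc0 : c ≠ 0 := fun h => Split.apply_ne_zero a (Split.apply_ne_zero a hx₀)
    (by rw [hc, h, mul_zero, zero_smul])
  obtain ⟨s, hsE, hs⟩ := hE.scalar c⁻¹ (inv_ne_zero hc0)
  refine ⟨s * a, mul_mem hsE ha, c⁻¹, inv_ne_zero hc0, fun x => hs _, fun x => ?_⟩
  show s (a (s (a x))) = x
  rw [hs, hs, map_smul, hc, smul_smul, smul_smul,
    show c⁻¹ * c⁻¹ * (c * c) = 1 by field_simp, one_smul]

theorem sign_pair (hE : Layer E) {a b : V ≃ₗ[K] V} (ha : a ∈ E) (hb : b ∈ E) (hb2 : ∀ x, b (b x) = x) :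
    ∃ ε : K, (ε = 1 ∨ ε = -1) ∧ ∀ x, a (b x) = ε • b (a x) := by
  obtain ⟨x₀, hx₀⟩ := exists_ne (0 : V)
  obtain ⟨c, hc⟩ := hE.comm a ha b hb
  refine ⟨c, mul_self_eq_one_iff.1 ?_, hc⟩
  have h1 := hc (b x₀)
  rw [hb2, hc, map_smul, hb2, smul_smul] at h1
  exact eq_smul_of_smul (Split.apply_ne_zero a hx₀) (by rw [one_smul]; exact h1.symm)

/-- The rank two base. -/
theorem good_five [Finite V] [CharP K 5] (hK : ∀ k : K, ∃ a : ZMod 5, k = ZMod.castHom dvd_rfl K a)
    (hE : Layer E) (hsq : Sq E) {z e : V ≃ₗ[K] V} {ω : K} (hs : Split E z e 2 ω)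
    (hR : R1 (sub0 E z)) : ∃ x y, Good E x y := by
  classical
  obtain ⟨ι, hι⟩ : ∃ ι : ZMod 5 →+* K, ι = ZMod.castHom dvd_rfl K := ⟨_, rfl⟩
  rw [← hι] at hK
  have hιinj : Function.Injective ι := ι.injective
  have hneg : (-1 : K) ≠ 1 := fun h => by
    have : ι (-1) = ι 1 := by rw [map_neg, map_one]; exact h
    exact neg_one_ne5 (hιinj this)
  have root2 : ∀ {c : K}, IsPrimitiveRoot c 2 → c = -1 := fun {c} h => by
    have h1 := h.pow_eq_one
    rw [pow_two] at h1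
    exact (mul_self_eq_one_iff.1 h1).resolve_left (h.ne_one (by norm_num))
  obtain ⟨w', f', ω', hs', hsc, ⟨x₀, hx₀z⟩, hx₀, hx0'⟩ := hR
  have hx₀0 : x₀ ≠ 0 := fun h => hx0' (Subtype.ext h)
  have hx₀w : ((w' ⟨x₀, hx₀z⟩ : X0 z) : V) = x₀ := congrArg Subtype.val hx₀
  obtain ⟨w, hw, hww'⟩ := sub0_cases hs'.hz
  obtain ⟨f1, hf1, hff'⟩ := sub0_cases hs'.he
  have hwx : w x₀ = x₀ := (hww' ⟨x₀, hx₀z⟩).symm.trans hx₀w
  obtain ⟨cw, hcw⟩ := hsq w hw.1
  have hw2 : ∀ x, w (w x) = x := fun x => by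
    rw [hcw, eq_smul_of_smul hx₀0 (show (cw * cw) • x₀ = (1 : K) • x₀ by rw [← hcw, hwx, hwx, one_smul]),
      one_smul]
  have hz2 : ∀ x, z (z x) = x := fun x => by
    have := hs.hzl x; rwa [pow_two] at this
  have hω : ω = -1 := root2 hs.root
  have hω' : ω' = -1 := root2 hs'.root
  obtain ⟨f, hfE, cf, hcf0, hff, hf2⟩ := normalise hE hsq hf1.1
  have hfz : ∀ x, z (f x) = f (z x) := fun x => by rw [hff, hff, map_smul, hf1.2]
  have hwf : ∀ x, w (f x) = (-1 : K) • f (w x) := by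
    obtain ⟨ε, -, hεc⟩ := sign_pair hE hw.1 hfE hf2
    have h1 : w (f x₀) = (-1 : K) • f (w x₀) := by
      have h2 := congrArg Subtype.val (hs'.hze ⟨x₀, hx₀z⟩)
      rw [hww', hff', Submodule.coe_smul, hff', hx₀w, hω'] at h2
      rw [hwx, hff, map_smul]
      change cf • w (f1 x₀) = _
      rw [show w (f1 x₀) = (-1 : K) • f1 x₀ from h2, smul_comm]
    have hε : ε = -1 := eq_smul_of_smul (Split.apply_ne_zero f (Split.apply_ne_zero w hx₀0))
      ((hεc x₀).symm.trans h1)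
    intro x
    rw [hεc, hε]
  -- the other mover, commuting with both
  obtain ⟨e3, he3E, he3z, he3w, he3f⟩ : ∃ e3 ∈ E, (∀ x, z (e3 x) = (-1 : K) • e3 (z x)) ∧
      (∀ x, w (e3 x) = e3 (w x)) ∧ ∀ x, f (e3 x) = e3 (f x) := by
    have hze : ∀ x, z (e x) = (-1 : K) • e (z x) := fun x => by rw [hs.hze, hω]
    obtain ⟨e1, he1E, he1z, he1w⟩ : ∃ e1 ∈ E, (∀ x, z (e1 x) = (-1 : K) • e1 (z x)) ∧
        ∀ x, w (e1 x) = e1 (w x) := by
      obtain ⟨c, hc⟩ := hE.comm w hw.1 e hs.he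
      obtain ⟨ε, hε, hεc⟩ := sign_pair hE hs.he hw.1 hw2
      rcases hε with rfl | rfl
      · exact ⟨e, hs.he, hze, fun x => by rw [hεc, one_smul]⟩
      · refine ⟨e * f, mul_mem hs.he hfE, fun x => ?_, fun x => ?_⟩
        · show z (e (f x)) = (-1 : K) • e (f (z x))
          rw [hze, hfz]
        · show w (e (f x)) = e (f (w x))
          have h1 : w (e (f x)) = (-1 : K) • e (w (f x)) := by
            rw [hεc, smul_smul, neg_one_mul, neg_neg, one_smul]
          rw [h1, hwf, map_smul, smul_smul, neg_one_mul, neg_neg, one_smul]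
    obtain ⟨ε, hε, hεc⟩ := sign_pair hE he1E hfE hf2
    rcases hε with rfl | rfl
    · exact ⟨e1, he1E, he1z, he1w, fun x => by rw [hεc, one_smul]⟩
    · refine ⟨e1 * w, mul_mem he1E hw.1, fun x => ?_, fun x => ?_, fun x => ?_⟩
      · show z (e1 (w x)) = (-1 : K) • e1 (w (z x))
        rw [he1z, hw.2]
      · show w (e1 (w x)) = e1 (w (w x))
        rw [he1w]
      · show f (e1 (w x)) = e1 (w (f x))
        rw [hwf, map_smul, hεc, smul_smul, neg_one_mul, neg_neg, one_smul]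
  obtain ⟨e', he'E, ce, hce0, hee, he2⟩ := normalise hE hsq he3E
  have hez : ∀ x, z (e' x) = (-1 : K) • e' (z x) := fun x => by
    rw [hee, hee, map_smul, he3z, smul_comm]
  have hew : ∀ x, w (e' x) = e' (w x) := fun x => by rw [hee, hee, map_smul, he3w]
  have hef : ∀ x, f (e' x) = e' (f x) := fun x => by rw [hee, hee, map_smul, he3f]
  have hzf : ∀ x, z (f x) = f (z x) := hfz
  have hwz : ∀ x, w (z x) = z (w x) := fun x => (hw.2 x).symm
  -- the basis
  let pw : (V ≃ₗ[K] V) → Fin 2 → V → V := fun g t x => if t = 0 then x else g x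
  let B : Fin 2 × Fin 2 → V := fun i => pw e' i.1 (pw f i.2 x₀)
  let Code : (V ≃ₗ[K] V) → Fin 2 × Fin 2 → Fin 2 × Fin 2 → ZMod 5 → Prop := fun g a b c =>
    ∀ i, g (B i) = ι (c * sg5 b i) • B (i + a)
  have hzx : z x₀ = x₀ := hx₀z
  have code_z : Code z (0, 0) (1, 0) 1 := fun i => by
    obtain ⟨i1, i2⟩ := i
    fin_cases i1 <;> fin_cases i2 <;>
      simp [B, pw, sg5, hzx, hez, hzf, map_neg]
  have code_w : Code w (0, 0) (0, 1) 1 := fun i => by
    obtain ⟨i1, i2⟩ := i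
    fin_cases i1 <;> fin_cases i2 <;>
      simp [B, pw, sg5, hwx, hew, hwf, map_neg]
  have code_e : Code e' (1, 0) (0, 0) 1 := fun i => by
    obtain ⟨i1, i2⟩ := i
    fin_cases i1 <;> fin_cases i2 <;>
      simp [B, pw, sg5, he2]
  have code_f : Code f (0, 1) (0, 0) 1 := fun i => by
    obtain ⟨i1, i2⟩ := i
    fin_cases i1 <;> fin_cases i2 <;>
      simp [B, pw, sg5, hf2, hef]
  have code_mul : ∀ {g g' : V ≃ₗ[K] V} {a a' b b' c c'}, Code g a b c → Code g' a' b' c' →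
      Code (g * g') (a' + a) (b + b') (c * c' * sg5 b a') := by
    intro g g' a a' b b' c c' h h' i
    show g (g' (B i)) = _
    rw [h', map_smul, h, smul_smul, ← map_mul, ← add_assoc]
    congr 2
    have h1 : sg5 b (i + a') = sg5 b i * sg5 b a' := sg5_right _ _ _
    have h2 : sg5 (b + b') i = sg5 b i * sg5 b' i := sg5_left _ _ _
    rw [h1, h2]
    ring
  have code_one : Code 1 (0, 0) (0, 0) 1 := fun i => by
    obtain ⟨i1, i2⟩ := i
    fin_cases i1 <;> fin_cases i2 <;> simp [B, pw, sg5]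
  have code_exists : ∀ g ∈ E, ∃ a b c, Code g a b c := by
    intro g hg
    obtain ⟨εz, hεz, hgz⟩ := sign_pair hE hg hs.hz hz2
    obtain ⟨εw, hεw, hgw⟩ := sign_pair hE hg hw.1 hw2
    -- clear the shifts
    obtain ⟨g1, hg1E, a1, b1, c1, hc1, hgz1, hgw1⟩ : ∃ g1 ∈ E, ∃ a1 b1 c1, Code g1 a1 b1 c1 ∧
        (∀ x, z (g (g1 x)) = g (g1 (z x))) ∧ ∀ x, w (g (g1 x)) = g (g1 (w x)) := by
      have sym : ∀ {y : V ≃ₗ[K] V} {ε : K}, (ε = 1 ∨ ε = -1) → (∀ x, g (y x) = ε • y (g x)) →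
          ∀ x, y (g x) = ε • g (y x) := by
        intro y ε hε h x
        rw [h, smul_smul]
        rcases hε with rfl | rfl <;> simp
      rcases hεz with rfl | rfl <;> rcases hεw with rfl | rfl
      · exact ⟨1, one_mem E, _, _, _, code_one, fun x => by simpa using sym (Or.inl rfl) hgz x,
          fun x => by simpa using sym (Or.inl rfl) hgw x⟩
      · exact ⟨f, hfE, _, _, _, code_f, fun x => by rw [sym (Or.inl rfl) hgz, one_smul, hzf],
          fun x => by rw [sym (Or.inr rfl) hgw, hwf, map_smul, smul_smul, neg_one_mul, neg_neg, one_smul]⟩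
      · exact ⟨e', he'E, _, _, _, code_e,
          fun x => by rw [sym (Or.inr rfl) hgz, hez, map_smul, smul_smul, neg_one_mul, neg_neg, one_smul],
          fun x => by rw [sym (Or.inl rfl) hgw, one_smul, hew]⟩
      · refine ⟨e' * f, mul_mem he'E hfE, _, _, _, code_mul code_e code_f, fun x => ?_, fun x => ?_⟩
        · show z (g (e' (f x))) = g (e' (f (z x)))
          rw [sym (Or.inr rfl) hgz, hez, map_smul, smul_smul, neg_one_mul, neg_neg, one_smul, hzf]
        · show w (g (e' (f x))) = g (e' (f (w x)))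
          rw [sym (Or.inr rfl) hgw, hew, hwf, map_smul, map_smul, smul_smul, neg_one_mul, neg_neg, one_smul]
    -- clear the signs
    obtain ⟨εe, hεe, hge⟩ := sign_pair hE (mul_mem hg hg1E) he'E he2
    obtain ⟨εf, hεf, hgf⟩ := sign_pair hE (mul_mem hg hg1E) hfE hf2
    obtain ⟨g2, hg2E, a2, b2, c2, hc2, hge2, hgf2, hgz2, hgw2⟩ : ∃ g2 ∈ E, ∃ a2 b2 c2, Code g2 a2 b2 c2 ∧
        (∀ x, (g * g1) (g2 (e' x)) = e' ((g * g1) (g2 x))) ∧
        (∀ x, (g * g1) (g2 (f x)) = f ((g * g1) (g2 x))) ∧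
        (∀ x, z (g2 x) = g2 (z x)) ∧ ∀ x, w (g2 x) = g2 (w x) := by
      rcases hεe with rfl | rfl <;> rcases hεf with rfl | rfl
      · exact ⟨1, one_mem E, _, _, _, code_one, fun x => by simpa using hge x, fun x => by simpa using hgf x,
          fun x => rfl, fun x => rfl⟩
      · refine ⟨w, hw.1, _, _, _, code_w, fun x => ?_, fun x => ?_, fun x => (hwz x).symm, fun x => rfl⟩
        · rw [hew, hge, one_smul]
        · rw [hwf, map_smul, hgf, smul_smul, neg_one_mul, neg_neg, one_smul]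
      · refine ⟨z, hs.hz, _, _, _, code_z, fun x => ?_, fun x => ?_, fun x => rfl, hwz⟩
        · rw [hez, map_smul, hge, smul_smul, neg_one_mul, neg_neg, one_smul]
        · rw [hzf, hgf, one_smul]
      · refine ⟨z * w, mul_mem hs.hz hw.1, _, _, _, code_mul code_z code_w, fun x => ?_, fun x => ?_,
          fun x => ?_, fun x => ?_⟩
        · show (g * g1) (z (w (e' x))) = e' ((g * g1) (z (w x)))
          rw [hew, hez, map_smul, hge, smul_smul, neg_one_mul, neg_neg, one_smul]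
        · show (g * g1) (z (w (f x))) = f ((g * g1) (z (w x)))
          rw [hwf, map_smul, hzf, map_smul, hgf, smul_smul, neg_one_mul, neg_neg, one_smul]
        · show z (z (w x)) = z (w (z x))
          rw [hwz]
        · show w (z (w x)) = z (w (w x))
          rw [hwz]
    obtain ⟨h, hh⟩ : ∃ h, h = g * g1 * g2 := ⟨_, rfl⟩
    have hhE : h ∈ E := hh ▸ mul_mem (mul_mem hg hg1E) hg2E
    have hhz : ∀ x, z (h x) = h (z x) := fun x => by
      rw [hh]
      show z (g (g1 (g2 x))) = g (g1 (g2 (z x)))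
      rw [hgz1, hgz2]
    have hhw : ∀ x, w (h x) = h (w x) := fun x => by
      rw [hh]
      show w (g (g1 (g2 x))) = g (g1 (g2 (w x)))
      rw [hgw1, hgw2]
    have hhc : h ∈ cz E z := ⟨hhE, hhz⟩
    obtain ⟨d, hd⟩ := hsc _ (mem_sub0 (E := sub0 E z) (z := w') (a := restr E z ⟨h, hhc⟩)
      ⟨mem_sub0 hhc, fun x => Subtype.ext (by
        rw [hww', restr_apply, restr_apply, hww']; exact hhw x)⟩)
    have hd' : h x₀ = d • x₀ := congrArg Subtype.val (congrArg Subtype.val (hd ⟨⟨x₀, hx₀z⟩, hx₀⟩))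
    obtain ⟨c, rfl⟩ := hK d
    have code_h : Code h (0, 0) (0, 0) c := fun i => by
      have he'h : ∀ x, h (e' x) = e' (h x) := fun x => by rw [hh]; exact hge2 x
      have hfh : ∀ x, h (f x) = f (h x) := fun x => by rw [hh]; exact hgf2 x
      obtain ⟨i1, i2⟩ := i
      fin_cases i1 <;> fin_cases i2 <;> simp [B, pw, sg5, hd', he'h, hfh]
    -- undo
    have hinv : ∀ {y : V ≃ₗ[K] V} {a b : Fin 2 × Fin 2} {c : ZMod 5}, Code y a b c → c ≠ 0 →
        Code y⁻¹ a b (c⁻¹ * sg5 b a) := by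
      intro y a b c hy hc0 i
      refine y.injective ?_
      show y (y.symm (B i)) = y _
      rw [LinearEquiv.apply_symm_apply, map_smul, hy, smul_smul, ← map_mul]
      have h1 : i + a + a = i := add_self5 _ _
      have h2 : sg5 b a * sg5 b i * sg5 b (i + a) = 1 := sg5_three _ _ _
      have h3 : c⁻¹ * sg5 b a * sg5 b i * (c * sg5 b (i + a)) = 1 := by
        linear_combination (c⁻¹ * c) * h2 + inv_mul_cancel₀ hc0
      rw [h1, h3, map_one, one_smul]
    have hnz : ∀ {y : V ≃ₗ[K] V} {a b : Fin 2 × Fin 2} {c : ZMod 5}, Code y a b c → c ≠ 0 := by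
      intro y a b c hy hc0
      have h1 := hy (0, 0)
      rw [hc0, zero_mul, map_zero, zero_smul] at h1
      exact Split.apply_ne_zero y (show B (0, 0) ≠ 0 from hx₀0) h1
    refine ⟨_, _, _, (show g = h * g2⁻¹ * g1⁻¹ by rw [hh, mul_inv_cancel_right, mul_inv_cancel_right]) ▸
      code_mul (code_mul code_h (hinv hc2 (hnz hc2))) (hinv hc1 (hnz hc1))⟩
  -- coordinates
  let φ : (Fin 2 × Fin 2 → ZMod 5) → V := fun x => ∑ i, ι (x i) • B i
  have hφop : ∀ {g : V ≃ₗ[K] V} {a b c}, Code g a b c → ∀ x, g (φ x) = φ (op5 a b c x) := by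
    intro g a b c hg x
    show g (∑ i, ι (x i) • B i) = ∑ i, ι (op5 a b c x i) • B i
    rw [map_sum]
    refine Fintype.sum_equiv (Equiv.addRight a) _ _ fun i => ?_
    rw [map_smul, hg, smul_smul, ← map_mul]
    show _ = ι (c * sg5 b (i + a + a) * x (i + a + a)) • B (i + a)
    have h1 : i + a + a = i := add_self5 _ _
    rw [h1, mul_comm]
  have hBne : ∀ i, B i ≠ 0 := fun i => by
    obtain ⟨i1, i2⟩ := i
    fin_cases i1 <;> fin_cases i2 <;>
      simp [B, pw, hx₀0]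
  have hφinj : ∀ x y, φ x = φ y → ∀ i, x i = y i := by
    intro x y h j
    have h0 : ∑ i, ι (x i - y i) • B i = 0 := by
      simp only [map_sub, sub_smul, Finset.sum_sub_distrib]
      exact sub_eq_zero.2 h
    have hA : ∀ b, ∑ i, ι (sg5 b i * (x i - y i)) • B i = 0 := by
      intro b
      obtain ⟨g, c, hg, hc⟩ : ∃ g c, Code g (0, 0) b c ∧ c ≠ 0 := by
        obtain ⟨b1, b2⟩ := b
        fin_cases b1 <;> fin_cases b2
        · exact ⟨1, 1, code_one, one_ne_zero⟩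
        · exact ⟨w, 1, code_w, one_ne_zero⟩
        · exact ⟨z, 1, code_z, one_ne_zero⟩
        · refine ⟨z * w, _, code_mul code_z code_w, ?_⟩
          rw [one_mul, one_mul]; exact sg5_ne_zero _ _
      have h1 := hφop hg fun i => x i - y i
      have h2 : φ (fun i => x i - y i) = 0 := h0
      rw [h2, map_zero] at h1
      have h3 : φ (op5 (0, 0) b c fun i => x i - y i) =
          ι c • ∑ i, ι (sg5 b i * (x i - y i)) • B i := by
        rw [Finset.smul_sum]
        refine Finset.sum_congr rfl fun i _ => ?_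
        rw [smul_smul, ← map_mul, op5, show ((0, 0) : Fin 2 × Fin 2) = 0 from rfl, add_zero, mul_assoc]
      rw [h3] at h1
      exact (smul_eq_zero.1 h1.symm).resolve_left fun e => hc (hιinj (by rw [e, map_zero]))
    have h4 : ∑ b, ι (sg5 b j) • ∑ i, ι (sg5 b i * (x i - y i)) • B i = 0 :=
      Finset.sum_eq_zero fun b _ => by rw [hA, smul_zero]
    simp only [Finset.smul_sum] at h4
    rw [Finset.sum_comm, Finset.sum_eq_single j] at h4
    · simp only [smul_smul, ← map_mul, ← Finset.sum_smul, ← map_sum, ← mul_assoc, ← Finset.sum_mul] at h4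
      have h5 : ∑ b, sg5 b j * sg5 b j = 4 := sum_sg5 j
      rw [h5] at h4
      have h6 := hιinj (((smul_eq_zero.1 h4).resolve_right (hBne j)).trans (map_zero ι).symm)
      exact sub_eq_zero.1 ((mul_eq_zero.1 h6).resolve_left four_ne)
    · intro i _ hij
      simp only [smul_smul, ← map_mul, ← Finset.sum_smul, ← map_sum, ← mul_assoc, ← Finset.sum_mul]
      have h5 : ∀ i, i ≠ j → ∑ b, sg5 b j * sg5 b i = 0 := sum_sg5_ne j
      rw [h5 i hij, zero_mul, map_zero, zero_smul]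
    · exact fun hn => absurd (Finset.mem_univ j) hn
  have hu0 : φ u5 ≠ 0 := fun h => by
    exact u5_ne (hφinj u5 0 (by rw [h]; simp [φ]) (0, 0))
  have hv0 : φ v5 ≠ 0 := fun h => by
    exact v5_ne (hφinj v5 0 (by rw [h]; simp [φ]) (0, 1))
  have hφsmul : ∀ (t : ZMod 5) x, φ (fun i => t * x i) = ι t • φ x := fun t x => by
    show ∑ i, ι (t * x i) • B i = ι t • ∑ i, ι (x i) • B i
    simp only [Finset.smul_sum, smul_smul, ← map_mul]
  have hφadd : ∀ x y, φ (fun i => x i + y i) = φ x + φ y := fun x y => by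
    show ∑ i, ι (x i + y i) • B i = _
    simp only [map_add, add_smul, Finset.sum_add_distrib]
    rfl
  have hne : NE E (φ u5) := by
    intro g hg μ hμ
    obtain ⟨a, b, c, hc⟩ := code_exists g hg
    obtain ⟨μ', rfl⟩ := hK μ
    rw [hφop hc, ← hφsmul] at hμ
    have hc0 : c ≠ 0 := fun h => by
      have h1 := hc (0, 0)
      rw [h, zero_mul, map_zero, zero_smul] at h1
      exact Split.apply_ne_zero g (show B (0, 0) ≠ 0 from hx₀0) h1
    obtain ⟨rfl, rfl⟩ := check5_ne a b c μ' (hφinj _ _ hμ) hc0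
    -- the element is scalar on the frame, hence everywhere
    obtain ⟨s, hsE, hs1⟩ := hE.scalar (ι c)⁻¹ (inv_ne_zero fun h => hc0 (hιinj (by rw [h, map_zero])))
    have hfix : ∀ i, (s * g) (B i) = B i := fun i => by
      show s (g (B i)) = B i
      rw [hc, map_smul, hs1, smul_smul, show ((0, 0) : Fin 2 × Fin 2) = 0 from rfl, add_zero]
      have h7 : sg5 (0, 0) i = 1 := sg5_zero i
      rw [show ((0, 0) : Fin 2 × Fin 2) = 0 from rfl] at h7
      rw [h7, mul_one, mul_inv_cancel₀ fun h => hc0 (hιinj (by rw [h, map_zero])), one_smul]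
    have hsg : s * g ∈ E := mul_mem hsE hg
    have hcy : ∀ y ∈ E, ∀ x, (s * g) (y x) = y ((s * g) x) := by
      intro y hy x
      obtain ⟨a, b, c, hy'⟩ := code_exists y hy
      obtain ⟨d, hd⟩ := hE.comm (s * g) hsg y hy
      have h1 := hd (B (0, 0))
      rw [hy', map_smul, hfix, hfix, hy', smul_smul] at h1
      have h2 : d = 1 := by
        have h3 : ι (c * sg5 b (0, 0)) ≠ 0 := fun h => by
          have := hy' (0, 0)
          rw [h, zero_smul] at this
          exact Split.apply_ne_zero y (hBne _) this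
        exact (mul_right_cancel₀ h3 (by rw [one_mul]; exact eq_smul_of_smul (hBne _) h1)).symm
      rw [hd, h2, one_smul]
    obtain ⟨d, hd⟩ := hE.center _ hsg hcy
    refine ⟨ι c * d, fun x => ?_⟩
    have h1 : s (g x) = d • x := hd x
    rw [hs1] at h1
    rw [mul_smul, ← h1, smul_smul, mul_inv_cancel₀ fun h => hc0 (hιinj (by rw [h, map_zero])), one_smul]
  refine ⟨φ u5, φ v5, hu0, hv0, hne, fun g hg h => ?_, ?_⟩
  · obtain ⟨a, b, c, hc⟩ := code_exists g hg
    rw [hφop hc] at h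
    exact check5_orb a b c (hφinj _ _ h)
  intro g hg hnorm hgu hgv
  have hlin : ∀ (k : K) x, g (k • x) = k • g x := fun k x => by
    obtain ⟨n, rfl⟩ := hK k
    rw [← ZMod.natCast_zmod_val n, map_natCast, Nat.cast_smul_eq_nsmul, Nat.cast_smul_eq_nsmul, map_nsmul]
  have image : ∀ {y : V ≃ₗ[K] V}, y ∈ E → (∀ x, y (y x) = x) →
      ∃ y' ∈ E, (∀ x, g (y x) = y' (g x)) ∧ ∃ a b c, Code y' a b c ∧ inv5 a b c := by
    intro y hy hy2
    obtain ⟨y', hy'E, hy'⟩ := hnorm y hy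
    obtain ⟨a, b, c, hc⟩ := code_exists y' hy'E
    refine ⟨y', hy'E, hy', a, b, c, hc, ?_⟩
    have h1 : y' (y' (B (0, 0))) = B (0, 0) := by
      obtain ⟨t, ht⟩ := g.surjective (B (0, 0))
      rw [← ht, ← hy', ← hy', hy2]
    rw [hc, map_smul, hc, smul_smul, ← map_mul] at h1
    have h2 : ((0, 0) : Fin 2 × Fin 2) + a + a = (0, 0) := add_self5 _ _
    rw [h2] at h1
    have h3 := eq_smul_of_smul (hBne _) (h1.trans (one_smul K (B (0, 0))).symm)
    rw [← map_one ι] at h3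
    have h4 := hιinj h3
    exact inv5_of a b c h4
  obtain ⟨z', -, hz', az, bz, cz', hcz, hiz⟩ := image hs.hz hz2
  obtain ⟨w1, -, hw', aw, bw, cw', hcw', hiw⟩ := image hw.1 hw2
  have hrel : v5 = fun i => 4 * u5 i + (4 * op5 (0, 0) (1, 0) 1 u5 i + 2 * op5 (0, 0) (0, 1) 1 u5 i) :=
    funext v5_eq
  have heq : ∀ i, 4 * u5 i + 4 * op5 az bz cz' u5 i + 2 * op5 aw bw cw' u5 i = v5 i := by
    refine hφinj _ _ ?_
    rw [show (fun i => 4 * u5 i + 4 * op5 az bz cz' u5 i + 2 * op5 aw bw cw' u5 i) =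
      fun i => 4 * u5 i + (4 * op5 az bz cz' u5 i + 2 * op5 aw bw cw' u5 i) from funext fun i => add_assoc _ _ _]
    rw [hφadd, hφadd, hφsmul, hφsmul, hφsmul, ← hφop hcz, ← hφop hcw']
    conv_rhs => rw [← hgv, hrel, hφadd, hφadd, hφsmul, hφsmul, hφsmul, ← hφop code_z, ← hφop code_w,
      map_add, map_add, hlin, hlin, hlin, hz', hw', hgu]
  obtain ⟨⟨rfl, rfl, rfl⟩, ⟨rfl, rfl, rfl⟩⟩ := check5 az bz cz' hiz aw bw cw' hiw heq
  have gz : g (z (φ u5)) = z (φ u5) := by rw [hz', hgu, hφop hcz, hφop code_z]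
  have gw : g (w (φ u5)) = w (φ u5) := by rw [hw', hgu, hφop hcw', hφop code_w]
  have gzw : g (z (w (φ u5))) = z (w (φ u5)) := by
    rw [hz', gw, hφop code_w, hφop hcz, hφop code_z]
  have gfix : ∀ b, g (φ (op5 (0, 0) b 1 u5)) = φ (op5 (0, 0) b 1 u5) := by
    intro b
    obtain ⟨b1, b2⟩ := b
    fin_cases b1 <;> fin_cases b2
    · have h : op5 (0, 0) (0, 0) 1 u5 = u5 := funext op5_id
      show g (φ (op5 (0, 0) (0, 0) 1 u5)) = φ (op5 (0, 0) (0, 0) 1 u5)
      rw [h]; exact hgu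
    · show g (φ (op5 (0, 0) (0, 1) 1 u5)) = φ (op5 (0, 0) (0, 1) 1 u5)
      rw [← hφop code_w]; exact gw
    · show g (φ (op5 (0, 0) (1, 0) 1 u5)) = φ (op5 (0, 0) (1, 0) 1 u5)
      rw [← hφop code_z]; exact gz
    · have h : op5 (0, 0) (1, 1) 1 u5 = op5 (0, 0) (1, 0) 1 (op5 (0, 0) (0, 1) 1 u5) :=
        funext op5_both
      show g (φ (op5 (0, 0) (1, 1) 1 u5)) = φ (op5 (0, 0) (1, 1) 1 u5)
      rw [h, ← hφop code_z, ← hφop code_w]; exact gzw
  have gB : ∀ j, g (B j) = B j := by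
    intro j
    have h1 : (fun i => if i = j then (4 : ZMod 5) * u5 j else 0) = fun i =>
        (sg5 (0, 0) j * op5 (0, 0) (0, 0) 1 u5 i + sg5 (1, 0) j * op5 (0, 0) (1, 0) 1 u5 i) +
        (sg5 (0, 1) j * op5 (0, 0) (0, 1) 1 u5 i + sg5 (1, 1) j * op5 (0, 0) (1, 1) 1 u5 i) := by
      funext i; exact delta5 j i
    have h2 : g (φ fun i => if i = j then (4 : ZMod 5) * u5 j else 0) =
        φ fun i => if i = j then (4 : ZMod 5) * u5 j else 0 := by
      rw [h1, hφadd, hφadd, hφadd, hφsmul, hφsmul, hφsmul, hφsmul]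
      simp only [map_add, hlin, gfix]
    have h3 : (φ fun i => if i = j then (4 : ZMod 5) * u5 j else 0) = ι (4 * u5 j) • B j := by
      show ∑ i, ι (if i = j then (4 : ZMod 5) * u5 j else 0) • B i = _
      rw [Finset.sum_eq_single j]
      · rw [if_pos rfl]
      · intro i _ hij; rw [if_neg hij, map_zero, zero_smul]
      · exact fun hn => absurd (Finset.mem_univ j) hn
    rw [h3, hlin] at h2
    refine smul_right_injective V ?_ h2
    intro e0
    exact four_u5_ne j (hιinj (by rw [e0, map_zero]))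
  refine ⟨hlin, fun y hy x => ?_⟩
  obtain ⟨y', hy'E, hy'⟩ := hnorm y hy
  have hfixB : ∀ i, y' (B i) = y (B i) := fun i => by
    obtain ⟨a, b, c, hc⟩ := code_exists y hy
    have h1 := hy' (B i)
    rw [gB, hc, hlin, gB] at h1
    rw [hc]
    exact h1.symm
  obtain ⟨d, hd⟩ := hne (y⁻¹ * y') (mul_mem (inv_mem hy) hy'E) 1 (by
    rw [one_smul]
    show y.symm (y' (φ u5)) = φ u5
    have : y' (φ u5) = y (φ u5) := by simp only [φ, map_sum, map_smul, hfixB]
    rw [this, LinearEquiv.symm_apply_apply])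
  have hd1 : d = 1 := eq_smul_of_smul (hBne (0, 0)) (by
    rw [← hd, one_smul]
    show y.symm (y' (B (0, 0))) = B (0, 0)
    rw [hfixB, LinearEquiv.symm_apply_apply])
  have h4 : y.symm (y' (g x)) = g x := by
    have := hd (g x)
    rw [hd1, one_smul] at this
    exact this
  rw [hy']
  nth_rewrite 2 [← h4]
  rw [LinearEquiv.apply_symm_apply]

end

/-- Stabilised pairs in every layer over the field with five elements. -/
theorem exists_five [Finite K] [CharP K 5] (hK : ∀ k : K, ∃ a : ZMod 5, k = ZMod.castHom dvd_rfl K a)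
    {γ : K} (hγ : ∀ k : K, k ≠ 0 → ∃ n : ℕ, k = γ ^ n) (hγ3 : γ ^ 3 ≠ 1) (h2 : (2 : K) ≠ 0) :
    ∀ (n : ℕ) {V : Type v} [AddCommGroup V] [Module K V] [Finite V] [Nontrivial V]
      (E : Subgroup (V ≃ₗ[K] V)), Nat.card V ≤ n → Layer E → Sq E → (¬∀ a ∈ E, IsSc a) →
        ∃ x y, Stab E x y ∧ (Good E x y ∨ R1 E) := by
  intro n
  induction n with
  | zero =>
    intro V _ _ _ _ E h
    have := Nat.card_pos (α := V)
    omega
  | succ n ih =>
    intro V _ _ _ _ E hn hE hsq hns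
    obtain ⟨a, ha, hna⟩ : ∃ a ∈ E, ¬IsSc a := by simpa using hns
    obtain ⟨z, e, ω, hs, x₁, hx₁, hx0⟩ := split_sq hE hsq ha hna
    haveI : Nontrivial (X0 z) := ⟨⟨⟨x₁, hx₁⟩, 0, fun h => hx0 (congrArg Subtype.val h)⟩⟩
    have hlt : Nat.card (X0 z) ≤ n := by
      haveI := Fintype.ofFinite V
      haveI := Fintype.ofFinite (X0 z)
      have h1 : Fintype.card (X0 z) < Fintype.card V := by
        refine Fintype.card_lt_of_injective_of_notMem Subtype.val Subtype.val_injective (b := e x₁) ?_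
        rintro ⟨⟨y, hy⟩, he⟩
        change y = e x₁ at he
        rw [he, mem_X0, hs.hze, hx₁] at hy
        exact hs.ω_ne_one (eq_smul_of_smul (Split.apply_ne_zero e hx0) (by rw [one_smul]; exact hy))
      rw [Nat.card_eq_fintype_card] at hn ⊢
      omega
    by_cases hsc : ∀ a ∈ sub0 E z, IsSc a
    · obtain ⟨x, hx, -⟩ := hs.base_pair hE hsc (u₀ := ⟨x₁, hx₁⟩)
        (fun h => hx0 (congrArg Subtype.val h)) hγ hγ3 h2
      exact ⟨x, x₁, hx, Or.inr ⟨z, e, ω, hs, hsc, x₁, hx₁, hx0⟩⟩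
    · obtain ⟨u, v, -, hG | hR⟩ := ih (sub0 E z) hlt (hs.layer hE hx₁ hx0) (hsq.sub0 z) hsc
      · obtain ⟨x, hx⟩ := hs.good_step hE hG
        exact ⟨x, u, hx.2.2.2.2, Or.inl hx⟩
      · obtain ⟨x, y, hx⟩ := good_five hK hE hsq hs hR
        exact ⟨x, y, hx.2.2.2.2, Or.inl hx⟩

end Cfsg.Agent.Solv.CopPair
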