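import Cfsg.Agent.Lib.Solv.CopPair.Pair

/-!
The layer of rank two over the field with five elements.
-/

set_option autoImplicit false
set_option linter.unusedSectionVars false
set_option linter.style.haveILetI false
set_option maxHeartbeats 800000

namespace Cfsg.Agent.Solv.CopPair

universe u v

/-- Coordinates of the first vector. -/
def u5 (i : Fin 2 × Fin 2) : ZMod 5 := if i = (1, 1) then 2 else 1

/-- Coordinates of the second vector. -/
def v5 (i : Fin 2 × Fin 2) : ZMod 5 :=
  if i = (0, 0) then 0 else if i = (1, 0) then 2 else 1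

/-- The sign of the diagonal part. -/
def sg5 (b i : Fin 2 × Fin 2) : ZMod 5 := (-1) ^ (b.1.val * i.1.val + b.2.val * i.2.val)

/-- A monomial operator in coordinates. -/
def op5 (a b : Fin 2 × Fin 2) (c : ZMod 5) (x : Fin 2 × Fin 2 → ZMod 5) (i : Fin 2 × Fin 2) : ZMod 5 :=
  c * sg5 b (i + a) * x (i + a)

/-- The monomial operator is an involution. -/
def inv5 (a b : Fin 2 × Fin 2) (c : ZMod 5) : Prop :=
  c * c * (-1) ^ (a.1.val * b.1.val + a.2.val * b.2.val) = 1

instance (a b : Fin 2 × Fin 2) (c : ZMod 5) : Decidable (inv5 a b c) := by unfold inv5; infer_instance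

set_option maxRecDepth 100000 in
set_option synthInstance.maxSize 4000 in
set_option synthInstance.maxHeartbeats 400000 in
theorem check5 : ∀ (a b : Fin 2 × Fin 2) (c : ZMod 5), inv5 a b c → ∀ (a' b' : Fin 2 × Fin 2) (c' : ZMod 5),
    inv5 a' b' c' → (∀ i, 4 * u5 i + 4 * op5 a b c u5 i + 2 * op5 a' b' c' u5 i = v5 i) →
      (a = (0, 0) ∧ b = (1, 0) ∧ c = 1) ∧ (a' = (0, 0) ∧ b' = (0, 1) ∧ c' = 1) := by
  decide +kernel

set_option maxRecDepth 100000 in
set_option synthInstance.maxSize 4000 in
set_option synthInstance.maxHeartbeats 400000 in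
theorem check5_ne : ∀ (a b : Fin 2 × Fin 2) (c μ : ZMod 5), (∀ i, op5 a b c u5 i = μ * u5 i) → c ≠ 0 →
    a = (0, 0) ∧ b = (0, 0) := by
  decide +kernel

set_option maxRecDepth 100000 in
set_option synthInstance.maxSize 4000 in
set_option synthInstance.maxHeartbeats 400000 in
theorem check5_orb : ∀ (a b : Fin 2 × Fin 2) (c : ZMod 5), ¬∀ i, op5 a b c u5 i = v5 i := by
  decide +kernel

end Cfsg.Agent.Solv.CopPair
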