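import Mathlib

/-!
Coordinates for layers over the field with three elements.
-/

set_option autoImplicit false
set_option linter.unusedSectionVars false
set_option linter.style.haveILetI false
set_option maxHeartbeats 800000

namespace Cfsg.Agent.Solv.CopPair

/-- A possibly negated element. -/
def sgn {G : Type*} [AddGroup G] (s : Bool) (x : G) : G := if s then -x else x

@[simp] theorem sgn_true {G : Type*} [AddGroup G] (x : G) : sgn true x = -x := rfl
@[simp] theorem sgn_false {G : Type*} [AddGroup G] (x : G) : sgn false x = x := rfl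

theorem sgn_sgn {G : Type*} [AddGroup G] (s t : Bool) (x : G) : sgn s (sgn t x) = sgn (xor s t) x := by
  cases s <;> cases t <;> simp

/-- The coordinates of a layer. -/
structure Model : Type 1 where
  Code : Type
  Vec : Type
  [addC : AddCommGroup Code]
  [finC : Fintype Code]
  [decC : DecidableEq Code]
  [addV : AddCommGroup Vec]
  [decV : DecidableEq Vec]
  op : Code → Vec → Vec
  form : Vec → Vec → ZMod 3
  pt : Vec
  pt_ne : pt ≠ 0
  op_add : ∀ c x y, op c (x + y) = op c x + op c y
  op_zero : ∀ x, op 0 x = x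
  op_comp : ∀ c d, ∃ s : Bool, ∀ x, op c (op d x) = sgn s (op (c + d) x)
  faith : ∀ c, ((∀ x, op c x = x) ∨ ∀ x, op c x = -x) → c = 0
  three : ∀ x : Vec, x + x + x = 0
  code_two : ∀ c : Code, c + c = 0
  form_add_left : ∀ x y z, form (x + y) z = form x z + form y z
  form_add_right : ∀ x y z, form x (y + z) = form x y + form x z
  form_op : ∀ c x y, form (op c x) (op c y) = form x y
  irred : ∀ S : AddSubgroup Vec, (∀ c, ∀ x ∈ S, op c x ∈ S) → ∀ x ∈ S, x ≠ 0 → ∀ y, y ∈ S
  uniq : ∀ B : Vec → Vec → ZMod 3, (∀ x y z, B (x + y) z = B x z + B y z) →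
    (∀ x y z, B x (y + z) = B x y + B x z) → (∀ c x y, B (op c x) (op c y) = B x y) →
    ∃ t : ZMod 3, ∀ x y, B x y = t * form x y

attribute [instance] Model.addC Model.finC Model.decC Model.addV Model.decV

namespace Model

variable (M : Model)

theorem op_map_zero (c : M.Code) : M.op c 0 = 0 :=
  add_left_cancel (a := M.op c 0) (by rw [← M.op_add, add_zero, add_zero])

theorem op_neg (c : M.Code) (x : M.Vec) : M.op c (-x) = -M.op c x :=
  eq_neg_of_add_eq_zero_left (by rw [← M.op_add, neg_add_cancel, M.op_map_zero])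

theorem op_sgn (c : M.Code) (s : Bool) (x : M.Vec) : M.op c (sgn s x) = sgn s (M.op c x) := by
  cases s
  · rfl
  · exact M.op_neg c x

theorem eq_zero_of_neg {x : M.Vec} (h : x = -x) : x = 0 := by
  have h1 := M.three x
  have h2 : x + x = 0 := by nth_rewrite 2 [h]; exact add_neg_cancel x
  rwa [h2, zero_add] at h1

theorem op_inj (c : M.Code) : Function.Injective (M.op c) := by
  intro x y h
  obtain ⟨s, hs⟩ := M.op_comp c c
  have h1 := congrArg (M.op c) h
  rw [hs, hs, M.code_two, M.op_zero, M.op_zero] at h1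
  cases s
  · exact h1
  · exact neg_injective h1

theorem op_ne_zero (c : M.Code) {x : M.Vec} (hx : x ≠ 0) : M.op c x ≠ 0 :=
  fun h => hx (M.op_inj c (h.trans (M.op_map_zero c).symm))

theorem form_neg_left (x y : M.Vec) : M.form (-x) y = -M.form x y := by
  have h0 : M.form 0 y = 0 := add_left_cancel (a := M.form 0 y) (by rw [← M.form_add_left, add_zero, add_zero])
  exact eq_neg_of_add_eq_zero_left (by rw [← M.form_add_left, neg_add_cancel, h0])

theorem form_neg_right (x y : M.Vec) : M.form x (-y) = -M.form x y := by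
  have h0 : M.form x 0 = 0 := add_left_cancel (a := M.form x 0) (by rw [← M.form_add_right, add_zero, add_zero])
  exact eq_neg_of_add_eq_zero_left (by rw [← M.form_add_right, neg_add_cancel, h0])

end Model

theorem zmod2_cases : ∀ a : ZMod 2, a = 0 ∨ a = 1 := by decide

theorem zmod3_two_ne : ∀ a : ZMod 3, a = -a → a = 0 := by decide

/-- The operators of the doubled coordinates. -/
def dblOp (M : Model) (c : (ZMod 2 × ZMod 2) × M.Code) (x : M.Vec × M.Vec) : M.Vec × M.Vec :=
  if c.1.1 = 1 then (sgn (decide (c.1.2 = 1)) (M.op c.2 x.2), M.op c.2 x.1)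
  else (M.op c.2 x.1, sgn (decide (c.1.2 = 1)) (M.op c.2 x.2))

/-- Doubling the coordinates. -/
def dbl (M : Model) : Model where
  Code := (ZMod 2 × ZMod 2) × M.Code
  Vec := M.Vec × M.Vec
  op := dblOp M
  form x y := M.form x.1 y.1 + M.form x.2 y.2
  pt := (M.pt, 0)
  pt_ne h := M.pt_ne (congrArg Prod.fst h)
  op_add c x y := by
    obtain ⟨⟨a, b⟩, r⟩ := c
    rcases zmod2_cases a with rfl | rfl <;> rcases zmod2_cases b with rfl | rfl <;>
      simp [dblOp, M.op_add, add_comm]
  op_zero x := by
    show dblOp M ((0, 0), 0) x = x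
    simp [dblOp, M.op_zero]
  op_comp := by
    rintro ⟨⟨a, b⟩, r⟩ ⟨⟨a', b'⟩, r'⟩
    obtain ⟨s, hs⟩ := M.op_comp r r'
    refine ⟨xor s (decide (b = 1) && decide (a' = 1)), fun x => ?_⟩
    show dblOp M _ (dblOp M _ x) = sgn _ (dblOp M ((a + a', b + b'), r + r') x)
    rcases zmod2_cases a with rfl | rfl <;> rcases zmod2_cases b with rfl | rfl <;>
      rcases zmod2_cases a' with rfl | rfl <;> rcases zmod2_cases b' with rfl | rfl <;>
        cases s <;> simp [dblOp, M.op_sgn, M.op_neg, hs, show (1 : ZMod 2) + 1 = 0 from rfl, Prod.ext_iff]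
  faith := by
    rintro ⟨⟨a, b⟩, r⟩ h
    have key : ∃ s, ∀ x, dblOp M ((a, b), r) x = sgn s x := by
      rcases h with h | h
      · exact ⟨false, h⟩
      · exact ⟨true, h⟩
    obtain ⟨s, hs⟩ := key
    rcases zmod2_cases a with rfl | rfl
    · have h0 : ∀ x, M.op r x = sgn s x := fun x => by
        have := congrArg Prod.fst (hs (x, 0))
        cases s <;> simpa [dblOp] using this
      obtain rfl : r = 0 := M.faith r (by
        cases s
        · exact Or.inl h0
        · exact Or.inr h0)
      rcases zmod2_cases b with rfl | rfl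
      · rfl
      · exfalso
        have h1 := congrArg Prod.snd (hs (0, M.pt))
        have h2 := h0 M.pt
        refine M.pt_ne (M.eq_zero_of_neg ?_)
        cases s <;> simp [dblOp, M.op_zero] at h1 h2
        · exact h1.symm
        · exact h2
    · exfalso
      have h1 := congrArg Prod.snd (hs (M.pt, 0))
      refine M.op_ne_zero r M.pt_ne ?_
      cases s <;> simpa [dblOp] using h1
  three x := Prod.ext (M.three x.1) (M.three x.2)
  code_two c := by
    obtain ⟨⟨a, b⟩, r⟩ := c
    rcases zmod2_cases a with rfl | rfl <;> rcases zmod2_cases b with rfl | rfl <;>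
      simp [Prod.ext_iff, M.code_two, show (1 : ZMod 2) + 1 = 0 from rfl]
  form_add_left x y z := by simp [M.form_add_left]; abel
  form_add_right x y z := by simp [M.form_add_right]; abel
  form_op c x y := by
    obtain ⟨⟨a, b⟩, r⟩ := c
    rcases zmod2_cases a with rfl | rfl <;> rcases zmod2_cases b with rfl | rfl <;>
      simp [dblOp, M.form_op, M.form_neg_left, M.form_neg_right, add_comm]
  irred := by
    intro S hS x hx hx0 y
    let S0 : AddSubgroup M.Vec :=
      { carrier := {t | (t, (0 : M.Vec)) ∈ S}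
        zero_mem' := S.zero_mem
        add_mem' := fun {p q} hp hq => show (p + q, (0 : M.Vec)) ∈ S by
          simpa using S.add_mem hp hq
        neg_mem' := fun {p} hp => show (-p, (0 : M.Vec)) ∈ S by simpa using S.neg_mem hp }
    have hS0 : ∀ r, ∀ t ∈ S0, M.op r t ∈ S0 := fun r t ht => by
      have := hS ((0, 0), r) (t, 0) ht
      simpa [dblOp, M.op_map_zero, S0] using this
    obtain ⟨t, ht, ht0⟩ : ∃ t ∈ S0, t ≠ 0 := by
      have hproj : ∀ z : M.Vec × M.Vec, z ∈ S → (z.1, (0 : M.Vec)) ∈ S := by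
        intro z hz
        have h1 := hS ((0, 1), 0) z hz
        simp only [dblOp, M.op_zero, sgn_true, decide_true, zero_ne_one, if_false] at h1
        have h2 := S.neg_mem (S.add_mem hz h1)
        have h3 : -(z + (z.1, -z.2)) = (z.1, (0 : M.Vec)) := by
          refine Prod.ext ?_ ?_
          · show -(z.1 + z.1) = z.1
            exact neg_eq_of_add_eq_zero_left (by rw [← add_assoc]; exact M.three z.1)
          · show -(z.2 + -z.2) = 0
            simp
        rwa [h3] at h2
      obtain ⟨x1, x2⟩ := x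
      by_cases h1 : x1 = 0
      · refine ⟨x2, ?_, fun h2 => hx0 (by rw [h1, h2]; rfl)⟩
        have := hS ((1, 0), 0) (x1, x2) hx
        simp [dblOp, M.op_zero] at this
        exact hproj _ this
      · exact ⟨x1, hproj _ hx, h1⟩
    have hall := M.irred S0 hS0 t ht ht0
    have hy2 := hS ((1, 0), 0) (y.2, 0) (hall y.2)
    simp [dblOp, M.op_zero] at hy2
    have := S.add_mem (hall y.1) hy2
    simpa using this
  uniq := by
    intro B hl hr hinv
    have hz1 : ∀ p q, B (p, 0) (0, q) = 0 ∧ B (0, q) (p, 0) = 0 := by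
      intro p q
      have e1 : dblOp M ((0, 1), 0) (p, 0) = (p, 0) := by simp [dblOp, M.op_zero]
      have e2 : dblOp M ((0, 1), 0) (0, q) = (0, -q) := by simp [dblOp, M.op_zero]
      have n1 : ∀ (z : M.Vec × M.Vec) w, B z (-w) = -B z w := fun z w => by
        have h0 : B z 0 = 0 := add_left_cancel (a := B z 0) (by rw [← hr, add_zero, add_zero])
        exact eq_neg_of_add_eq_zero_left (by rw [← hr, neg_add_cancel, h0])
      have n2 : ∀ (z : M.Vec × M.Vec) w, B (-w) z = -B w z := fun z w => by
        have h0 : B 0 z = 0 := add_left_cancel (a := B 0 z) (by rw [← hl, add_zero, add_zero])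
        exact eq_neg_of_add_eq_zero_left (by rw [← hl, neg_add_cancel, h0])
      have e3 : ((0 : M.Vec), -q) = -((0 : M.Vec), q) := by simp
      constructor
      · refine zmod3_two_ne _ ?_
        conv_lhs => rw [← hinv ((0, 1), 0), e1, e2, e3, n1]
      · refine zmod3_two_ne _ ?_
        conv_lhs => rw [← hinv ((0, 1), 0), e1, e2, e3, n2]
    obtain ⟨t, ht⟩ := M.uniq (fun p q => B (p, 0) (q, 0))
      (fun p q r => by rw [← hl]; simp) (fun p q r => by rw [← hr]; simp)
      (fun c p q => by
        have := hinv ((0, 0), c) (p, 0) (q, 0)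
        simpa [dblOp, M.op_map_zero] using this)
    refine ⟨t, fun x y => ?_⟩
    obtain ⟨x1, x2⟩ := x
    obtain ⟨y1, y2⟩ := y
    have hswap : B (0, x2) (0, y2) = B (x2, 0) (y2, 0) := by
      have := hinv ((1, 0), 0) (x2, 0) (y2, 0)
      simpa [dblOp, M.op_zero] using this
    rw [show ((x1, x2) : M.Vec × M.Vec) = (x1, 0) + (0, x2) by simp,
      show ((y1, y2) : M.Vec × M.Vec) = (y1, 0) + (0, y2) by simp, hl, hr, hr, (hz1 x1 y2).1,
      (hz1 y1 x2).2, hswap, ht, ht]
    simp [mul_add]

/-- The coordinates of a scalar layer. -/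
def plusM : Model where
  Code := Unit
  Vec := ZMod 3
  op _ x := x
  form x y := x * y
  pt := 1
  pt_ne := by decide
  op_add _ _ _ := rfl
  op_zero _ := rfl
  op_comp _ _ := ⟨false, fun _ => rfl⟩
  faith _ _ := rfl
  three := by decide
  code_two _ := rfl
  form_add_left x y z := add_mul x y z
  form_add_right x y z := mul_add x y z
  form_op _ _ _ := rfl
  irred S _ x hx hx0 y := by
    rcases (show ∀ a b : ZMod 3, a ≠ 0 → b = 0 ∨ b = a ∨ b = -a by decide) x y hx0 with h | h | h
    · rw [h]; exact S.zero_mem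
    · rw [h]; exact hx
    · rw [h]; exact S.neg_mem hx
  uniq B hl hr _ := ⟨B 1 1, fun x y => by
    have h0 : B 0 y = 0 := add_left_cancel (a := B 0 y) (by rw [← hl, add_zero, add_zero])
    have h0' : B 1 0 = 0 := add_left_cancel (a := B 1 0) (by rw [← hr, add_zero, add_zero])
    have hy : B 1 y = B 1 1 * y := by
      rcases (show ∀ a : ZMod 3, a = 0 ∨ a = 1 ∨ a = 1 + 1 by decide) y with rfl | rfl | rfl
      · rw [h0', mul_zero]
      · rw [mul_one]
      · rw [hr, mul_add, mul_one]
    rcases (show ∀ a : ZMod 3, a = 0 ∨ a = 1 ∨ a = 1 + 1 by decide) x with rfl | rfl | rfl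
    · rw [h0, zero_mul, mul_zero]
    · rw [hy, one_mul]
    · rw [hl, hy]; ring⟩

/-- The quaternion operators on two coordinates. -/
def minusOp (c : ZMod 2 × ZMod 2) (x : ZMod 3 × ZMod 3) : ZMod 3 × ZMod 3 :=
  let y := if c.2 = 1 then (x.1 + x.2, x.1 - x.2) else x
  if c.1 = 1 then (y.2, -y.1) else y

theorem minusOp_comp : ∀ c d, ∃ s : Bool, ∀ x, minusOp c (minusOp d x) = sgn s (minusOp (c + d) x) := by
  unfold sgn; decide +kernel

theorem minusOp_faith : ∀ c, ((∀ x, minusOp c x = x) ∨ ∀ x, minusOp c x = -x) → c = 0 := by decide +kernel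

theorem minusOp_add : ∀ c x y, minusOp c (x + y) = minusOp c x + minusOp c y := by decide +kernel

theorem minusOp_form : ∀ c x y, (minusOp c x).1 * (minusOp c y).2 - (minusOp c x).2 * (minusOp c y).1 =
    x.1 * y.2 - x.2 * y.1 := by decide +kernel

theorem minusOp_span : ∀ x y : ZMod 3 × ZMod 3, x ≠ 0 → ∃ a b : ZMod 3,
    y = (a * x.1 + b * (minusOp (1, 0) x).1, a * x.2 + b * (minusOp (1, 0) x).2) := by decide +kernel

theorem minus_forms : ∀ p q r w : ZMod 3,
    (∀ c x y, p * ((minusOp c x).1 * (minusOp c y).1) + q * ((minusOp c x).1 * (minusOp c y).2) +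
      r * ((minusOp c x).2 * (minusOp c y).1) + w * ((minusOp c x).2 * (minusOp c y).2) =
      p * (x.1 * y.1) + q * (x.1 * y.2) + r * (x.2 * y.1) + w * (x.2 * y.2)) →
    p = 0 ∧ w = 0 ∧ r = -q := by decide +kernel

/-- The coordinates of the layer without eigenvectors. -/
def minusM : Model where
  Code := ZMod 2 × ZMod 2
  Vec := ZMod 3 × ZMod 3
  op := minusOp
  form x y := x.1 * y.2 - x.2 * y.1
  pt := (1, 0)
  pt_ne := by decide
  op_add := minusOp_add
  op_zero := by decide +kernel
  op_comp := minusOp_comp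
  faith := minusOp_faith
  three := by decide +kernel
  code_two := by decide +kernel
  form_add_left x y z := by simp; ring
  form_add_right x y z := by simp; ring
  form_op := minusOp_form
  irred S hS x hx hx0 y := by
    obtain ⟨a, b, rfl⟩ := minusOp_span x y hx0
    have h3 : ∀ (t : ZMod 3) (z : ZMod 3 × ZMod 3), z ∈ S → (t * z.1, t * z.2) ∈ S := by
      intro t z hz
      rcases (show ∀ a : ZMod 3, a = 0 ∨ a = 1 ∨ a = -1 by decide) t with rfl | rfl | rfl
      · rw [zero_mul, zero_mul]; exact S.zero_mem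
      · rw [one_mul, one_mul]; exact hz
      · rw [neg_one_mul, neg_one_mul]; exact S.neg_mem hz
    exact S.add_mem (h3 a x hx) (h3 b _ (hS (1, 0) x hx))
  uniq B hl hr hinv := by
    have key : ∀ x y, B x y = B (1, 0) (1, 0) * (x.1 * y.1) + B (1, 0) (0, 1) * (x.1 * y.2) +
        B (0, 1) (1, 0) * (x.2 * y.1) + B (0, 1) (0, 1) * (x.2 * y.2) := by
      let f : ZMod 3 × ZMod 3 →+ (ZMod 3 × ZMod 3 →+ ZMod 3) :=
        AddMonoidHom.mk' (fun x => AddMonoidHom.mk' (B x) (hr x)) fun x y =>
          AddMonoidHom.ext fun z => hl x y z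
      intro x y
      have sm : ∀ (t : ZMod 3) (z : ZMod 3 × ZMod 3), (t * z.1, t * z.2) = t.val • z := by
        intro t z
        refine Prod.ext ?_ ?_ <;> simp [nsmul_eq_mul]
      have hx : x = x.1.val • ((1, 0) : ZMod 3 × ZMod 3) + x.2.val • ((0, 1) : ZMod 3 × ZMod 3) := by
        rw [← sm, ← sm]; simp
      have hy : y = y.1.val • ((1, 0) : ZMod 3 × ZMod 3) + y.2.val • ((0, 1) : ZMod 3 × ZMod 3) := by
        rw [← sm, ← sm]; simp
      show f x y = _
      conv_lhs => rw [hx, hy]
      simp only [map_add, map_nsmul, AddMonoidHom.add_apply, AddMonoidHom.nsmul_apply]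
      simp only [nsmul_eq_mul, ZMod.natCast_zmod_val, f, AddMonoidHom.mk'_apply]
      ring
    obtain ⟨hp, hw, hq⟩ := minus_forms _ _ _ _ fun c x y => by rw [← key, ← key]; exact hinv c x y
    exact ⟨B (1, 0) (0, 1), fun x y => by rw [key, hp, hw, hq]; ring⟩

end Cfsg.Agent.Solv.CopPair
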