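import Cfsg.Agent.Lib.Solv.CopPair.Recursion
import Cfsg.Agent.Lib.Solv.CopPair.Model

/-!
Layers over the field with three elements in coordinates.
-/

set_option autoImplicit false
set_option linter.unusedSectionVars false
set_option linter.style.haveILetI false
set_option maxHeartbeats 800000

namespace Cfsg.Agent.Solv.CopPair

universe u v

variable {K : Type u} [Field K] {V : Type v} [AddCommGroup V] [Module K V]

/-- A layer written in coordinates. -/
structure Frame (E : Subgroup (V ≃ₗ[K] V)) (M : Model) where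
  φ : M.Vec →+ V
  inj : Function.Injective φ
  T : M.Code → V ≃ₗ[K] V
  mem : ∀ c, T c ∈ E
  act : ∀ c x, T c (φ x) = φ (M.op c x)
  one : ∀ x, T 0 x = x
  cover : ∀ a ∈ E, ∃ c s, ∀ x, a x = sgn s (T c x)

theorem two_eq (h3 : ∀ k : K, k = 0 ∨ k = 1 ∨ k = -1) (h2 : (2 : K) ≠ 0) : (2 : K) = -1 := by
  rcases h3 2 with h | h | h
  · exact absurd h h2
  · exact absurd (show (1 : K) = 0 by linear_combination h) one_ne_zero
  · exact h

theorem add_three (h3 : ∀ k : K, k = 0 ∨ k = 1 ∨ k = -1) (h2 : (2 : K) ≠ 0) (x : V) :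
    x + x + x = 0 := by
  have h : ((2 : K) + 1) • x = 0 := by rw [two_eq h3 h2, neg_add_cancel, zero_smul]
  rw [add_smul, one_smul, two_smul] at h
  exact h

theorem smul_sgn (h3 : ∀ k : K, k = 0 ∨ k = 1 ∨ k = -1) {c : K} (hc : c ≠ 0) :
    ∃ s, ∀ x : V, c • x = sgn s x := by
  rcases h3 c with h | h | h
  · exact absurd h hc
  · exact ⟨false, fun x => by rw [h, one_smul]; rfl⟩
  · exact ⟨true, fun x => by rw [h, neg_smul, one_smul]; rfl⟩

theorem map_sgn {F : Type*} {G H : Type*} [AddGroup G] [AddGroup H] [FunLike F G H]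
    [AddMonoidHomClass F G H] (f : F) (s : Bool) (x : G) : f (sgn s x) = sgn s (f x) := by
  cases s
  · rfl
  · exact map_neg f x

section

variable [Nontrivial V] {E : Subgroup (V ≃ₗ[K] V)}

/-- Squares in the layer are signs. -/
theorem sq_pm (h3 : ∀ k : K, k = 0 ∨ k = 1 ∨ k = -1) (hE : Layer E) {a : V ≃ₗ[K] V} (ha : a ∈ E) :
    ∃ s, ∀ x, a (a x) = sgn s x := by
  obtain ⟨x₀, hx₀⟩ := exists_ne (0 : V)
  obtain ⟨c, hc⟩ := hE.center (a * a) (mul_mem ha ha) fun b hb x => by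
    obtain ⟨d, hd⟩ := hE.comm a ha b hb
    have hd0 : d ≠ 0 := fun h => Split.apply_ne_zero a (Split.apply_ne_zero b hx₀)
      (by rw [hd, h, zero_smul])
    have hd2 : d * d = 1 := by
      rcases h3 d with h | h | h
      · exact absurd h hd0
      · rw [h, mul_one]
      · rw [h]; ring
    show a (a (b x)) = b (a (a x))
    rw [hd, map_smul, hd, smul_smul, hd2, one_smul]
  have hc0 : c ≠ 0 := fun h => Split.apply_ne_zero (a * a) hx₀ (by rw [hc, h, zero_smul])
  obtain ⟨s, hs⟩ := smul_sgn (V := V) h3 hc0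
  exact ⟨s, fun x => (hc x).trans (hs x)⟩

/-- The root of a split is minus one. -/
theorem split_two (h3 : ∀ k : K, k = 0 ∨ k = 1 ∨ k = -1) {z e : V ≃ₗ[K] V} {l : ℕ} {ω : K}
    (hs : Split E z e l ω) : l = 2 ∧ ω = -1 := by
  have hω : ω = -1 := ((h3 ω).resolve_left hs.ω_ne_zero).resolve_left hs.ω_ne_one
  refine ⟨?_, hω⟩
  have h1 : ω ^ 2 = 1 := by rw [hω]; ring
  exact (Nat.prime_dvd_prime_iff_eq hs.hl Nat.prime_two).1 (hs.root.dvd_of_pow_eq_one 2 h1)

/-- Coordinates for a scalar layer. -/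
theorem frame_scalar (h3 : ∀ k : K, k = 0 ∨ k = 1 ∨ k = -1) (h2 : (2 : K) ≠ 0)
    (hsc : ∀ a ∈ E, IsSc a) : Nonempty (Frame E plusM) := by
  obtain ⟨x₀, hx₀⟩ := exists_ne (0 : V)
  let g : ℤ →+ V := AddMonoidHom.mk' (fun n => n • x₀) (fun m n => add_smul m n x₀)
  have hg : g (3 : ℕ) = 0 := by
    show ((3 : ℕ) : ℤ) • x₀ = 0
    rw [natCast_zsmul, succ_nsmul, two_nsmul]
    exact add_three h3 h2 x₀
  let φ : ZMod 3 →+ V := ZMod.lift 3 ⟨g, hg⟩
  have hφ1 : φ 1 = x₀ := by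
    have := ZMod.lift_coe 3 ⟨g, hg⟩ 1
    rw [Int.cast_one] at this
    exact this.trans (one_zsmul x₀)
  refine ⟨⟨φ, ?_, fun _ => 1, fun _ => one_mem E, fun _ _ => rfl, fun _ => rfl, fun a ha => ?_⟩⟩
  · refine (injective_iff_map_eq_zero φ).2 fun a ha => ?_
    rcases (show ∀ a : ZMod 3, a = 0 ∨ a = 1 ∨ a = -1 by decide) a with h | h | h
    · exact h
    · rw [h, hφ1] at ha; exact absurd ha hx₀
    · rw [h, map_neg, hφ1, neg_eq_zero] at ha; exact absurd ha hx₀
  · obtain ⟨c, hc⟩ := hsc a ha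
    have hc0 : c ≠ 0 := fun h => Split.apply_ne_zero a hx₀ (by rw [hc, h, zero_smul])
    obtain ⟨s, hs⟩ := smul_sgn (V := V) h3 hc0
    exact ⟨(), s, fun x => (hc x).trans (hs x)⟩

theorem minus_cases : ∀ a : ZMod 2 × ZMod 2, a = (0, 0) ∨ a = (1, 0) ∨ a = (0, 1) ∨ a = (1, 1) := by decide

/-- Coordinates for a layer without eigenvectors. -/
theorem frame_quat (h3 : ∀ k : K, k = 0 ∨ k = 1 ∨ k = -1) (h2 : (2 : K) ≠ 0) (hE : Layer E)
    {f b : V ≃ₗ[K] V} {R S : K} (hq : Quat E f b R S) : Nonempty (Frame E minusM) := by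
  obtain ⟨x₀, hx₀⟩ := exists_ne (0 : V)
  have nsq : ∀ {c : K}, ¬IsSquare c → c = -1 := fun {c} h => by
    rcases h3 c with h' | h' | h'
    · exact absurd ⟨0, by rw [h', mul_zero]⟩ h
    · exact absurd ⟨1, by rw [h', mul_one]⟩ h
    · exact h'
  -- a fixed vector of the sum, after a change of sign
  obtain ⟨f', b', hf', hb', hff, hbb, hanti, hgen, w, hw, hbw⟩ : ∃ f' b' : V ≃ₗ[K] V, f' ∈ E ∧ b' ∈ E ∧
      (∀ x, f' (f' x) = -x) ∧ (∀ x, b' (b' x) = -x) ∧ (∀ x, f' (b' x) = -b' (f' x)) ∧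
      (∀ a ∈ E, ∃ c : K, (∀ x, a x = c • x) ∨ (∀ x, a x = c • f' x) ∨ (∀ x, a x = c • b' x) ∨
        (∀ x, a x = c • f' (b' x))) ∧ ∃ w : V, w ≠ 0 ∧ f' w + b' w = w := by
    have hff : ∀ x, f (f x) = -x := fun x => by rw [hq.hfR, nsq hq.hR, neg_smul, one_smul]
    have hbb : ∀ x, b (b x) = -x := fun x => by rw [hq.hbS, nsq hq.hS, neg_smul, one_smul]
    have hanti : ∀ x, f (b x) = -b (f x) := fun x => by rw [hq.anti, neg_smul, one_smul]
    have htt : ∀ x, f (f x + b x) + b (f x + b x) = x := fun x => by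
      rw [map_add, map_add, hff, hbb, hanti]
      have h := add_three h3 h2 x
      calc -x + -b (f x) + (b (f x) + -x) = -(x + x + x) + x := by abel
        _ = x := by rw [h, neg_zero, zero_add]
    by_cases h : ∃ x, x + (f x + b x) ≠ 0
    · obtain ⟨x, hx⟩ := h
      refine ⟨f, b, hq.hf, hq.hb, hff, hbb, hanti, hq.gen, _, hx, ?_⟩
      rw [map_add f x (f x + b x), map_add b x (f x + b x), add_add_add_comm, htt, add_comm]
    · push Not at h
      obtain ⟨s, hsE, hs⟩ := hE.scalar (-1) (neg_ne_zero.2 one_ne_zero)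
      have hs' : ∀ x, s x = -x := fun x => by rw [hs, neg_smul, one_smul]
      have e1 : ∀ (a : V ≃ₗ[K] V) x, (s * a) x = -a x := fun a x => hs' _
      refine ⟨s * f, s * b, mul_mem hsE hq.hf, mul_mem hsE hq.hb, fun x => ?_, fun x => ?_, fun x => ?_,
        fun a ha => ?_, x₀, hx₀, ?_⟩
      · rw [e1, e1, map_neg, neg_neg, hff]
      · rw [e1, e1, map_neg, neg_neg, hbb]
      · rw [e1, e1, e1, e1, map_neg, map_neg, neg_neg, neg_neg, hanti]
      · obtain ⟨c, hc⟩ := hq.gen a ha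
        rcases hc with hc | hc | hc | hc
        · exact ⟨c, Or.inl hc⟩
        · exact ⟨-c, Or.inr (Or.inl fun x => by rw [hc, e1, neg_smul, smul_neg, neg_neg])⟩
        · exact ⟨-c, Or.inr (Or.inr (Or.inl fun x => by rw [hc, e1, neg_smul, smul_neg, neg_neg]))⟩
        · exact ⟨c, Or.inr (Or.inr (Or.inr fun x => by rw [hc, e1, e1, map_neg, neg_neg]))⟩
      · rw [e1, e1]
        have := h x₀
        rw [← neg_add]
        exact (eq_neg_of_add_eq_zero_left this).symm
  have hbw' : b' w = w + -f' w := by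
    nth_rewrite 2 [← hbw]
    abel
  obtain ⟨s₀, hs₀⟩ : ∃ g : ZMod 3 →+ V, g 1 = w := by
    let g : ℤ →+ V := AddMonoidHom.mk' (fun n => n • w) (fun m n => add_smul m n w)
    refine ⟨ZMod.lift 3 ⟨g, ?_⟩, ?_⟩
    · show ((3 : ℕ) : ℤ) • w = 0
      rw [natCast_zsmul, succ_nsmul, two_nsmul]
      exact add_three h3 h2 w
    · have := ZMod.lift_coe 3 ⟨g, (by
        show ((3 : ℕ) : ℤ) • w = 0
        rw [natCast_zsmul, succ_nsmul, two_nsmul]
        exact add_three h3 h2 w)⟩ 1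
      rw [Int.cast_one] at this
      exact this.trans (one_zsmul w)
  have s0val : ∀ t : ZMod 3, s₀ t = if t = 0 then 0 else if t = 1 then w else -w := by
    intro t
    rcases (show ∀ a : ZMod 3, a = 0 ∨ a = 1 ∨ a = -1 by decide) t with rfl | rfl | rfl
    · simp
    · simp [hs₀]
    · rw [map_neg, hs₀, if_neg (by decide), if_neg (by decide)]
  let φ : ZMod 3 × ZMod 3 →+ V := AddMonoidHom.mk' (fun p => s₀ p.1 + -f' (s₀ p.2)) fun p q => by
    simp only [Prod.fst_add, Prod.snd_add, map_add, neg_add]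
    abel
  have hT : ∀ (g : V ≃ₗ[K] V) (c : ZMod 2 × ZMod 2),
      g (φ (1, 0)) = φ (minusOp c (1, 0)) → g (φ (0, 1)) = φ (minusOp c (0, 1)) →
      ∀ x, g (φ x) = φ (minusOp c x) := by
    intro g c h10 h01 x
    let F : ZMod 3 × ZMod 3 →+ V := g.toAddEquiv.toAddMonoidHom.comp φ
    let G : ZMod 3 × ZMod 3 →+ V := φ.comp (AddMonoidHom.mk' (minusOp c) (minusOp_add c))
    have hx : x = x.1.val • ((1, 0) : ZMod 3 × ZMod 3) + x.2.val • ((0, 1) : ZMod 3 × ZMod 3) := by
      refine Prod.ext ?_ ?_ <;> simp [nsmul_eq_mul]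
    show F x = G x
    rw [hx, map_add, map_add, map_nsmul, map_nsmul, map_nsmul, map_nsmul]
    show x.1.val • g (φ (1, 0)) + x.2.val • g (φ (0, 1)) =
      x.1.val • φ (minusOp c (1, 0)) + x.2.val • φ (minusOp c (0, 1))
    rw [h10, h01]
  have φ10 : φ (1, 0) = w := by simp [φ, hs₀]
  have φ01 : φ (0, 1) = -f' w := by simp [φ, hs₀]
  have hbf : ∀ x, b' (f' x) = -f' (b' x) := fun x => by rw [hanti, neg_neg]
  have hJ : ∀ x, f' (φ x) = φ (minusOp (1, 0) x) := hT f' (1, 0)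
    (by
      rw [φ10, show minusOp (1, 0) (1, 0) = -(0, 1) by decide, map_neg, φ01, neg_neg])
    (by rw [φ01, map_neg, hff, neg_neg, show minusOp (1, 0) (0, 1) = (1, 0) by decide, φ10])
  have hQ : ∀ x, b' (φ x) = φ (minusOp (0, 1) x) := hT b' (0, 1)
    (by rw [φ10, hbw', show minusOp (0, 1) (1, 0) = (1, 0) + (0, 1) by decide, map_add, φ10, φ01])
    (by
      rw [φ01, map_neg, hbf, neg_neg, hbw', map_add, map_neg, hff, neg_neg,
        show minusOp (0, 1) (0, 1) = (1, 0) + -(0, 1) by decide, map_add, map_neg, φ10, φ01, neg_neg, add_comm])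
  let T : ZMod 2 × ZMod 2 → V ≃ₗ[K] V := fun c =>
    if c.1 = 1 then (if c.2 = 1 then f' * b' else f') else (if c.2 = 1 then b' else 1)
  refine ⟨⟨φ, (injective_iff_map_eq_zero φ).2 fun p hp => ?_, T, fun c => ?_, fun c x => ?_, fun _ => rfl,
    fun a ha => ?_⟩⟩
  · by_contra hne
    have key : ∀ x : ZMod 3 × ZMod 3, φ (minusOp (1, 0) p) = 0 := fun _ => by rw [← hJ, hp, map_zero]
    obtain ⟨a, c, hac⟩ := minusOp_span p (1, 0) hne
    refine hw ?_
    have hmul : ∀ (t : ZMod 3) (z : ZMod 3 × ZMod 3), φ z = 0 → φ (t * z.1, t * z.2) = 0 := by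
      intro t z hz
      rcases (show ∀ a : ZMod 3, a = 0 ∨ a = 1 ∨ a = -1 by decide) t with rfl | rfl | rfl
      · rw [zero_mul, zero_mul]; exact map_zero φ
      · rw [one_mul, one_mul]; exact hz
      · rw [neg_one_mul, neg_one_mul]; exact (map_neg φ z).trans (by rw [hz, neg_zero])
    have h1 := map_add φ (a * p.1, a * p.2) (c * (minusOp (1, 0) p).1, c * (minusOp (1, 0) p).2)
    rw [hmul a p hp, hmul c _ (key p), add_zero] at h1
    rw [← φ10, hac]
    exact h1
  · dsimp only [T]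
    split_ifs
    · exact mul_mem hf' hb'
    · exact hf'
    · exact hb'
    · exact one_mem E
  · rcases minus_cases c with rfl | rfl | rfl | rfl
    · exact congrArg φ (minusM.op_zero x).symm
    · exact hJ x
    · exact hQ x
    · show f' (b' (φ x)) = φ (minusOp (1, 1) x)
      refine (congrArg f' (hQ x)).trans ((hJ _).trans ?_)
      exact congrArg φ ((show ∀ x, minusOp (1, 0) (minusOp (0, 1) x) = minusOp (1, 1) x by decide +kernel) x)
  · obtain ⟨c, hc⟩ := hgen a ha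
    have hc0 : c ≠ 0 := fun h => by
      rcases hc with hc | hc | hc | hc <;>
        exact Split.apply_ne_zero a hx₀ (by rw [hc, h, zero_smul])
    obtain ⟨s, hs⟩ := smul_sgn (V := V) h3 hc0
    rcases hc with hc | hc | hc | hc
    · exact ⟨(0, 0), s, fun x => (hc x).trans (hs x)⟩
    · exact ⟨(1, 0), s, fun x => (hc x).trans (hs _)⟩
    · exact ⟨(0, 1), s, fun x => (hc x).trans (hs _)⟩
    · exact ⟨(1, 1), s, fun x => (hc x).trans (hs _)⟩

/-- Coordinates from those of the fixed space. -/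
theorem frame_dbl (h3 : ∀ k : K, k = 0 ∨ k = 1 ∨ k = -1) (hE : Layer E) {z e₀ : V ≃ₗ[K] V} {l : ℕ}
    {ω : K} (hs₀ : Split E z e₀ l ω) {M : Model} (F : Frame (sub0 E z) M) : Nonempty (Frame E (dbl M)) := by
  obtain ⟨rfl, rfl⟩ := split_two h3 hs₀
  have hzz : ∀ x, z (z x) = x := fun x => by
    have := hs₀.hzl x; rwa [pow_two] at this
  -- an involution moving the fixed space
  obtain ⟨e, hs, hee⟩ : ∃ e, Split E z e 2 (-1 : K) ∧ ∀ x, e (e x) = x := by
    obtain ⟨s, hsq⟩ := sq_pm h3 hE hs₀.he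
    cases s
    · exact ⟨e₀, hs₀, hsq⟩
    · refine ⟨e₀ * z, ⟨hs₀.hz, mul_mem hs₀.he hs₀.hz, hs₀.hl, hs₀.root, fun x => ?_, hs₀.hzl⟩, fun x => ?_⟩
      · exact hs₀.hze (z x)
      · show e₀ (z (e₀ (z x))) = x
        rw [hs₀.hze, hzz, map_smul, hsq, neg_smul, one_smul]
        exact neg_neg x
  have hze : ∀ x, z (e x) = -e (z x) := fun x => by rw [hs.hze, neg_smul, one_smul]
  have hez : ∀ x, e (z x) = -z (e x) := fun x => by rw [hze, neg_neg]
  obtain ⟨x₁, hx₁, hx0⟩ : ∃ x : V, z x = x ∧ x ≠ 0 := by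
    refine ⟨(F.φ M.pt : X0 z), (F.φ M.pt).2, fun h => M.pt_ne (F.inj ?_)⟩
    rw [map_zero]
    exact Subtype.ext h
  -- lifts commuting with both
  have lift : ∀ r, ∃ t ∈ cz E z, (∀ x, t (e x) = e (t x)) ∧
      ∀ x : X0 z, t (x : V) = ((F.T r x : X0 z) : V) := by
    intro r
    obtain ⟨t, ht, htr⟩ := sub0_cases (F.mem r)
    obtain ⟨c, hc⟩ := hE.comm t ht.1 e hs.he
    have hc0 : c ≠ 0 := fun h => by
      have := hc x₁
      rw [h, zero_smul] at this
      exact Split.apply_ne_zero t (Split.apply_ne_zero e hx0) this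
    rcases (h3 c).resolve_left hc0 with rfl | rfl
    · exact ⟨t, ht, fun x => by rw [hc, one_smul], fun x => (htr x).symm⟩
    · refine ⟨z * t, (cz E z).mul_mem hs.mem_cz_z ht, fun x => ?_, fun x => ?_⟩
      · show z (t (e x)) = e (z (t x))
        rw [hc, map_smul, neg_smul, one_smul, hze, neg_neg]
      · show z (t x) = _
        rw [ht.2, show z (x : V) = x from x.2, ← htr]
  choose t htC hte htX using lift
  obtain ⟨ι, hι⟩ : ∃ ι : M.Vec →+ V, ∀ x, ι x = ((F.φ x : X0 z) : V) :=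
    ⟨(X0 z).toAddSubgroup.subtype.comp F.φ, fun x => rfl⟩
  have hιz : ∀ x, z (ι x) = ι x := fun x => by rw [hι]; exact (F.φ x).2
  have hιt : ∀ r x, t r (ι x) = ι (M.op r x) := fun r x => by
    rw [hι, hι, htX, F.act]
  let φ : M.Vec × M.Vec →+ V := AddMonoidHom.mk' (fun p => ι p.1 + e (ι p.2)) fun p q => by
    simp only [Prod.fst_add, Prod.snd_add, map_add]; abel
  let T : (ZMod 2 × ZMod 2) × M.Code → V ≃ₗ[K] V := fun c =>
    (if c.1.1 = 1 then e else 1) * (if c.1.2 = 1 then z else 1) * (if c.2 = 0 then 1 else t c.2)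
  have hT0 : ∀ r x, (if r = 0 then (1 : V ≃ₗ[K] V) else t r) (ι x) = ι (M.op r x) := fun r x => by
    split_ifs with h
    · rw [h, M.op_zero]; rfl
    · exact hιt r x
  have hTe : ∀ r x, (if r = 0 then (1 : V ≃ₗ[K] V) else t r) (e x) =
      e ((if r = 0 then (1 : V ≃ₗ[K] V) else t r) x) := fun r x => by
    split_ifs
    · rfl
    · exact hte r x
  have hTC : ∀ r, (if r = 0 then (1 : V ≃ₗ[K] V) else t r) ∈ cz E z := fun r => by
    split_ifs
    · exact (cz E z).one_mem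
    · exact htC r
  refine ⟨⟨φ, (injective_iff_map_eq_zero φ).2 fun p hp => ?_, T, fun c => ?_, fun c x => ?_, fun x => ?_,
    fun a ha => ?_⟩⟩
  · change ι p.1 + e (ι p.2) = 0 at hp
    have h1 := congrArg z hp
    rw [map_add, map_zero, hιz, hze, hιz] at h1
    have hsum : ι p.1 + ι p.1 = 0 := by
      calc ι p.1 + ι p.1 = (ι p.1 + e (ι p.2)) + (ι p.1 + -e (ι p.2)) := by abel
        _ = 0 := by rw [hp, h1, add_zero]
    have e1 : ι p.1 = 0 := by
      have h3' := M.three p.1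
      have : ι (p.1 + p.1 + p.1) = 0 := by rw [h3', map_zero]
      rwa [map_add, map_add, hsum, zero_add] at this
    rw [e1, zero_add, LinearEquiv.map_eq_zero_iff] at hp
    have hinj : ∀ y, ι y = 0 → y = 0 := fun y hy => F.inj (by
      rw [map_zero]; exact Subtype.ext ((hι y).symm.trans hy))
    exact Prod.ext (hinj _ e1) (hinj _ hp)
  · refine mul_mem (mul_mem ?_ ?_) (hTC c.2).1
    · split_ifs
      · exact hs.he
      · exact one_mem E
    · split_ifs
      · exact hs.hz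
      · exact one_mem E
  · obtain ⟨⟨a, b⟩, r⟩ := c
    obtain ⟨x0, x1⟩ := x
    obtain ⟨tr, htr⟩ : ∃ tr, tr = (if r = 0 then (1 : V ≃ₗ[K] V) else t r) := ⟨_, rfl⟩
    show ((if a = 1 then e else 1) * (if b = 1 then z else 1) * (if r = 0 then 1 else t r)) (ι x0 + e (ι x1)) =
      φ (dblOp M ((a, b), r) (x0, x1))
    rw [← htr]
    have hin : tr (ι x0 + e (ι x1)) = ι (M.op r x0) + e (ι (M.op r x1)) := by
      rw [htr, map_add, hTe, hT0, hT0]
    rcases zmod2_cases a with rfl | rfl <;> rcases zmod2_cases b with rfl | rfl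
    · show tr (ι x0 + e (ι x1)) = _
      rw [hin]; simp [φ, dblOp]
    · show z (tr (ι x0 + e (ι x1))) = _
      rw [hin, map_add, hιz, hze, hιz]; simp [φ, dblOp]
    · show e (tr (ι x0 + e (ι x1))) = _
      rw [hin, map_add, hee]; simp [φ, dblOp, add_comm]
    · show e (z (tr (ι x0 + e (ι x1)))) = _
      rw [hin, map_add z, hιz, hze, hιz, map_add e, map_neg, hee]; simp [φ, dblOp, add_comm]
  · show ((if (0 : ZMod 2) = 1 then e else 1) * (if (0 : ZMod 2) = 1 then z else 1) *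
      (if (0 : M.Code) = 0 then 1 else t 0)) x = x
    simp
  · obtain ⟨i, hi, b, hb, rfl⟩ := hs.decomp hE ha
    obtain ⟨r, s, hr⟩ := F.cover _ (mem_sub0 hb)
    obtain ⟨tr, htr⟩ : ∃ tr, tr = (if r = 0 then (1 : V ≃ₗ[K] V) else t r) := ⟨_, rfl⟩
    have htrX : ∀ x : X0 z, tr (x : V) = ((F.T r x : X0 z) : V) := fun x => by
      rw [htr]; split_ifs with h
      · subst h; rw [F.one]; rfl
      · exact htX r x
    obtain ⟨sc, hscE, hsc⟩ : ∃ sc ∈ E, ∀ x, sc x = sgn s x := by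
      cases s
      · exact ⟨1, one_mem E, fun x => rfl⟩
      · obtain ⟨m, hm, hmx⟩ := hE.scalar (-1) (neg_ne_zero.2 one_ne_zero)
        exact ⟨m, hm, fun x => by rw [hmx, neg_smul, one_smul]; rfl⟩
    have hscC : sc ∈ cz E z := ⟨hscE, fun x => by rw [hsc, hsc, map_sgn]⟩
    have hf : (sc * tr)⁻¹ * b ∈ cz E z :=
      (cz E z).mul_mem ((cz E z).inv_mem ((cz E z).mul_mem hscC (htr ▸ hTC r))) hb
    obtain ⟨j, hj, hjx⟩ := hs.triv hE hx₁ hx0 hf fun x hx => by
      refine (sc * tr).injective ?_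
      show (sc * tr) ((sc * tr).symm (b x)) = (sc * tr) x
      rw [LinearEquiv.apply_symm_apply]
      show b x = sc (tr x)
      rw [hsc, htrX ⟨x, hx⟩]
      have := congrArg Subtype.val (hr ⟨x, hx⟩)
      rw [restr_apply] at this
      change b x = _ at this
      rw [this]
      cases s <;> rfl
    have hbx : ∀ x, b x = sgn s (tr ((z ^ j) x)) := fun x => by
      have h1 : (sc * tr).symm (b x) = (z ^ j) x := hjx x
      rw [LinearEquiv.symm_apply_eq] at h1
      rw [h1]; exact hsc _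
    refine ⟨((if i = 1 then 1 else 0, if j = 1 then 1 else 0), r), s, fun x => ?_⟩
    show (e ^ i) (b x) = sgn s (((if (if i = 1 then (1 : ZMod 2) else 0) = 1 then e else 1) *
      (if (if j = 1 then (1 : ZMod 2) else 0) = 1 then z else 1) * (if r = 0 then 1 else t r)) x)
    rw [← htr, hbx, map_sgn]
    congr 1
    have hzt : z (tr x) = tr (z x) := (htr ▸ hTC r).2 x
    interval_cases i <;> interval_cases j <;> simp <;> simp [hzt]

end

end Cfsg.Agent.Solv.CopPair
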