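import Cfsg.Agent.Lib.Solv.CopPair.Main
import Cfsg.Agent.Lib.Solv.OddPair.Main
import Cfsg.Agent.Lib.Solv.PGroupPhi
import Cfsg.Agent.Lib.Solv.OddGated.ActionModel

/-!
Two elements with trivial common stabiliser for a solvable coprime action on any finite group.
-/

set_option autoImplicit false
set_option linter.unusedSectionVars false
set_option linter.style.haveILetI false
set_option maxHeartbeats 800000

namespace Cfsg.Agent.Solv.CopPair

open Cfsg.Agent.Solv.OddPair (Base CR)
open scoped Pointwise
open Cfsg.Agent.Solv.OddGated.ActionModel (Amb inl_smul card_base card_top' normalizes_base normalizes_iff)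

universe u v w

/-! ### Sets with the same fixed point counts -/

/-- The points fixed by a subgroup. -/
def fixSet {A : Type u} (X : Type v) [Group A] [MulAction A X] (B : Subgroup A) : Set X :=
  {x | ∀ b ∈ B, b • x = x}

/-- Equal fixed point numbers give equal numbers of points with each stabiliser. -/
theorem ncard_stab_eq {A : Type u} [Group A] [Finite A] {X : Type v} [MulAction A X] [Finite X]
    {Y : Type w} [MulAction A Y] [Finite Y]
    (h : ∀ B : Subgroup A, (fixSet X B).ncard = (fixSet Y B).ncard) :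
    ∀ B : Subgroup A, {x : X | MulAction.stabilizer A x = B}.ncard =
      {y : Y | MulAction.stabilizer A y = B}.ncard := by
  classical
  intro B
  induction B using WellFoundedGT.induction with
  | _ B ih =>
    haveI := Fintype.ofFinite (Subgroup A)
    haveI := Fintype.ofFinite X
    haveI := Fintype.ofFinite Y
    have key : ∀ (Z : Type (max v w)) [MulAction A Z] [Fintype Z],
        (fixSet Z B).ncard = {z : Z | MulAction.stabilizer A z = B}.ncard +
          ∑ C ∈ Finset.univ.filter (B < ·), {z : Z | MulAction.stabilizer A z = C}.ncard := by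
      intro Z _ _
      have e : ∀ C : Subgroup A, {z : Z | MulAction.stabilizer A z = C}.ncard =
          (Finset.univ.filter fun z : Z => MulAction.stabilizer A z = C).card := fun C => by
        rw [← Set.ncard_coe_finset]; congr 1; ext z; simp
      have e1 : (fixSet Z B).ncard = (Finset.univ.filter fun z : Z => B ≤ MulAction.stabilizer A z).card := by
        rw [← Set.ncard_coe_finset]; congr 1; ext z; simp [fixSet, SetLike.le_def]
      simp only [e, e1]
      rw [Finset.card_eq_sum_card_fiberwise (f := fun z : Z => MulAction.stabilizer A z)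
        (t := Finset.univ.filter (B ≤ ·)) fun z hz => by simpa using hz]
      rw [show Finset.univ.filter (B ≤ ·) = insert B (Finset.univ.filter (B < ·)) by
        ext C; simp [le_iff_eq_or_lt, eq_comm], Finset.sum_insert (by simp)]
      congr 1
      · congr 1; ext z; simp only [Finset.mem_filter, Finset.mem_univ, true_and]
        exact ⟨fun hz => hz.2, fun hz => ⟨hz.ge, hz⟩⟩
      · refine Finset.sum_congr rfl fun C hC => ?_
        congr 1; ext z; simp only [Finset.mem_filter, Finset.mem_univ, true_and] at hC ⊢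
        exact ⟨fun hz => hz.2, fun hz => ⟨hC.le.trans hz.ge, hz⟩⟩
    letI : MulAction A (ULift.{w} X) := ULift.mulAction'
    letI : MulAction A (ULift.{v} Y) := ULift.mulAction'
    haveI := Fintype.ofFinite (ULift.{w} X)
    haveI := Fintype.ofFinite (ULift.{v} Y)
    have dX : ∀ C : Subgroup A, {z : ULift.{w} X | MulAction.stabilizer A z = C}.ncard =
        {x : X | MulAction.stabilizer A x = C}.ncard := fun C => by
      refine Set.ncard_congr (fun z _ => z.down) (fun z hz => ?_) (fun a b _ _ e => ULift.ext _ _ e)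
        fun x hx => ⟨⟨x⟩, ?_, rfl⟩
      · rw [Set.mem_setOf_eq] at hz ⊢
        rw [← hz]; ext g; exact ⟨fun e => ULift.ext _ _ e, fun e => congrArg ULift.down e⟩
      · rw [Set.mem_setOf_eq] at hx ⊢
        rw [← hx]; ext g; exact ⟨fun e => congrArg ULift.down e, fun e => ULift.ext _ _ e⟩
    have dY : ∀ C : Subgroup A, {z : ULift.{v} Y | MulAction.stabilizer A z = C}.ncard =
        {y : Y | MulAction.stabilizer A y = C}.ncard := fun C => by
      refine Set.ncard_congr (fun z _ => z.down) (fun z hz => ?_) (fun a b _ _ e => ULift.ext _ _ e)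
        fun x hx => ⟨⟨x⟩, ?_, rfl⟩
      · rw [Set.mem_setOf_eq] at hz ⊢
        rw [← hz]; ext g; exact ⟨fun e => ULift.ext _ _ e, fun e => congrArg ULift.down e⟩
      · rw [Set.mem_setOf_eq] at hx ⊢
        rw [← hx]; ext g; exact ⟨fun e => congrArg ULift.down e, fun e => ULift.ext _ _ e⟩
    have fX : (fixSet (ULift.{w} X) B).ncard = (fixSet X B).ncard :=
      Set.ncard_congr (fun z _ => z.down) (fun z hz b hb => congrArg ULift.down (hz b hb))
        (fun a b _ _ e => ULift.ext _ _ e) fun x hx => ⟨⟨x⟩, fun b hb => ULift.ext _ _ (hx b hb), rfl⟩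
    have fY : (fixSet (ULift.{v} Y) B).ncard = (fixSet Y B).ncard :=
      Set.ncard_congr (fun z _ => z.down) (fun z hz b hb => congrArg ULift.down (hz b hb))
        (fun a b _ _ e => ULift.ext _ _ e) fun x hx => ⟨⟨x⟩, fun b hb => ULift.ext _ _ (hx b hb), rfl⟩
    have k1 := key (ULift.{w} X)
    have k2 := key (ULift.{v} Y)
    rw [fX, dX] at k1
    rw [fY, dY] at k2
    simp only [dX] at k1
    simp only [dY] at k2
    rw [h B, k2, Finset.sum_congr rfl fun C hC => ih C (Finset.mem_filter.1 hC).2] at k1
    exact (add_right_cancel k1).symm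

/-! ### Actions on prime power groups -/

/-- A pair of elements whose common stabiliser acts trivially on a group of prime power order. -/
theorem pair_of_pgroup {A : Type u} [Group A] [Finite A] {P : Type v} [Group P] [Finite P]
    [MulDistribMulAction A P] {p : ℕ} [Fact p.Prime] (hP : IsPGroup p P) (hA : Group.IsSolvable A)
    (hcop : Nat.Coprime (Nat.card A) (Nat.card P)) :
    ∃ x y : P, ∀ a : A, a • x = x → a • y = y → ∀ z : P, a • z = z := by
  classical
  obtain ⟨Φ, hΦ⟩ : ∃ Φ, Φ = frattini P := ⟨_, rfl⟩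
  haveI hΦn : Φ.Normal := hΦ ▸ inferInstance
  have hinv : ∀ (a : A), ∀ z ∈ Φ, a • z ∈ Φ := fun a z hz => by
    subst hΦ
    rw [← Subgroup.characteristic_iff_map_eq.1 (inferInstance : (frattini P).Characteristic)
      (MulDistribMulAction.toMulEquiv P a)]
    exact ⟨z, hz, rfl⟩
  letI : CommGroup (P ⧸ Φ) :=
    { (inferInstance : Group (P ⧸ Φ)) with
      mul_comm := quotient_mul_comm Φ fun a b => hΦ ▸ commutatorElement_mem_frattini hP a b }
  let act : A → P ⧸ Φ →* P ⧸ Φ := fun a =>
    QuotientGroup.map Φ Φ (MulDistribMulAction.toMonoidHom P a) (fun z hz => hinv a z hz)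
  letI : DistribMulAction A (Additive (P ⧸ Φ)) :=
    { smul := fun a z => Additive.ofMul (act a (Additive.toMul z))
      one_smul := fun z => by
        induction z using Additive.rec with | _ z
        induction z using QuotientGroup.induction_on with | _ z
        exact congrArg (fun t : P => Additive.ofMul (t : P ⧸ Φ)) (one_smul A z)
      mul_smul := fun a b z => by
        induction z using Additive.rec with | _ z
        induction z using QuotientGroup.induction_on with | _ z
        exact congrArg (fun t : P => Additive.ofMul (t : P ⧸ Φ)) (mul_smul a b z)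
      smul_zero := fun a => congrArg Additive.ofMul (map_one (act a))
      smul_add := fun a y z => congrArg Additive.ofMul (map_mul (act a) _ _) }
  haveI : Finite (Additive (P ⧸ Φ)) := (inferInstance : Finite (P ⧸ Φ))
  have hexp : ∀ z : Additive (P ⧸ Φ), p • z = 0 := fun z => by
    induction z using Additive.rec with | _ z
    induction z using QuotientGroup.induction_on with | _ z
    refine congrArg Additive.ofMul (?_ : (z : P ⧸ Φ) ^ p = 1)
    rw [← QuotientGroup.mk_pow, QuotientGroup.eq_one_iff]
    exact hΦ ▸ pow_mem_frattini hP z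
  have hcard : Nat.card (Additive (P ⧸ Φ)) ∣ Nat.card P := Subgroup.card_quotient_dvd_card Φ
  have hcr : CR A (Additive (P ⧸ Φ)) :=
    cr_of_coprime Fact.out hexp (hcop.coprime_dvd_right hcard)
  have hbase : Base A (Additive (P ⧸ Φ)) := by
    rcases Nat.even_or_odd (Nat.card A) with he | ho
    · refine base_coprime hA ?_ (hcop.coprime_dvd_right hcard) hcr
      refine Odd.of_dvd_nat ?_ hcard
      rw [← Nat.not_even_iff_odd]
      exact fun h => Nat.not_coprime_of_dvd_of_dvd (by norm_num : 1 < 2) he.two_dvd h.two_dvd hcop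
    · exact OddPair.base_odd ho hcr
  obtain ⟨v, w, hvw⟩ := hbase
  obtain ⟨x, hx⟩ := QuotientGroup.mk_surjective (Additive.toMul v)
  obtain ⟨y, hy⟩ := QuotientGroup.mk_surjective (Additive.toMul w)
  refine ⟨x, y, fun a hax hay => ?_⟩
  have hfix : ∀ z : P, ((a • z : P) : P ⧸ Φ) = (z : P ⧸ Φ) := by
    have e : ∀ z : P, a • Additive.ofMul (z : P ⧸ Φ) = Additive.ofMul ((a • z : P) : P ⧸ Φ) := fun z => rfl
    have h1 : a • v = v := by
      rw [show v = Additive.ofMul (x : P ⧸ Φ) from hx.symm ▸ rfl, e, hax]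
    have h2 : a • w = w := by
      rw [show w = Additive.ofMul (y : P ⧸ Φ) from hy.symm ▸ rfl, e, hay]
    exact fun z => congrArg Additive.toMul ((e z).symm.trans (hvw a h1 h2 _))
  -- those acting trivially on the quotient act trivially
  let N : Subgroup A :=
    { carrier := {b | ∀ z : P, ((b • z : P) : P ⧸ Φ) = (z : P ⧸ Φ)}
      one_mem' := fun z => by rw [one_smul]
      mul_mem' := fun {b c} hb hc z => by rw [mul_smul, hb, hc]
      inv_mem' := fun {b} hb z => by rw [← hb (b⁻¹ • z), smul_inv_smul] }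
  have haN : a ∈ N := hfix
  let T : Subgroup N :=
    { carrier := {b | ∀ z : P, (b : A) • z = z}
      one_mem' := fun z => one_smul A z
      mul_mem' := fun {b c} hb hc z => by rw [Subgroup.coe_mul, mul_smul, hc, hb]
      inv_mem' := fun {b} hb z => by rw [Subgroup.coe_inv, inv_smul_eq_iff, hb] }
  rcases subsingleton_or_nontrivial P with hs | hnt
  · exact fun z => Subsingleton.elim _ _
  have hT : T = ⊤ := by
    refine eq_top_of_forall_sylow_le T fun q _ => ?_
    obtain ⟨Q⟩ : Nonempty (Sylow q N) := inferInstance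
    refine ⟨Q, fun b hb z => ?_⟩
    by_cases hQ1 : (Q : Subgroup N) = ⊥
    · rw [hQ1, Subgroup.mem_bot] at hb
      rw [hb, Subgroup.coe_one, one_smul]
    have hqp : q ≠ p := by
      rintro rfl
      obtain ⟨k, hk⟩ := IsPGroup.iff_card.1 hP
      obtain ⟨j, hj⟩ := IsPGroup.iff_card.1 Q.isPGroup'
      have hj0 : j ≠ 0 := fun h => hQ1 ((Subgroup.card_eq_one).1 (by rw [hj, h, pow_zero]))
      have hqA : q ∣ Nat.card A := ((dvd_pow_self q hj0).trans (hj ▸ Subgroup.card_subgroup_dvd_card _)).trans
        (Subgroup.card_subgroup_dvd_card N)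
      have hk0 : k ≠ 0 := fun h0 => by
        have := Finite.one_lt_card (α := P)
        rw [hk, h0, pow_zero] at this
        exact lt_irrefl 1 this
      exact Nat.not_coprime_of_dvd_of_dvd (Fact.out : q.Prime).one_lt hqA
        (by rw [hk]; exact dvd_pow_self q hk0) hcop
    -- the fixed points cover the quotient
    let C : Subgroup P :=
      { carrier := {t | ∀ c ∈ (Q : Subgroup N), (c : A) • t = t}
        one_mem' := fun c _ => smul_one _
        mul_mem' := fun {s t} hs ht c hc => by rw [smul_mul', hs c hc, ht c hc]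
        inv_mem' := fun {t} ht c hc => by rw [smul_inv', ht c hc] }
    have hC : C ⊔ Φ = ⊤ := by
      refine eq_top_iff.2 fun t _ => ?_
      letI : MulAction (Q : Subgroup N) {s : P // (s : P ⧸ Φ) = (t : P ⧸ Φ)} :=
        { smul := fun c s => ⟨((c : N) : A) • (s : P), ((c : N).2 s).trans s.2⟩
          one_smul := fun s => Subtype.ext (one_smul A (s : P))
          mul_smul := fun c d s => Subtype.ext (mul_smul ((c : N) : A) ((d : N) : A) (s : P)) }
      have hne : ¬q ∣ Nat.card {s : P // (s : P ⧸ Φ) = (t : P ⧸ Φ)} := by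
        have e : Nat.card {s : P // (s : P ⧸ Φ) = (t : P ⧸ Φ)} = Nat.card Φ := by
          refine Nat.card_congr
            { toFun := fun s => ⟨t⁻¹ * (s : P), QuotientGroup.eq.1 s.2.symm⟩
              invFun := fun c => ⟨t * (c : P), (QuotientGroup.eq.2 (by simp)).symm⟩
              left_inv := fun s => Subtype.ext (mul_inv_cancel_left _ _)
              right_inv := fun c => Subtype.ext (inv_mul_cancel_left _ _) }
        rw [e]
        obtain ⟨k, hk⟩ := IsPGroup.iff_card.1 (hP.to_subgroup Φ)
        rw [hk]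
        exact fun h => hqp ((Nat.prime_dvd_prime_iff_eq Fact.out Fact.out).1 (Nat.Prime.dvd_of_dvd_pow Fact.out h))
      obtain ⟨s, hs⟩ := Q.isPGroup'.nonempty_fixed_point_of_prime_not_dvd_card _ hne
      have hsC : (s : P) ∈ C := fun c hc => congrArg Subtype.val (hs ⟨c, hc⟩)
      rw [← mul_inv_cancel_left (s : P) t]
      exact mul_mem (Subgroup.mem_sup_left hsC)
        (Subgroup.mem_sup_right (QuotientGroup.eq.1 s.2))
    have hCtop : C = ⊤ := frattini_nongenerating (hΦ ▸ hC)
    exact (hCtop ▸ Subgroup.mem_top z : z ∈ C) b hb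
  intro z
  exact (hT ▸ Subgroup.mem_top (⟨a, haN⟩ : N) : (⟨a, haN⟩ : N) ∈ T) z

/-! ### Any group -/

/-- Two elements whose common stabiliser acts trivially. -/
theorem pair_of_group {A : Type u} [Group A] [Finite A] {K : Type v} [Group K] [Finite K]
    [MulDistribMulAction A K] (hA : Group.IsSolvable A) (hcop : Nat.Coprime (Nat.card A) (Nat.card K))
    (hf : ∀ a : A, (∀ z : K, a • z = z) → a = 1) :
    ∃ x y : K, ∀ a : A, a • x = x → a • y = y → a = 1 := by
  classical
  let inl' : K →* Amb A K := SemidirectProduct.inl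
  let inr' : A →* Amb A K := SemidirectProduct.inr
  have hinl : Function.Injective inl' := SemidirectProduct.inl_injective
  have hfixmem : ∀ (B : Subgroup A) (z : K),
      inl' z ∈ Subgroup.centralizer ((B.map inr' : Subgroup (Amb A K)) : Set (Amb A K)) ↔
        ∀ b ∈ B, b • z = z := by
    intro B z
    rw [Subgroup.mem_centralizer_iff]
    constructor
    · intro h b hb
      refine hinl ?_
      rw [inl_smul, h _ ⟨b, hb, rfl⟩, mul_assoc, ← map_mul, mul_inv_cancel, map_one, mul_one]
    · rintro h _ ⟨b, hb, rfl⟩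
      conv_rhs => rw [← h b hb]
      rw [show inl' (b • z) = _ from inl_smul b z, mul_assoc, ← map_mul, inv_mul_cancel, map_one, mul_one]
  let S := {r : ℕ // r ∈ (Nat.card K).primeFactors}
  have hS : ∀ r : S, (r : ℕ).Prime := fun r => Nat.prime_of_mem_primeFactors r.2
  have hsyl : ∀ r : S, ∃ P : Subgroup K, (∀ a : A, ∀ z ∈ P, a • z ∈ P) ∧
      Nat.card P = (r : ℕ) ^ (Nat.card K).factorization r ∧
      ∀ B : Subgroup A, {z : K | z ∈ P ∧ ∀ b ∈ B, b • z = z}.ncard =
        (r : ℕ) ^ ((fixSet K B).ncard).factorization r := by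
    intro r
    haveI : Fact (r : ℕ).Prime := ⟨hS r⟩
    have hAK := normalizes_base (A := A) (G := K)
    have hco : (Nat.card (inr'.range)).Coprime (Nat.card (Subgroup.map inl' ⊤)) := by
      rw [show inr'.range = OddGated.ActionModel.top' A K from rfl, card_top',
        Subgroup.card_map_of_injective hinl, Subgroup.card_top]
      exact hcop
    have hsolA : Group.IsSolvable inr'.range := by
      haveI := hA
      exact Group.isSolvable_of_surjective (f := inr'.rangeRestrict) inr'.rangeRestrict_surjective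
    obtain ⟨P', hP', hP'A⟩ := exists_invariant_sylow hAK hco (Or.inl hsolA) (r : ℕ)
    obtain ⟨P, hPd⟩ : ∃ P : Subgroup K, P = P'.comap inl' := ⟨_, rfl⟩
    have hmap : P.map inl' = P' := by
      rw [hPd]
      refine Subgroup.map_comap_eq_self ?_
      rw [MonoidHom.range_eq_map]
      exact hP'.1
    have hPcard : Nat.card P = (r : ℕ) ^ (Nat.card K).factorization r := by
      rw [← Subgroup.card_map_of_injective (K := P) hinl, hmap, hP'.2, card_base]
    refine ⟨P, (normalizes_iff (H := P)).1 (by rw [show P.map SemidirectProduct.inl = P' from hmap]; exact hP'A),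
      hPcard, fun B => ?_⟩
    obtain ⟨B', hB'⟩ : ∃ B', B' = B.map inr' := ⟨_, rfl⟩
    have hB'A : B' ≤ inr'.range := hB' ▸ Subgroup.map_le_range inr' B
    obtain ⟨C', hC'⟩ : ∃ C', C' = Subgroup.map inl' ⊤ ⊓ Subgroup.centralizer (B' : Set (Amb A K)) := ⟨_, rfl⟩
    obtain ⟨R⟩ : Nonempty (Sylow (r : ℕ) C') := inferInstance
    have hR := IsSylIn.of_sylow (K := C') R
    obtain ⟨R', hR'⟩ : ∃ R', R' = (R : Subgroup C').map C'.subtype := ⟨_, rfl⟩
    rw [← hR'] at hR
    have hBK : B' ≤ Subgroup.normalizer ((Subgroup.map inl' ⊤ : Subgroup (Amb A K)) : Set (Amb A K)) :=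
      hB'A.trans hAK
    have hsolB : Group.IsSolvable B' := isSolvable_of_le hB'A hsolA
    have hcoB := hco.coprime_dvd_left (Subgroup.card_dvd_of_le hB'A)
    have hRB : B' ≤ Subgroup.normalizer (R' : Set (Amb A K)) :=
      le_trans (Subgroup.le_centralizer_iff.1 ((hR.1.trans (hC' ▸ inf_le_right)))) (Subgroup.centralizer_le_normalizer _)
    obtain ⟨S', hS', hRS', hS'B⟩ := exists_invariant_sylow_ge hBK hcoB (Or.inl hsolB) R'
      (hR.1.trans (hC' ▸ inf_le_left)) hR.isPGroup hRB
    obtain ⟨c, hc, hcS⟩ := invariant_sylow_conj hBK hcoB (Or.inl hsolB) hS' hP' hS'B (hB'A.trans hP'A)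
    have hcC : c ∈ C' := hC' ▸ hc
    have hR2 := hR.conj (Subgroup.le_normalizer hcC)
    have hle : MulAut.conj c • R' ≤ P' ⊓ C' :=
      le_inf (hcS ▸ Subgroup.pointwise_smul_le_pointwise_smul_iff.2 hRS') hR2.1
    have he := hR2.eq_of_le (hP'.isPGroup.to_le inf_le_left) inf_le_right hle
    have hfix : (fixSet K B).ncard = Nat.card C' := by
      rw [← Nat.card_coe_set_eq, hC']
      refine Nat.card_congr (Equiv.ofBijective (fun z : fixSet K B => (⟨inl' z.1,
        ⟨z.1, trivial, rfl⟩, hB' ▸ (hfixmem B z.1).2 z.2⟩ : (Subgroup.map inl' ⊤ ⊓ Subgroup.centralizer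
          (B' : Set (Amb A K)) : Subgroup _))) ⟨fun a b e => Subtype.ext (hinl (congrArg Subtype.val e)), ?_⟩)
      rintro ⟨_, ⟨z, -, rfl⟩, hz⟩
      exact ⟨⟨z, (hfixmem B z).1 (hB' ▸ hz)⟩, rfl⟩
    rw [hfix, ← hR2.2, he, ← Nat.card_coe_set_eq]
    refine Nat.card_congr (Equiv.ofBijective (fun z : {z : K | z ∈ P ∧ ∀ b ∈ B, b • z = z} => (⟨inl' z.1,
      hmap ▸ ⟨z.1, z.2.1, rfl⟩, hC' ▸ ⟨⟨z.1, trivial, rfl⟩, hB' ▸ (hfixmem B z.1).2 z.2.2⟩⟩ :
        (P' ⊓ C' : Subgroup _))) ⟨fun a b e => Subtype.ext (hinl (congrArg Subtype.val e)), ?_⟩)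
    rintro ⟨y, hy, hyC⟩
    obtain ⟨z, hz, rfl⟩ := (hmap ▸ hy : y ∈ P.map inl')
    rw [hC'] at hyC
    exact ⟨⟨z, hz, (hfixmem B z).1 (hB' ▸ hyC.2)⟩, rfl⟩
  choose P hPinv hPcard hPfix using hsyl
  letI : ∀ r : S, MulDistribMulAction A (P r) := fun r =>
    { smul := fun a z => ⟨a • (z : K), hPinv r a z z.2⟩
      one_smul := fun z => Subtype.ext (one_smul A (z : K))
      mul_smul := fun a b z => Subtype.ext (mul_smul a b (z : K))
      smul_mul := fun a y z => Subtype.ext (smul_mul' a (y : K) z)
      smul_one := fun a => Subtype.ext (smul_one a) }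
  let W := ∀ r : S, P r
  have hpairs : ∃ x y : W, ∀ a : A, a • x = x → a • y = y → a = 1 := by
    have hloc : ∀ r : S, ∃ x y : P r, ∀ a : A, a • x = x → a • y = y → ∀ z : P r, a • z = z := fun r => by
      haveI : Fact (r : ℕ).Prime := ⟨hS r⟩
      exact pair_of_pgroup (IsPGroup.of_card (hPcard r)) hA
        (hcop.coprime_dvd_right (Subgroup.card_subgroup_dvd_card (P r)))
    choose x y hxy using hloc
    refine ⟨x, y, fun a hax hay => hf a fun z => ?_⟩
    let F : Subgroup K :=
      { carrier := {t | a • t = t}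
        one_mem' := smul_one a
        mul_mem' := fun {s t} hs ht => by
          show a • (s * t) = s * t
          rw [smul_mul', hs, ht]
        inv_mem' := fun {t} ht => by
          show a • t⁻¹ = t⁻¹
          rw [smul_inv', ht] }
    have hF : F = ⊤ := by
      refine eq_top_of_forall_sylow_le F fun q hq => ?_
      by_cases hqK : q ∈ (Nat.card K).primeFactors
      · refine ⟨Sylow.ofCard (P ⟨q, hqK⟩) (hPcard ⟨q, hqK⟩), fun t ht => ?_⟩
        rw [Sylow.coe_ofCard] at ht
        exact congrArg Subtype.val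
          (hxy ⟨q, hqK⟩ a (congrFun hax _) (congrFun hay _) ⟨t, ht⟩)
      · obtain ⟨Q⟩ : Nonempty (Sylow q K) := inferInstance
        refine ⟨Q, ?_⟩
        have h0 : Nat.card Q = 1 := by
          rw [Q.card_eq_multiplicity, Finsupp.notMem_support_iff.1 (by rwa [Nat.support_factorization]),
            pow_zero]
        rw [Subgroup.card_eq_one.1 h0]
        exact bot_le
    exact (hF ▸ Subgroup.mem_top z : z ∈ F)
  have hcount : ∀ B : Subgroup A, (fixSet (K × K) B).ncard = (fixSet (W × W) B).ncard := by
    intro B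
    have hprod : ∀ (X : Type v) [MulAction A X], fixSet (X × X) B = fixSet X B ×ˢ fixSet X B := fun X _ => by
      ext ⟨s, t⟩
      simp [fixSet, Prod.ext_iff, forall_and]
    rw [hprod, hprod, Set.ncard_prod, Set.ncard_prod]
    have hW : (fixSet W B).ncard = (fixSet K B).ncard := by
      have e : fixSet W B = Set.univ.pi fun r : S => fixSet (P r) B := by
        ext z
        simp only [fixSet, Set.mem_setOf_eq, Set.mem_univ_pi, funext_iff]
        exact ⟨fun h r _ b hb => congrFun (h b hb) r, fun h b hb => funext fun r => h r trivial b hb⟩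
      rw [e, ← Nat.card_coe_set_eq, Nat.card_congr (Equiv.Set.univPi _), Nat.card_pi]
      simp only [Nat.card_coe_set_eq]
      have e2 : ∀ r : S, (fixSet (P r) B).ncard = (r : ℕ) ^ ((fixSet K B).ncard).factorization r := fun r => by
        rw [← hPfix r B]
        refine Set.ncard_congr (fun z _ => (z : K)) (fun z hz => ⟨z.2, fun b hb => congrArg Subtype.val (hz b hb)⟩)
          (fun s t _ _ e => Subtype.ext e) fun t ht => ⟨⟨t, ht.1⟩, fun b hb => Subtype.ext (ht.2 b hb), rfl⟩
      simp only [e2]
      let FB : Subgroup K :=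
        { carrier := fixSet K B
          one_mem' := fun b _ => smul_one b
          mul_mem' := fun {s t} hs ht b hb => by rw [smul_mul', hs b hb, ht b hb]
          inv_mem' := fun {t} ht b hb => by rw [smul_inv', ht b hb] }
      have hcardFB : Nat.card FB = (fixSet K B).ncard := (Nat.card_coe_set_eq _)
      rw [Finset.prod_coe_sort (Nat.card K).primeFactors fun r => r ^ ((fixSet K B).ncard).factorization r]
      conv_rhs => rw [← Nat.factorization_prod_pow_eq_self (n := (fixSet K B).ncard) (by
        rw [← hcardFB]; exact Nat.card_pos.ne')]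
      refine (Finsupp.prod_of_support_subset _ ?_ (fun r k => r ^ k) fun r _ => pow_zero r).symm
      rw [Nat.support_factorization, ← hcardFB]
      exact Nat.primeFactors_mono (Subgroup.card_subgroup_dvd_card FB) Nat.card_pos.ne'
    rw [hW]
  obtain ⟨x, y, hxy⟩ := hpairs
  have hmem : (x, y) ∈ {z : W × W | MulAction.stabilizer A z = ⊥} :=
    (Subgroup.eq_bot_iff_forall _).2 fun a ha => hxy a (Prod.ext_iff.1 ha).1 (Prod.ext_iff.1 ha).2
  have hpos : 0 < {z : K × K | MulAction.stabilizer A z = ⊥}.ncard := by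
    rw [ncard_stab_eq hcount ⊥]
    exact (Set.ncard_pos).2 ⟨_, hmem⟩
  obtain ⟨⟨s, t⟩, hst⟩ := (Set.ncard_pos).1 hpos
  refine ⟨s, t, fun a has hat => Subgroup.mem_bot.1 ?_⟩
  rw [← (hst : MulAction.stabilizer A (s, t) = ⊥)]
  exact MulAction.mem_stabilizer_iff.2 (Prod.ext has hat)

end Cfsg.Agent.Solv.CopPair
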