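import Cfsg.Agent.Lib.Solv.OddPair.Basic

/-!
Irreducible solvable groups of order prime to three on small binary modules.
-/

set_option autoImplicit false
set_option linter.unusedSectionVars false
set_option linter.style.haveILetI false
set_option maxHeartbeats 800000

namespace Cfsg.Agent.Solv.CopPair

open Cfsg.Agent.Solv.OddPair (cr_of_irred triv_of_pgroup)

universe u v

variable {G : Type u} [Group G] [Finite G] {W : Type v} [AddCommGroup W] [Finite W] [DistribMulAction G W]

/-- Two-groups have nonzero fixed points in even invariant subgroups. -/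
theorem fixed_of_two_group (U : AddSubgroup W) (hU : ∀ g : G, ∀ x ∈ U, g • x ∈ U)
    (h2 : 2 ∣ Nat.card U) (hP : ∀ g : G, ∃ k : ℕ, ∀ x ∈ U, g ^ 2 ^ k • x = x) :
    ∃ x ∈ U, x ≠ 0 ∧ ∀ g : G, g • x = x := by
  haveI : Fact (Nat.Prime 2) := ⟨Nat.prime_two⟩
  let act : G →* Equiv.Perm U :=
    { toFun := fun g =>
        { toFun := fun x => ⟨g • (x : W), hU g x x.2⟩
          invFun := fun x => ⟨g⁻¹ • (x : W), hU g⁻¹ x x.2⟩
          left_inv := fun x => Subtype.ext (inv_smul_smul g (x : W))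
          right_inv := fun x => Subtype.ext (smul_inv_smul g (x : W)) }
      map_one' := Equiv.ext fun x => Subtype.ext (one_smul G (x : W))
      map_mul' := fun g h => Equiv.ext fun x => Subtype.ext (mul_smul g h (x : W)) }
  have hpg : IsPGroup 2 act.range := by
    rintro ⟨_, g, rfl⟩
    obtain ⟨k, hk⟩ := hP g
    refine ⟨k, Subtype.ext ?_⟩
    show (act g) ^ 2 ^ k = 1
    rw [← map_pow]
    exact Equiv.ext fun x => Subtype.ext (hk x x.2)
  obtain ⟨y, hy, hy0⟩ := hpg.exists_fixed_point_of_prime_dvd_card_of_fixed_point (α := U) h2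
    (a := (0 : U)) (fun e => by
      obtain ⟨g, hg⟩ := e.2
      show (e : Equiv.Perm U) 0 = 0
      rw [← hg]
      exact Subtype.ext (smul_zero g))
  refine ⟨y, y.2, fun h => hy0 (Subtype.ext h.symm), fun g => ?_⟩
  have h1 := hy ⟨act g, g, rfl⟩
  exact congrArg Subtype.val h1

/-- The orbit of a cyclic group has size prime to six when the element has. -/
theorem period_coprime {g : G} (hg : (orderOf g).Coprime 6) (x : W) :
    (Function.minimalPeriod (g • ·) x).Coprime 6 :=
  hg.coprime_dvd_left (MulAction.period_dvd_orderOf g x)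

theorem fix_of_period_one {g : G} {x : W} (h : Function.minimalPeriod (g • ·) x = 1) : g • x = x :=
  Function.minimalPeriod_eq_one_iff_isFixedPt.1 h

theorem pow_mod_fix (g : G) (x : W) (i : ℕ) :
    g ^ (i % Function.minimalPeriod (g • ·) x) • x = g ^ i • x := by
  have h : ∀ j, (g • ·)^[j] x = g ^ j • x := fun j => congrFun (smul_iterate g j) x
  rw [← h, ← h, Function.iterate_mod_minimalPeriod_eq]

/-- The orbit of a cyclic group inside an invariant set. -/
theorem period_le {g : G} {x : W} (s : Finset W) (hs : ∀ y ∈ s, g • y ∈ s) (hx : x ∈ s) :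
    ∃ t : Finset W, t ⊆ s ∧ x ∈ t ∧ t.card = Function.minimalPeriod (g • ·) x ∧
      ∀ y, y ∈ t ↔ ∃ i : ℕ, y = g ^ i • x := by
  classical
  obtain ⟨p, hp⟩ : ∃ p, p = Function.minimalPeriod (g • ·) x := ⟨_, rfl⟩
  have hp0 : 0 < p := by
    rw [hp]
    exact Nat.pos_of_ne_zero fun h => by
      have := MulAction.period_dvd_orderOf g x
      rw [show MulAction.period g x = Function.minimalPeriod (g • ·) x from rfl, h, zero_dvd_iff] at this
      exact (orderOf_pos g).ne' this
  have hit : ∀ i, (g • ·)^[i] x = g ^ i • x := fun j => congrFun (smul_iterate g j) x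
  have hmem : ∀ i, g ^ i • x ∈ s := by
    intro i
    induction i with
    | zero => rw [pow_zero, one_smul]; exact hx
    | succ i ih => rw [pow_succ', mul_smul]; exact hs _ ih
  refine ⟨(Finset.range p).image fun i => g ^ i • x, fun y hy => ?_, ?_, ?_, fun y => ⟨fun hy => ?_, ?_⟩⟩
  · obtain ⟨i, -, rfl⟩ := Finset.mem_image.1 hy
    exact hmem i
  · exact Finset.mem_image.2 ⟨0, Finset.mem_range.2 hp0, by rw [pow_zero, one_smul]⟩
  · rw [Finset.card_image_of_injOn, Finset.card_range, hp]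
    intro i hi j hj hij
    simp only [Finset.coe_range, Set.mem_Iio] at hi hj
    rw [hp] at hi hj
    exact Function.iterate_injOn_Iio_minimalPeriod hi hj ((hit i).trans (hij.trans (hit j).symm))
  · obtain ⟨i, -, rfl⟩ := Finset.mem_image.1 hy
    exact ⟨i, rfl⟩
  · rintro ⟨i, rfl⟩
    exact Finset.mem_image.2 ⟨i % p, Finset.mem_range.2 (Nat.mod_lt _ hp0), by rw [hp, pow_mod_fix]⟩

/-- Distinct orbits of a cyclic group are disjoint. -/
theorem orbit_disjoint {g : G} {x y : W} {t t' : Finset W} (ht : ∀ z, z ∈ t ↔ ∃ i : ℕ, z = g ^ i • x)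
    (ht' : ∀ z, z ∈ t' ↔ ∃ i : ℕ, z = g ^ i • y) (hyt : y ∉ t) : Disjoint t t' := by
  rw [Finset.disjoint_left]
  intro z hz hz'
  obtain ⟨i, rfl⟩ := (ht z).1 hz
  obtain ⟨j, hj⟩ := (ht' _).1 hz'
  refine hyt ((ht y).2 ⟨(orderOf g - 1) * j + i, ?_⟩)
  rw [pow_add, mul_smul, hj, ← mul_smul, ← pow_add, ← Nat.succ_mul, Nat.succ_eq_add_one,
    Nat.sub_add_cancel (orderOf_pos g), pow_mul, pow_orderOf_eq_one, one_pow, one_smul]

/-- Elements of order prime to six fix invariant subgroups of order at most four. -/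
theorem fix_small {g : G} (hg : (orderOf g).Coprime 6) (U : AddSubgroup W) (hU : ∀ x ∈ U, g • x ∈ U)
    (h4 : Nat.card U ≤ 4) {x : W} (hx : x ∈ U) : g • x = x := by
  classical
  haveI := Fintype.ofFinite W
  by_cases hx0 : x = 0
  · rw [hx0, smul_zero]
  obtain ⟨t, hts, -, hcard, -⟩ := period_le (g := g) (Finset.univ.filter fun y => y ∈ U ∧ y ≠ 0)
    (fun y hy => by
      simp only [Finset.mem_filter, Finset.mem_univ, true_and] at hy ⊢
      exact ⟨hU y hy.1, fun h => hy.2 ((smul_eq_zero_iff_eq g).1 h)⟩)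
    (x := x) (by simp [hx, hx0])
  have hle : (Finset.univ.filter fun y => y ∈ U ∧ y ≠ 0).card ≤ 3 := by
    have h1 : (Finset.univ.filter fun y => y ∈ U).card = Nat.card U := by
      rw [Nat.card_eq_fintype_card, Fintype.card_subtype]
    have h2 : (Finset.univ.filter fun y => y ∈ U ∧ y ≠ 0) =
        (Finset.univ.filter fun y => y ∈ U).erase 0 := by ext y; simp [and_comm]
    rw [h2, Finset.card_erase_of_mem (by simp), h1]
    omega
  have hc := period_coprime (W := W) hg x
  have hle' := (Finset.card_le_card hts).trans hle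
  rw [hcard] at hle'
  refine fix_of_period_one ?_
  generalize Function.minimalPeriod (g • ·) x = p at hc hle'
  interval_cases p <;> first
    | rfl
    | exact absurd hc (by decide)

/-- Solvable groups of order prime to three fix a nonzero point of small invariant subgroups. -/
theorem fixed_of_card_le_four (h3 : ¬3 ∣ Nat.card G) (U : AddSubgroup W)
    (hU : ∀ g : G, ∀ x ∈ U, g • x ∈ U) (hne : U ≠ ⊥) (h2 : 2 ∣ Nat.card U) (h4 : Nat.card U ≤ 4) :
    ∃ x ∈ U, x ≠ 0 ∧ ∀ g : G, g • x = x := by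
  refine fixed_of_two_group U hU h2 fun g => ?_
  obtain ⟨a, m, hm, he⟩ := Nat.exists_eq_two_pow_mul_odd (orderOf_pos g).ne'
  refine ⟨a, fun x hx => fix_small ?_ U (fun y hy => hU _ y hy) h4 hx⟩
  have hdvd : orderOf g ∣ Nat.card G := orderOf_dvd_natCard g
  have ho : orderOf (g ^ 2 ^ a) = m := by
    rw [orderOf_pow' g (pow_ne_zero a two_ne_zero), he, Nat.gcd_mul_right_left,
      Nat.mul_div_cancel_left m (by positivity)]
  rw [ho, show 6 = 2 * 3 from rfl]
  refine Nat.Coprime.mul_right (Nat.coprime_two_right.2 hm) ?_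
  rw [Nat.coprime_comm, Nat.Prime.coprime_iff_not_dvd Nat.prime_three]
  exact fun h => h3 ((dvd_trans h (Dvd.intro_left _ he.symm)).trans hdvd)

section

variable (hf : ∀ g : G, (∀ x : W, g • x = x) → g = 1) (h3 : ¬3 ∣ Nat.card G) [hsol : Group.IsSolvable G]
  (h2 : ∀ x : W, x + x = 0) (hirr : ∀ U : AddSubgroup W, (∀ g : G, ∀ x ∈ U, g • x ∈ U) → U = ⊥ ∨ U = ⊤)

include hf h3 hsol h2 hirr

/-- A normal abelian subgroup of order prime to six without fixed points. -/
theorem exists_fpf {k : ℕ} (hW : Nat.card W = 2 ^ k) (hk : 2 ≤ k) :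
    ∃ N : Subgroup G, N ≠ ⊥ ∧ (∀ a ∈ N, ∀ b ∈ N, a * b = b * a) ∧ N.Normal ∧
      (∀ a ∈ N, (orderOf a).Coprime 6) ∧
      ∀ x : W, (∀ a ∈ N, a • x = x) → x = 0 := by
  classical
  haveI : Fact (Nat.Prime 2) := ⟨Nat.prime_two⟩
  have hG : ∃ g : G, g ≠ 1 := by
    by_contra h
    push Not at h
    haveI : Nontrivial W := Finite.one_lt_card_iff_nontrivial.1 (by
      rw [hW]; exact Nat.one_lt_two_pow (by omega))
    obtain ⟨x, hx⟩ := exists_ne (0 : W)
    rcases hirr (AddSubgroup.zmultiples x) (fun g y hy => by rw [h g, one_smul]; exact hy) with h1 | h1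
    · exact hx (AddSubgroup.zmultiples_eq_bot.1 h1)
    · have hc : Nat.card (AddSubgroup.zmultiples x) = Nat.card W := by rw [h1, AddSubgroup.card_top]
      rw [Nat.card_zmultiples, hW] at hc
      have : addOrderOf x ≤ 2 := addOrderOf_le_of_nsmul_eq_zero two_pos (by rw [two_nsmul]; exact h2 x)
      have : 2 ^ 2 ≤ 2 ^ k := Nat.pow_le_pow_right two_pos hk
      omega
  obtain ⟨g0, hg0⟩ := hG
  -- the last nontrivial term of the derived series
  obtain ⟨r, hr⟩ := (Group.isSolvable_def G).1 hsol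
  have hex : ∃ i, derivedSeries G i = ⊥ := ⟨r, hr⟩
  have h0 : Nat.find hex ≠ 0 := fun h => hg0 (by
    have := Nat.find_spec hex
    rw [h, derivedSeries_zero] at this
    exact Subgroup.mem_bot.1 (this ▸ Subgroup.mem_top g0))
  obtain ⟨i, hi⟩ := Nat.exists_eq_succ_of_ne_zero h0
  obtain ⟨N, hN⟩ : ∃ N, N = derivedSeries G i := ⟨_, rfl⟩
  have hne : N ≠ ⊥ := hN ▸ Nat.find_min hex (by omega)
  haveI hNn : N.Normal := hN ▸ derivedSeries_normal G i
  have hc : ∀ a ∈ N, ∀ b ∈ N, a * b = b * a := by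
    intro a ha b hb
    have h := Nat.find_spec hex
    rw [hi, derivedSeries_succ, ← hN, Subgroup.commutator_eq_bot_iff_le_centralizer] at h
    exact Subgroup.mem_centralizer_iff.1 (h hb) a ha
  have hodd : ∀ a ∈ N, a * a = 1 → a = 1 := by
    let P : Subgroup G :=
      { carrier := {a | a ∈ N ∧ a * a = 1}
        one_mem' := ⟨one_mem N, one_mul 1⟩
        mul_mem' := fun {a b} ha hb => ⟨mul_mem ha.1 hb.1, by
          rw [mul_assoc, ← mul_assoc b a b, hc b hb.1 a ha.1, mul_assoc a b b, hb.2, mul_one, ha.2]⟩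
        inv_mem' := fun {a} ha => ⟨inv_mem ha.1, by rw [← mul_inv_rev, ha.2, inv_one]⟩ }
    have hPn : P.Normal := ⟨fun a ha g => ⟨hNn.conj_mem a ha.1 g, by
      rw [show g * a * g⁻¹ * (g * a * g⁻¹) = g * (a * a) * g⁻¹ by group, ha.2]; group⟩⟩
    intro a ha haa
    exact hf a fun x => triv_of_pgroup (cr_of_irred hirr) hW hPn
      (fun b => ⟨1, Subtype.ext (by rw [pow_one, SubgroupClass.coe_pow, pow_two]; exact b.2.2)⟩) (⟨ha, haa⟩ : a ∈ P) x
  refine ⟨N, hne, hc, hNn, fun a ha => ?_, fun x hx => ?_⟩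
  · rw [show 6 = 2 * 3 from rfl]
    refine Nat.Coprime.mul_right ?_ ?_
    · rw [Nat.coprime_comm, Nat.Prime.coprime_iff_not_dvd Nat.prime_two]
      rintro ⟨m, hm⟩
      have h1 : a ^ m = 1 := hodd _ (pow_mem ha m) (by rw [← pow_add, ← two_mul, ← hm, pow_orderOf_eq_one])
      have h2 := Nat.le_of_dvd (Nat.pos_of_ne_zero fun h => (orderOf_pos a).ne' (by rw [hm, h, mul_zero]))
        (orderOf_dvd_of_pow_eq_one h1)
      have := orderOf_pos a
      omega
    · rw [Nat.coprime_comm, Nat.Prime.coprime_iff_not_dvd Nat.prime_three]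
      exact fun h => h3 (h.trans (orderOf_dvd_natCard a))
  · by_contra hx0
    let F : AddSubgroup W :=
      { carrier := {y | ∀ a ∈ N, a • y = y}
        zero_mem' := fun a _ => smul_zero a
        add_mem' := fun {p q} hp hq a ha => by rw [smul_add, hp a ha, hq a ha]
        neg_mem' := fun {p} hp a ha => by rw [smul_neg, hp a ha] }
    rcases hirr F (fun g y hy a ha => by
      have := hy (g⁻¹ * a * g) (by simpa using hNn.conj_mem a ha g⁻¹)
      rwa [mul_smul, mul_smul, inv_smul_eq_iff] at this) with h1 | h1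
    · exact hx0 (AddSubgroup.mem_bot.1 (h1 ▸ (hx : x ∈ F)))
    · obtain ⟨⟨a, ha⟩, ha1⟩ := Subgroup.ne_bot_iff_exists_ne_one.1 hne
      exact ha1 (Subtype.ext (hf a fun y => (h1 ▸ AddSubgroup.mem_top y : y ∈ F) a ha))

/-- Fixed and moved parts of an element of such a subgroup. -/
theorem fpf_parts {N : Subgroup G} (hc : ∀ a ∈ N, ∀ b ∈ N, a * b = b * a)
    (hord : ∀ a ∈ N, (orderOf a).Coprime 6) (hfp : ∀ x : W, (∀ a ∈ N, a • x = x) → x = 0)
    {n : G} (hn : n ∈ N) (hn1 : n ≠ 1) :
    ∃ C D : AddSubgroup W, (∀ x, x ∈ C ↔ n • x = x) ∧ (∀ x, x ∈ D ↔ ∃ y, n • y + y = x) ∧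
      Nat.card C * Nat.card D = Nat.card W ∧ (Nat.card C ≤ 4 → C = ⊥) ∧ 4 < Nat.card D ∧
      (∀ x ∈ D, x ∈ C → x = 0) := by
  classical
  have hneg : ∀ x : W, -x = x := fun x => neg_eq_of_add_eq_zero_left (h2 x)
  let f : W →+ W := AddMonoidHom.mk' (fun y => n • y + y) fun a b => by rw [smul_add]; abel
  have hker : ∀ x, x ∈ f.ker ↔ n • x = x := fun x => by
    rw [AddMonoidHom.mem_ker]
    show n • x + x = 0 ↔ _
    rw [add_eq_zero_iff_eq_neg, hneg]
  refine ⟨f.ker, f.range, hker, fun x => Iff.rfl, ?_, ?_, ?_, ?_⟩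
  · rw [← Nat.card_congr (QuotientAddGroup.quotientKerEquivRange f).toEquiv, mul_comm,
      ← AddSubgroup.card_eq_card_quotient_mul_card_addSubgroup]
  · intro h4
    refine (AddSubgroup.eq_bot_iff_forall _).2 fun x hx => hfp x fun a ha => ?_
    refine fix_small (hord a ha) f.ker (fun y hy => ?_) h4 hx
    rw [hker] at hy ⊢
    rw [← mul_smul, hc n hn a ha, mul_smul, hy]
  · by_contra hle
    push Not at hle
    refine hn1 ?_
    have h1 : n * n = 1 := hf _ fun y => by
      have h := fix_small (hord n hn) f.range (fun z hz => by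
        obtain ⟨w, rfl⟩ := hz
        exact ⟨n • w, by show n • n • w + n • w = n • (n • w + w); rw [smul_add]⟩) hle
        (x := n • y + y) ⟨y, rfl⟩
      rw [smul_add, add_comm (n • y) y] at h
      rw [mul_smul]
      exact add_right_cancel h
    have h2' : orderOf n ∣ 2 := orderOf_dvd_of_pow_eq_one (by rw [pow_two, h1])
    rcases (Nat.dvd_prime Nat.prime_two).1 h2' with h | h
    · exact orderOf_eq_one_iff.1 h
    · have := hord n hn; rw [h] at this; exact absurd this (by decide)
  · rintro x ⟨y, rfl⟩ hx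
    have hx' := (hker _).1 hx
    obtain ⟨t, ht⟩ : ∃ t, t = n • y + y := ⟨_, rfl⟩
    change n • (n • y + y) = n • y + y at hx'
    show n • y + y = 0
    rw [← ht] at hx' ⊢
    have hny : n • y = y + t := by rw [ht, add_left_comm, h2, add_zero]
    have hit : ∀ j : ℕ, n ^ j • y = y + j • t := by
      intro j
      induction j with
      | zero => rw [pow_zero, one_smul, zero_nsmul, add_zero]
      | succ j ih =>
        rw [pow_succ', mul_smul, ih, smul_add, hny, smul_comm, hx', succ_nsmul]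
        abel
    have h := hit (orderOf n)
    rw [pow_orderOf_eq_one, one_smul, left_eq_add] at h
    have hodd : Odd (orderOf n) := Nat.coprime_two_right.1 ((hord n hn).coprime_dvd_right (by norm_num))
    obtain ⟨m, hm⟩ := hodd
    rwa [hm, add_nsmul, mul_comm, mul_nsmul', two_nsmul, h2, nsmul_zero, zero_add, one_nsmul] at h

/-- No involution with displacement of order at most four. -/
theorem no_small_disp (hW : Nat.card W = 64) {g : G} (hg : g * g = 1) (U : AddSubgroup W)
    (hU4 : Nat.card U ≤ 4) (hU : ∀ x, g • x + x ∈ U) : g = 1 := by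
  classical
  haveI : Fact (Nat.Prime 2) := ⟨Nat.prime_two⟩
  obtain ⟨N, -, hc, hNn, hord, hfp⟩ := exists_fpf hf h3 h2 hirr (k := 6) hW (by norm_num)
  have hneg : ∀ x : W, -x = x := fun x => neg_eq_of_add_eq_zero_left (h2 x)
  by_cases hcom : ∀ m ∈ N, g * m = m * g
  · refine hf g fun x => ?_
    let f : W →+ W := AddMonoidHom.mk' (fun y => g • y + y) fun a b => by rw [smul_add]; abel
    have hle : Nat.card f.range ≤ 4 := le_trans (AddSubgroup.card_le_of_le (by
      rintro _ ⟨y, rfl⟩; exact hU y)) hU4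
    have h0 : g • x + x = 0 := hfp _ fun m hm => fix_small (hord m hm) f.range (by
      rintro _ ⟨y, rfl⟩
      exact ⟨m • y, by show g • m • y + m • y = m • (g • y + y); rw [smul_add, ← mul_smul, hcom m hm, mul_smul]⟩)
      hle ⟨x, rfl⟩
    rw [add_eq_zero_iff_eq_neg, hneg] at h0
    exact h0
  push Not at hcom
  obtain ⟨m, hm, hgm⟩ := hcom
  have hginv : g⁻¹ = g := inv_eq_of_mul_eq_one_right hg
  obtain ⟨n, hnd⟩ : ∃ n, n = g * m * g * m⁻¹ := ⟨_, rfl⟩
  have hnN : n ∈ N := by
    have h1 := hNn.conj_mem m hm g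
    rw [hginv] at h1
    rw [hnd]
    exact mul_mem h1 (inv_mem hm)
  have hn1 : n ≠ 1 := fun h => hgm (by
    rw [hnd, mul_inv_eq_one] at h
    calc g * m = g * m * (g * g) := by rw [hg, mul_one]
      _ = g * m * g * g := by group
      _ = m * g := by rw [h])
  have hgn : g * n * g = n⁻¹ := by
    rw [hnd, mul_inv_rev, mul_inv_rev, mul_inv_rev, inv_inv, hginv]
    calc g * (g * m * g * m⁻¹) * g = g * g * (m * g * m⁻¹ * g) := by group
      _ = m * (g * (m⁻¹ * g)) := by rw [hg]; group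
  obtain ⟨C, D, hC, hD, hCD, hC4, hD4, hdisj⟩ := fpf_parts hf h3 h2 hirr hc hord hfp hnN hn1
  -- the moved part is small
  have hD16 : Nat.card D ≤ 16 := by
    have hsub : ∀ x ∈ D, ∃ p : U × U, x = (p.1 : W) + m • (p.2 : W) := by
      intro x hx
      obtain ⟨y, rfl⟩ := (hD x).1 hx
      obtain ⟨z, hz⟩ : ∃ z, z = m⁻¹ • y := ⟨_, rfl⟩
      have hy : y = m • z := by rw [hz, smul_inv_smul]
      refine ⟨(⟨_, hU (m • g • z)⟩, ⟨_, hU z⟩), ?_⟩
      show n • y + y = g • m • g • z + m • g • z + m • (g • z + z)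
      have : n • y = g • m • g • z := by rw [hnd, mul_smul, mul_smul, mul_smul, hz]
      rw [this, smul_add, ← hy]
      calc g • m • g • z + y = g • m • g • z + (m • g • z + m • g • z) + y := by rw [h2, add_zero]
        _ = _ := by abel
    choose p hp using fun x : D => hsub x x.2
    have h1 := Nat.card_le_card_of_injective p fun a b h => Subtype.ext (by rw [hp a, hp b, h])
    rw [Nat.card_prod] at h1
    exact h1.trans (Nat.mul_le_mul hU4 hU4)
  rw [hW] at hCD
  have hD8 : Nat.card D = 8 := by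
    have hdvd : Nat.card D ∣ 2 ^ 6 := Dvd.intro_left _ hCD
    obtain ⟨i, hi, he⟩ := (Nat.dvd_prime_pow Nat.prime_two).1 hdvd
    rw [he] at hD4 hD16 hCD
    have hi3 : 2 < i := (Nat.pow_lt_pow_iff_right (a := 2) (by norm_num)).1 (by omega)
    have hi4 : i ≤ 4 := (Nat.pow_le_pow_iff_right (a := 2) (by norm_num)).1 (by omega)
    interval_cases i
    · exact he
    · exfalso
      have hC' : Nat.card C = 4 := by norm_num at hCD ⊢; omega
      have := hC4 hC'.le
      rw [this, AddSubgroup.card_bot] at hC'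
      omega
  -- the element acts on the moved part
  have hDn : ∀ x ∈ D, n • x ∈ D := fun x hx => by
    obtain ⟨y, rfl⟩ := (hD x).1 hx
    exact (hD _).2 ⟨n • y, by rw [smul_add]⟩
  have hDg : ∀ x ∈ D, g • x ∈ D := fun x hx => by
    obtain ⟨y, rfl⟩ := (hD x).1 hx
    refine (hD _).2 ⟨n⁻¹ • g • y, ?_⟩
    have e : g • n • y = n⁻¹ • g • y := by
      rw [← hgn, mul_smul, mul_smul, ← mul_smul g g y, hg, one_smul]
    rw [smul_inv_smul, smul_add, e, add_comm]
  obtain ⟨x, hxD, hx0, hgx⟩ : ∃ x ∈ D, x ≠ 0 ∧ g • x = x := by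
    obtain ⟨x, hxD, hx0, hgx⟩ := fixed_of_two_group (G := Subgroup.zpowers g) D
      (fun a z hz => by
        obtain ⟨i, hi⟩ := Subgroup.mem_zpowers_iff.1 a.2
        have : (a : G) = 1 ∨ (a : G) = g := by
          rcases Int.even_or_odd i with ⟨j, rfl⟩ | ⟨j, rfl⟩
          · left; rw [← hi, ← two_mul, zpow_mul, zpow_two, hg, one_zpow]
          · right; rw [← hi, zpow_add, zpow_mul, zpow_two, hg, one_zpow, one_mul, zpow_one]
        show (a : G) • z ∈ D
        rcases this with e | e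
        · rw [e, one_smul]; exact hz
        · rw [e]; exact hDg z hz)
      (by rw [hD8]; norm_num)
      (fun a => ⟨1, fun z _ => by
        obtain ⟨i, hi⟩ := Subgroup.mem_zpowers_iff.1 a.2
        show ((a : G) ^ 2 ^ 1) • z = z
        rw [← hi, pow_one, ← zpow_natCast, ← zpow_mul, mul_comm, zpow_mul, Nat.cast_ofNat, zpow_two, hg,
          one_zpow, one_smul]⟩)
    exact ⟨x, hxD, hx0, hgx ⟨g, Subgroup.mem_zpowers g⟩⟩
  haveI := Fintype.ofFinite W
  let s : Finset W := Finset.univ.filter fun y => y ∈ D ∧ y ≠ 0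
  have hs : s.card = 7 := by
    have h1 : (Finset.univ.filter fun y => y ∈ D).card = Nat.card D := by
      rw [Nat.card_eq_fintype_card, Fintype.card_subtype]
    have h2 : s = (Finset.univ.filter fun y => y ∈ D).erase 0 := by ext y; simp [s, and_comm]
    rw [h2, Finset.card_erase_of_mem (by simp), h1, hD8]
  have hsn : ∀ y ∈ s, n • y ∈ s := fun y hy => by
    simp only [s, Finset.mem_filter, Finset.mem_univ, true_and] at hy ⊢
    exact ⟨hDn y hy.1, fun h => hy.2 ((smul_eq_zero_iff_eq n).1 h)⟩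
  have hnofix : ∀ y ∈ s, n • y ≠ y := fun y hy h => by
    simp only [s, Finset.mem_filter, Finset.mem_univ, true_and] at hy
    exact hy.2 (hdisj y hy.1 ((hC y).2 h))
  have hper : ∀ y ∈ s, ∃ t : Finset W, t ⊆ s ∧ y ∈ t ∧ t.card = Function.minimalPeriod (n • ·) y ∧
      5 ≤ t.card ∧ ∀ z, z ∈ t ↔ ∃ i : ℕ, z = n ^ i • y := by
    intro y hy
    obtain ⟨t, ht1, ht2, ht3, ht4⟩ := period_le (g := n) s hsn hy
    refine ⟨t, ht1, ht2, ht3, ?_, ht4⟩
    have hco := period_coprime (W := W) (hord n hnN) y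
    have hne1 : Function.minimalPeriod (n • ·) y ≠ 1 := fun h => hnofix y hy (fix_of_period_one h)
    have hne0 : 0 < t.card := Finset.card_pos.2 ⟨y, ht2⟩
    rw [ht3] at hne0 ⊢
    generalize Function.minimalPeriod (n • ·) y = p at hco hne1 hne0
    by_contra hlt
    push Not at hlt
    interval_cases p <;> first
      | omega
      | exact absurd hco (by decide)
  have hxs : x ∈ s := by simp [s, hxD, hx0]
  obtain ⟨t, hts, -, htc, ht5, htp⟩ := hper x hxs
  have hall : t = s := by
    by_contra hne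
    obtain ⟨y, hy, hyt⟩ := Finset.exists_of_ssubset (lt_of_le_of_ne hts hne)
    obtain ⟨t', ht's, -, -, ht5', htp'⟩ := hper y hy
    have hdis := orbit_disjoint htp htp' hyt
    have := Finset.card_le_card (Finset.union_subset hts ht's)
    rw [Finset.card_union_of_disjoint hdis] at this
    omega
  have hp7 : Function.minimalPeriod (n • ·) x = 7 := by rw [← htc, hall, hs]
  have h7 : ∀ i j : ℕ, n ^ i • x = n ^ j • x → i % 7 = j % 7 := fun i j h => by
    have hit : ∀ l, (n • ·)^[l] x = n ^ l • x := fun l => congrFun (smul_iterate n l) x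
    have e1 : (n • ·)^[i % 7] x = (n • ·)^[j % 7] x := by
      rw [← hp7, Function.iterate_mod_minimalPeriod_eq, Function.iterate_mod_minimalPeriod_eq, hit, hit]
      exact h
    exact Function.iterate_injOn_Iio_minimalPeriod (f := (n • ·)) (x := x)
      (by rw [hp7]; exact Nat.mod_lt _ (by norm_num)) (by rw [hp7]; exact Nat.mod_lt _ (by norm_num)) e1
  have hm7 : ∀ i : ℕ, n ^ i • x = n ^ (i % 7) • x := fun i => by
    rw [← hp7, pow_mod_fix]
  obtain ⟨k, hk⟩ : ∃ k : ℕ, n • x + x = n ^ k • x := by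
    refine (htp _).1 (hall ▸ ?_)
    simp only [s, Finset.mem_filter, Finset.mem_univ, true_and]
    refine ⟨D.add_mem (hDn x hxD) hxD, fun h => hnofix x hxs ?_⟩
    rwa [add_eq_zero_iff_eq_neg, hneg] at h
  -- the inverting involution
  have hflip : ∀ i : ℕ, g • n ^ i • x = n⁻¹ ^ i • x := by
    intro i
    induction i with
    | zero => rw [pow_zero, pow_zero, one_smul, hgx]
    | succ i ih =>
      rw [pow_succ', pow_succ', mul_smul, mul_smul, ← ih]
      conv_rhs => rw [← hgn]
      rw [mul_smul, mul_smul, ← mul_smul g g, hg, one_smul]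
  have hk' : n ^ 1 • x + n ^ 0 • x = n ^ k • x := by rw [pow_one, pow_zero, one_smul]; exact hk
  have hA := congrArg (fun z => n ^ (k + 1) • g • z) hk'
  simp only [smul_add, hflip] at hA
  have e7 : ∀ i j : ℕ, j ≤ i → n ^ i • n⁻¹ ^ j • x = n ^ (i - j) • x := fun i j hij => by
    rw [← mul_smul, ← Nat.sub_add_cancel hij, pow_add, mul_assoc, inv_pow, mul_inv_cancel,
      mul_one, Nat.add_sub_cancel]
  rw [e7 _ _ (by omega), e7 _ _ (by omega), e7 _ _ (by omega), Nat.add_sub_cancel,
    Nat.sub_zero, Nat.add_sub_cancel_left, pow_one] at hA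
  -- hence twice the exponent is one
  have hB : n ^ k • x + n ^ (k + 1) • x = n ^ (2 * k) • x := by
    have := congrArg (fun z => n ^ k • z) hk'
    simp only [smul_add, ← mul_smul, ← pow_add] at this
    rwa [add_comm (n ^ (k + 1) • x), add_zero, ← two_mul] at this
  rw [hB] at hA
  have hk4 := h7 (2 * k) 1 (by rw [pow_one]; exact hA)
  have hk4' : k % 7 = 4 := by omega
  rw [hm7 k, hk4'] at hk
  have hC' := congrArg (fun z => n ^ 3 • z) hk
  simp only [smul_add, ← mul_smul, ← pow_succ, ← pow_add] at hC'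
  rw [show n ^ (3 + 4) • x = x by rw [hm7, show (3 + 4) % 7 = 0 from rfl, pow_zero, one_smul]] at hC'
  have h31 : n ^ 3 • x = n ^ 1 • x := by
    rw [pow_one]
    calc n ^ 3 • x = n ^ 4 • x + n ^ 3 • x + n ^ 4 • x := by rw [add_comm (n ^ 4 • x), add_assoc, h2, add_zero]
      _ = x + (n • x + x) := by rw [hC', hk]
      _ = n • x := by rw [add_left_comm, h2, add_zero]
  exact absurd (h7 3 1 h31) (by norm_num)

/-- No invariant set of six nonzero points in dimension four. -/
theorem no_six (hW : Nat.card W = 16) (s : Finset W) (hs : ∀ g : G, ∀ y ∈ s, g • y ∈ s) (h0 : (0 : W) ∉ s)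
    (h6 : s.card = 6) : False := by
  classical
  obtain ⟨N, hNne, hc, -, hord, hfp⟩ := exists_fpf hf h3 h2 hirr (k := 4) hW (by norm_num)
  obtain ⟨⟨n, hnN⟩, hn1⟩ := Subgroup.ne_bot_iff_exists_ne_one.1 hNne
  replace hn1 : n ≠ 1 := fun h => hn1 (Subtype.ext h)
  obtain ⟨C, D, hC, -, hCD, hC4, hD4, -⟩ := fpf_parts hf h3 h2 hirr hc hord hfp hnN hn1
  have hC0 : C = ⊥ := hC4 (by
    rw [hW] at hCD
    by_contra hlt
    push Not at hlt
    have := Nat.mul_le_mul (Nat.succ_le_of_lt hlt) (Nat.succ_le_of_lt hD4)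
    omega)
  have hper : ∀ y ∈ s, ∃ t : Finset W, t ⊆ s ∧ y ∈ t ∧ t.card = Function.minimalPeriod (n • ·) y ∧
      5 ≤ t.card ∧ ∀ z, z ∈ t ↔ ∃ i : ℕ, z = n ^ i • y := by
    intro y hy
    obtain ⟨t, ht1, ht2, ht3, ht4⟩ := period_le (g := n) s (hs n) hy
    refine ⟨t, ht1, ht2, ht3, ?_, ht4⟩
    have hco := period_coprime (W := W) (hord n hnN) y
    have hne1 : Function.minimalPeriod (n • ·) y ≠ 1 := fun h => h0 (by
      have := (hC y).2 (fix_of_period_one h)
      rw [hC0, AddSubgroup.mem_bot] at this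
      exact this ▸ hy)
    have hne0 : 0 < t.card := Finset.card_pos.2 ⟨y, ht2⟩
    rw [ht3] at hne0 ⊢
    generalize Function.minimalPeriod (n • ·) y = p at hco hne1 hne0
    by_contra hlt
    push Not at hlt
    interval_cases p <;> first
      | omega
      | exact absurd hco (by decide)
  obtain ⟨x, hx⟩ := Finset.card_pos.1 (h6.symm ▸ (by norm_num : 0 < 6))
  obtain ⟨t, hts, -, htc, ht5, htp⟩ := hper x hx
  have hne : t ≠ s := fun h => by
    have hco := period_coprime (W := W) (hord n hnN) x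
    rw [← htc, h, h6] at hco
    exact absurd hco (by decide)
  obtain ⟨y, hy, hyt⟩ := Finset.exists_of_ssubset (lt_of_le_of_ne hts hne)
  obtain ⟨t', ht's, -, -, ht5', htp'⟩ := hper y hy
  have hdis := orbit_disjoint htp htp' hyt
  have := Finset.card_le_card (Finset.union_subset hts ht's)
  rw [Finset.card_union_of_disjoint hdis] at this
  omega

end

end Cfsg.Agent.Solv.CopPair
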