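import Mathlib

/-!
Projective layers of linear maps and their splitting along an eigenvalue.
-/

set_option autoImplicit false
set_option linter.unusedSectionVars false
set_option linter.style.haveILetI false

namespace Cfsg.Agent.Solv.CopPair

universe u v

variable {K : Type u} [Field K] {V : Type v} [AddCommGroup V] [Module K V]

/-- A linear map which is a scalar. -/
def IsSc (a : V ≃ₗ[K] V) : Prop := ∃ c : K, ∀ x, a x = c • x

/-- A group of linear maps, abelian modulo the scalars it contains, with centre the scalars and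
squarefree exponent modulo scalars. -/
structure Layer (E : Subgroup (V ≃ₗ[K] V)) : Prop where
  scalar : ∀ c : K, c ≠ 0 → ∃ a ∈ E, ∀ x, a x = c • x
  comm : ∀ a ∈ E, ∀ b ∈ E, ∃ c : K, ∀ x, a (b x) = c • b (a x)
  center : ∀ a ∈ E, (∀ b ∈ E, ∀ x, a (b x) = b (a x)) → IsSc a
  expo : ∃ m : ℕ, Squarefree m ∧ ∀ a ∈ E, IsSc (a ^ m)

/-- An additive map respecting the scalars up to a change of scalar. -/
def Semi (K : Type u) {V : Type v} [Field K] [AddCommGroup V] [Module K V] (g : V ≃+ V) : Prop :=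
  ∀ k : K, ∃ k' : K, ∀ x, g (k • x) = k' • g x

/-- An additive map normalising the layer. -/
def Norm (g : V ≃+ V) (E : Subgroup (V ≃ₗ[K] V)) : Prop :=
  ∀ a ∈ E, ∃ a' ∈ E, ∀ x, g (a x) = a' (g x)

/-- An additive map commuting with scalars and layer. -/
def Fixes (g : V ≃+ V) (E : Subgroup (V ≃ₗ[K] V)) : Prop :=
  (∀ (k : K) x, g (k • x) = k • g x) ∧ ∀ a ∈ E, ∀ x, g (a x) = a (g x)

/-- Two vectors whose stabiliser in the semilinear normaliser centralises the layer. -/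
def Stab (E : Subgroup (V ≃ₗ[K] V)) (u w : V) : Prop :=
  ∀ g : V ≃+ V, Semi K g → Norm g E → g u = u → g w = w → Fixes g E

/-- Only the scalars have the vector as an eigenvector. -/
def NE (E : Subgroup (V ≃ₗ[K] V)) (u : V) : Prop :=
  ∀ a ∈ E, ∀ μ : K, a u = μ • u → IsSc a

/-- The pairs used in the recursion. -/
def Good (E : Subgroup (V ≃ₗ[K] V)) (u w : V) : Prop :=
  u ≠ 0 ∧ w ≠ 0 ∧ NE E u ∧ (∀ a ∈ E, a u ≠ w) ∧ Stab E u w

theorem Stab.symm {E : Subgroup (V ≃ₗ[K] V)} {u w : V} (h : Stab E u w) : Stab E w u :=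
  fun g h1 h2 h3 h4 => h g h1 h2 h4 h3

theorem eq_smul_of_smul {c d : K} {x : V} (hx : x ≠ 0) (h : c • x = d • x) : c = d :=
  smul_left_injective K hx h

/-- An element of the layer with a chosen partner not commuting with it. -/
structure Split (E : Subgroup (V ≃ₗ[K] V)) (z e : V ≃ₗ[K] V) (l : ℕ) (ω : K) : Prop where
  hz : z ∈ E
  he : e ∈ E
  hl : l.Prime
  root : IsPrimitiveRoot ω l
  hze : ∀ x, z (e x) = ω • e (z x)
  hzl : ∀ x, (z ^ l) x = x

/-- The fixed space. -/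
def X0 (z : V ≃ₗ[K] V) : Submodule K V where
  carrier := {x | z x = x}
  zero_mem' := map_zero z
  add_mem' := fun {a b} (ha : z a = a) (hb : z b = b) => show z (a + b) = a + b by rw [map_add, ha, hb]
  smul_mem' := fun c a (ha : z a = a) => show z (c • a) = c • a by rw [map_smul, ha]

theorem mem_X0 {z : V ≃ₗ[K] V} {x : V} : x ∈ X0 z ↔ z x = x := Iff.rfl

/-- The elements of the layer commuting with `z`. -/
def cz (E : Subgroup (V ≃ₗ[K] V)) (z : V ≃ₗ[K] V) : Subgroup (V ≃ₗ[K] V) where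
  carrier := {a | a ∈ E ∧ ∀ x, z (a x) = a (z x)}
  one_mem' := ⟨one_mem E, fun x => rfl⟩
  mul_mem' := fun {a b} ⟨ha, ha'⟩ ⟨hb, hb'⟩ => ⟨mul_mem ha hb, fun x => by
    show z (a (b x)) = a (b (z x))
    rw [ha', hb']⟩
  inv_mem' := fun {a} ⟨ha, ha'⟩ => ⟨inv_mem ha, fun x => by
    show z (a.symm x) = a.symm (z x)
    refine a.injective ?_
    rw [← ha', a.apply_symm_apply, a.apply_symm_apply]⟩

/-- Restriction to the fixed space. -/
def restr (E : Subgroup (V ≃ₗ[K] V)) (z : V ≃ₗ[K] V) : cz E z →* (X0 z ≃ₗ[K] X0 z) where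
  toFun a :=
    { toFun := fun x => ⟨(a : V ≃ₗ[K] V) x, by
        rw [mem_X0, a.2.2, (mem_X0.1 x.2)]⟩
      map_add' := fun x y => Subtype.ext (map_add (a : V ≃ₗ[K] V) (x : V) y)
      map_smul' := fun c x => Subtype.ext (map_smul (a : V ≃ₗ[K] V) c (x : V))
      invFun := fun x => ⟨(a⁻¹ : cz E z).1 x, by
        rw [mem_X0, (a⁻¹).2.2, (mem_X0.1 x.2)]⟩
      left_inv := fun x => Subtype.ext ((a : V ≃ₗ[K] V).symm_apply_apply x)
      right_inv := fun x => Subtype.ext ((a : V ≃ₗ[K] V).apply_symm_apply x) }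
  map_one' := rfl
  map_mul' _ _ := rfl

/-- The layer on the fixed space. -/
def sub0 (E : Subgroup (V ≃ₗ[K] V)) (z : V ≃ₗ[K] V) : Subgroup (X0 z ≃ₗ[K] X0 z) := (restr E z).range

theorem restr_apply {E : Subgroup (V ≃ₗ[K] V)} {z : V ≃ₗ[K] V} (a : cz E z) (x : X0 z) :
    ((restr E z a x : X0 z) : V) = (a : V ≃ₗ[K] V) x := rfl

theorem mem_sub0 {E : Subgroup (V ≃ₗ[K] V)} {z a : V ≃ₗ[K] V} (ha : a ∈ cz E z) :
    restr E z ⟨a, ha⟩ ∈ sub0 E z := ⟨_, rfl⟩

theorem sub0_cases {E : Subgroup (V ≃ₗ[K] V)} {z : V ≃ₗ[K] V} {a : X0 z ≃ₗ[K] X0 z}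
    (ha : a ∈ sub0 E z) : ∃ b ∈ cz E z, ∀ x : X0 z, ((a x : X0 z) : V) = b x := by
  obtain ⟨⟨b, hb⟩, rfl⟩ := ha
  exact ⟨b, hb, fun x => rfl⟩

theorem pow_apply_eigen (z : V ≃ₗ[K] V) {x : V} {μ : K} (h : z x = μ • x) :
    ∀ n : ℕ, (z ^ n) x = μ ^ n • x
  | 0 => by rw [pow_zero, pow_zero, one_smul]; rfl
  | n + 1 => by
    rw [pow_succ', pow_succ']
    show z ((z ^ n) x) = _
    rw [pow_apply_eigen z h n, map_smul, h, smul_smul, mul_comm]

theorem pow_comm_scal {z a : V ≃ₗ[K] V} {c : K} (h : ∀ x, z (a x) = c • a (z x)) :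
    ∀ (n : ℕ) x, (z ^ n) (a x) = c ^ n • a ((z ^ n) x)
  | 0 => fun x => by rw [pow_zero, pow_zero, one_smul]; rfl
  | n + 1 => fun x => by
    rw [pow_succ', pow_succ']
    show z ((z ^ n) (a x)) = _
    rw [pow_comm_scal h n x, map_smul, h, smul_smul, mul_comm]
    rfl

namespace Split

variable {E : Subgroup (V ≃ₗ[K] V)} {z e : V ≃ₗ[K] V} {l : ℕ} {ω : K}

theorem neZero (hs : Split E z e l ω) : NeZero l := ⟨hs.hl.ne_zero⟩

theorem ω_ne_zero (hs : Split E z e l ω) : ω ≠ 0 := hs.root.ne_zero hs.hl.ne_zero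

theorem ω_ne_one (hs : Split E z e l ω) : ω ≠ 1 := hs.root.ne_one hs.hl.one_lt

theorem mem_cz_z (hs : Split E z e l ω) : z ∈ cz E z := ⟨hs.hz, fun _ => rfl⟩

theorem e_shift (hs : Split E z e l ω) {x : V} {μ : K} (hx : z x = μ • x) :
    z (e x) = (ω * μ) • e x := by
  rw [hs.hze, hx, map_smul, smul_smul]

variable [Nontrivial V]

theorem comm_root (hs : Split E z e l ω) {a : V ≃ₗ[K] V} {c : K} (h : ∀ x, z (a x) = c • a (z x)) :
    c ^ l = 1 := by
  obtain ⟨x, hx⟩ := exists_ne (0 : V)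
  have h1 := pow_comm_scal h l x
  rw [hs.hzl, hs.hzl] at h1
  refine eq_smul_of_smul (fun h0 => hx (a.injective (h0.trans (map_zero a).symm))) ?_
  rw [← h1, one_smul]

theorem shift (hs : Split E z e l ω) (hE : Layer E) {a : V ≃ₗ[K] V} (ha : a ∈ E) :
    ∃ i < l, ∀ x, z (a x) = ω ^ i • a (z x) := by
  obtain ⟨c, hc⟩ := hE.comm z hs.hz a ha
  haveI := hs.neZero
  obtain ⟨i, hi, rfl⟩ := hs.root.eq_pow_of_pow_eq_one (hs.comm_root hc)
  exact ⟨i, hi, hc⟩

theorem pow_e_comm (hs : Split E z e l ω) : ∀ (i : ℕ) x, z ((e ^ i) x) = ω ^ i • (e ^ i) (z x)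
  | 0 => fun x => by rw [pow_zero, pow_zero, one_smul]; rfl
  | i + 1 => fun x => by
    rw [pow_succ', pow_succ']
    show z (e ((e ^ i) x)) = _
    rw [hs.hze, pow_e_comm hs i x, map_smul, smul_smul]
    rfl

theorem decomp (hs : Split E z e l ω) (hE : Layer E) {a : V ≃ₗ[K] V} (ha : a ∈ E) :
    ∃ i < l, ∃ b ∈ cz E z, a = e ^ i * b := by
  obtain ⟨i, hi, h⟩ := hs.shift hE ha
  refine ⟨i, hi, (e ^ i)⁻¹ * a, ⟨mul_mem (inv_mem (pow_mem hs.he i)) ha, fun x => ?_⟩, by
    rw [mul_inv_cancel_left]⟩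
  refine (e ^ i).injective ?_
  refine smul_right_injective V (pow_ne_zero i hs.ω_ne_zero) ?_
  show ω ^ i • (e ^ i) (z ((e ^ i).symm (a x))) = ω ^ i • (e ^ i) ((e ^ i).symm (a (z x)))
  rw [← hs.pow_e_comm, LinearEquiv.apply_symm_apply, LinearEquiv.apply_symm_apply, h]

theorem pow_e_cz (hs : Split E z e l ω) : e ^ l ∈ cz E z :=
  ⟨pow_mem hs.he l, fun x => by rw [hs.pow_e_comm, hs.root.pow_eq_one, one_smul]⟩

theorem pow_z_comm_cz {a : V ≃ₗ[K] V} (ha : a ∈ cz E z) (j : ℕ) (x : V) :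
    (z ^ j) (a x) = a ((z ^ j) x) := by
  have h := pow_comm_scal (z := z) (a := a) (c := 1) (fun y => by rw [one_smul]; exact ha.2 y) j x
  rwa [one_pow, one_smul] at h

/-- A map commuting with `z` and trivial on the fixed space is a power of `z`. -/
theorem triv (hs : Split E z e l ω) (hE : Layer E) {x₁ : V} (hx₁ : z x₁ = x₁) (hx0 : x₁ ≠ 0)
    {f : V ≃ₗ[K] V} (hf : f ∈ cz E z) (h : ∀ x, z x = x → f x = x) :
    ∃ j < l, ∀ x, f x = (z ^ j) x := by
  haveI := hs.neZero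
  have hne : ∀ (a : V ≃ₗ[K] V), a x₁ ≠ 0 := fun a h0 => hx0 (a.injective (h0.trans (map_zero a).symm))
  have hC : ∀ a ∈ cz E z, ∀ x, f (a x) = a (f x) := by
    intro a ha x
    obtain ⟨c, hc⟩ := hE.comm f hf.1 a ha.1
    have h1 := hc x₁
    rw [h x₁ hx₁, h (a x₁) (by rw [ha.2, hx₁])] at h1
    have hc1 : c = 1 := eq_smul_of_smul (hne a) (by rw [one_smul]; exact h1.symm)
    rw [hc, hc1, one_smul]
  obtain ⟨c, hc⟩ := hE.comm f hf.1 e hs.he
  have hcl : c ^ l = 1 := by
    have h1 : ∀ n x, f ((e ^ n) x) = c ^ n • (e ^ n) (f x) := by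
      intro n
      induction n with
      | zero => intro x; rw [pow_zero, pow_zero, one_smul]; rfl
      | succ n ih =>
        intro x
        rw [pow_succ', pow_succ']
        show f (e ((e ^ n) x)) = _
        rw [hc, ih, map_smul, smul_smul]
        rfl
    have h2 := h1 l x₁
    rw [hC _ hs.pow_e_cz, h x₁ hx₁] at h2
    exact eq_smul_of_smul (hne (e ^ l)) (by rw [one_smul]; exact h2.symm)
  obtain ⟨j, hj, rfl⟩ := hs.root.eq_pow_of_pow_eq_one hcl
  refine ⟨j, hj, ?_⟩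
  have hze : ∀ x, (z ^ j) (e x) = ω ^ j • e ((z ^ j) x) := pow_comm_scal hs.hze j
  have hsymm : ∀ x, (z ^ j).symm (e x) = (ω ^ j)⁻¹ • e ((z ^ j).symm x) := by
    intro x
    refine (z ^ j).injective ?_
    rw [LinearEquiv.apply_symm_apply, map_smul, hze, LinearEquiv.apply_symm_apply, smul_smul,
      inv_mul_cancel₀ (pow_ne_zero j hs.ω_ne_zero), one_smul]
  obtain ⟨d, hd⟩ := hE.center ((z ^ j)⁻¹ * f) (mul_mem (inv_mem (pow_mem hs.hz j)) hf.1) fun b hb x => by
    obtain ⟨i, -, b0, hb0, rfl⟩ := hs.decomp hE hb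
    have he1 : ∀ x, (z ^ j).symm (f (e x)) = e ((z ^ j).symm (f x)) := by
      intro x
      rw [hc, map_smul, hsymm, smul_smul, mul_inv_cancel₀ (pow_ne_zero j hs.ω_ne_zero), one_smul]
    have hei : ∀ i x, (z ^ j).symm (f ((e ^ i) x)) = (e ^ i) ((z ^ j).symm (f x)) := by
      intro i
      induction i with
      | zero => intro x; rfl
      | succ i ih =>
        intro x
        rw [pow_succ']
        show (z ^ j).symm (f (e ((e ^ i) x))) = e ((e ^ i) ((z ^ j).symm (f x)))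
        rw [he1, ih]
    have hb1 : ∀ x, (z ^ j).symm (b0 x) = b0 ((z ^ j).symm x) := by
      intro x
      refine (z ^ j).injective ?_
      rw [LinearEquiv.apply_symm_apply, pow_z_comm_cz hb0, LinearEquiv.apply_symm_apply]
    show (z ^ j).symm (f ((e ^ i) (b0 x))) = (e ^ i) (b0 ((z ^ j).symm (f x)))
    rw [hei, hC b0 hb0, hb1]
  intro x
  have h2 : d = 1 := by
    refine eq_smul_of_smul hx0 ?_
    rw [← hd x₁, one_smul]
    show (z ^ j).symm (f x₁) = x₁
    rw [h x₁ hx₁]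
    refine (z ^ j).injective ?_
    rw [LinearEquiv.apply_symm_apply, pow_apply_eigen z (μ := 1) (by rw [one_smul]; exact hx₁), one_pow,
      one_smul]
  have h3 : (z ^ j).symm (f x) = x := by
    have := hd x
    rw [h2, one_smul] at this
    exact this
  nth_rewrite 2 [← h3]
  rw [LinearEquiv.apply_symm_apply]

/-- The fixed space of a split is again a layer. -/
theorem layer (hs : Split E z e l ω) (hE : Layer E) {x₁ : V} (hx₁ : z x₁ = x₁) (hx0 : x₁ ≠ 0) :
    Layer (sub0 E z) := by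
  constructor
  · intro c hc
    obtain ⟨a, ha, hac⟩ := hE.scalar c hc
    refine ⟨_, mem_sub0 (E := E) (z := z) (a := a) ⟨ha, fun x => by rw [hac, hac, map_smul]⟩, fun x => ?_⟩
    exact Subtype.ext (hac x)
  · intro a ha b hb
    obtain ⟨a', ha', hae⟩ := sub0_cases ha
    obtain ⟨b', hb', hbe⟩ := sub0_cases hb
    obtain ⟨c, hc⟩ := hE.comm a' ha'.1 b' hb'.1
    refine ⟨c, fun x => Subtype.ext ?_⟩
    rw [hae, hbe, hc, Submodule.coe_smul, hbe, hae]
  · intro a ha hcom
    obtain ⟨a', ha', hae⟩ := sub0_cases ha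
    haveI := hs.neZero
    have hC : ∀ b ∈ cz E z, ∀ x, a' (b x) = b (a' x) := by
      intro b hb x
      obtain ⟨c, hc⟩ := hE.comm a' ha'.1 b hb.1
      have h1 := congrArg Subtype.val (hcom _ (mem_sub0 hb) ⟨x₁, hx₁⟩)
      rw [hae, restr_apply, restr_apply, hae] at h1
      change a' (b x₁) = b (a' x₁) at h1
      rw [hc] at h1
      have hc1 : c = 1 := eq_smul_of_smul
        (fun h0 => hx0 (a'.injective (b.injective (by rw [h0, map_zero, map_zero]))))
        (h1.trans (one_smul K (b (a' x₁))).symm)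
      rw [hc, hc1, one_smul]
    obtain ⟨c, hc⟩ := hE.comm a' ha'.1 e hs.he
    -- remove a power of `z`
    obtain ⟨j, hj⟩ : ∃ j, c = ω ^ j := by
      have h1 : ∀ n x, a' ((e ^ n) x) = c ^ n • (e ^ n) (a' x) := by
        intro n
        induction n with
        | zero => intro x; rw [pow_zero, pow_zero, one_smul]; rfl
        | succ n ih =>
          intro x
          rw [pow_succ', pow_succ']
          show a' (e ((e ^ n) x)) = _
          rw [hc, ih, map_smul, smul_smul]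
          rfl
      have h2 := h1 l x₁
      rw [hC _ hs.pow_e_cz] at h2
      have hcl : c ^ l = 1 := eq_smul_of_smul
        (fun h0 => hx0 (a'.injective ((e ^ l).injective (by rw [h0, map_zero, map_zero]))))
        (h2.symm.trans (one_smul K ((e ^ l) (a' x₁))).symm)
      obtain ⟨j, -, hj⟩ := hs.root.eq_pow_of_pow_eq_one hcl
      exact ⟨j, hj.symm⟩
    have hsymm : ∀ x, (z ^ j).symm (e x) = (ω ^ j)⁻¹ • e ((z ^ j).symm x) := by
      intro x
      refine (z ^ j).injective ?_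
      rw [LinearEquiv.apply_symm_apply, map_smul, pow_comm_scal hs.hze, LinearEquiv.apply_symm_apply,
        smul_smul, inv_mul_cancel₀ (pow_ne_zero j hs.ω_ne_zero), one_smul]
    obtain ⟨d, hd⟩ := hE.center ((z ^ j)⁻¹ * a') (mul_mem (inv_mem (pow_mem hs.hz j)) ha'.1)
      fun b hb x => by
        obtain ⟨i, -, b0, hb0, rfl⟩ := hs.decomp hE hb
        have he1 : ∀ x, (z ^ j).symm (a' (e x)) = e ((z ^ j).symm (a' x)) := by
          intro x
          rw [hc, map_smul, hsymm, smul_smul, hj, mul_inv_cancel₀ (pow_ne_zero j hs.ω_ne_zero), one_smul]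
        have hei : ∀ i x, (z ^ j).symm (a' ((e ^ i) x)) = (e ^ i) ((z ^ j).symm (a' x)) := by
          intro i
          induction i with
          | zero => intro x; rfl
          | succ i ih =>
            intro x
            rw [pow_succ']
            show (z ^ j).symm (a' (e ((e ^ i) x))) = e ((e ^ i) ((z ^ j).symm (a' x)))
            rw [he1, ih]
        have hb1 : ∀ x, (z ^ j).symm (b0 x) = b0 ((z ^ j).symm x) := by
          intro x
          refine (z ^ j).injective ?_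
          rw [LinearEquiv.apply_symm_apply, pow_z_comm_cz hb0, LinearEquiv.apply_symm_apply]
        show (z ^ j).symm (a' ((e ^ i) (b0 x))) = (e ^ i) (b0 ((z ^ j).symm (a' x)))
        rw [hei, hC b0 hb0, hb1]
    refine ⟨d, fun x => Subtype.ext ?_⟩
    rw [hae, Submodule.coe_smul]
    have h1 : (z ^ j).symm (a' (x : V)) = d • (x : V) := hd x
    have h2 := congrArg (z ^ j) h1
    rw [LinearEquiv.apply_symm_apply, map_smul,
      pow_apply_eigen z (μ := 1) (by rw [one_smul]; exact x.2), one_pow, one_smul] at h2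
    exact h2
  · obtain ⟨m, hm, hsc⟩ := hE.expo
    refine ⟨m, hm, fun a ha => ?_⟩
    obtain ⟨⟨b, hb⟩, rfl⟩ := ha
    obtain ⟨c, hc⟩ := hsc b hb.1
    exact ⟨c, fun x => Subtype.ext (by rw [← map_pow, restr_apply]; exact hc x)⟩

end Split

end Cfsg.Agent.Solv.CopPair
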