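import Cfsg.Agent.Lib.Solv.CopPair.Prim
import Cfsg.Agent.Lib.Solv.CopPair.Blocks

/-!
Bases of two vectors for solvable groups of order prime to the module.
-/

set_option autoImplicit false
set_option linter.unusedSectionVars false
set_option linter.style.haveILetI false

namespace Cfsg.Agent.Solv.CopPair

open Cfsg.Agent.Solv.OddPair (Base CR subAct quotAct kerV quot_faithful cr_sub imgRing sys_or_field base_of_quot
  base_of_compl)

universe u v

/-- Averaging a projection. -/
theorem cr_of_coprime {A : Type u} {V : Type v} [Group A] [Finite A] [AddCommGroup V] [Finite V]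
    [DistribMulAction A V] {p : ℕ} (hp : p.Prime) (hV : ∀ x : V, p • x = 0)
    (hcop : Nat.Coprime (Nat.card A) (Nat.card V)) : CR A V := by
  classical
  haveI := Fintype.ofFinite A
  haveI : Fact p.Prime := ⟨hp⟩
  letI : Module (ZMod p) V := AddCommGroup.zmodModule hV
  intro U hU
  obtain ⟨C, hC⟩ := (AddSubgroup.toZModSubmodule p U).exists_isCompl
  obtain ⟨π, hπ⟩ : ∃ π : V →+ V, (∀ x ∈ U, π x = x) ∧ ∀ x, π x ∈ U := by
    refine ⟨((AddSubgroup.toZModSubmodule p U).subtype.comp
      (Submodule.linearProjOfIsCompl _ C hC)).toAddMonoidHom, fun x hx => ?_, fun x => ?_⟩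
    · exact congrArg Subtype.val (Submodule.linearProjOfIsCompl_apply_left hC ⟨x, hx⟩)
    · exact (Submodule.linearProjOfIsCompl _ C hC x).2
  let P : V →+ V :=
    { toFun := fun x => ∑ a : A, a • π (a⁻¹ • x)
      map_zero' := by simp
      map_add' := fun x y => by simp [smul_add, Finset.sum_add_distrib] }
  have hPU : ∀ x, P x ∈ U := fun x => U.sum_mem fun a _ => hU a _ (hπ.2 _)
  have hPid : ∀ x ∈ U, P x = Nat.card A • x := fun x hx => by
    show ∑ a : A, a • π (a⁻¹ • x) = _
    rw [Finset.sum_eq_card_nsmul (b := x) fun a _ => by rw [hπ.1 _ (hU a⁻¹ x hx), smul_inv_smul],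
      Finset.card_univ, Nat.card_eq_fintype_card]
  have hPeq : ∀ (b : A) (x : V), P (b • x) = b • P x := fun b x => by
    show ∑ a : A, a • π (a⁻¹ • b • x) = b • ∑ a : A, a • π (a⁻¹ • x)
    rw [Finset.smul_sum, ← Equiv.sum_comp (Equiv.mulLeft b)]
    refine Finset.sum_congr rfl fun a _ => ?_
    show (b * a) • π ((b * a)⁻¹ • b • x) = _
    rw [mul_inv_rev, mul_smul a⁻¹, inv_smul_smul, mul_smul]
  have hinj : ∀ x : V, Nat.card A • x = 0 → x = 0 := fun x hx => by
    refine (nsmulCoprime (Nat.Coprime.symm hcop)).injective ?_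
    rw [nsmulCoprime_apply, nsmulCoprime_apply, hx, smul_zero]
  refine ⟨P.ker, fun a x hx => ?_, ?_, ?_⟩
  · rw [AddMonoidHom.mem_ker] at hx ⊢
    rw [hPeq, hx, smul_zero]
  · refine (AddSubgroup.eq_bot_iff_forall _).2 fun x hx => ?_
    obtain ⟨hxU, hxW⟩ := AddSubgroup.mem_inf.1 hx
    exact hinj x (by rw [← hPid x hxU]; exact hxW)
  · refine eq_top_iff.2 fun x _ => ?_
    obtain ⟨u, hu⟩ := (Finite.injective_iff_surjective.1
      (show Function.Injective (fun u : U => Nat.card A • u) from fun u w h => by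
        refine Subtype.ext (sub_eq_zero.1 (hinj _ ?_))
        rw [nsmul_sub, sub_eq_zero]
        exact congrArg Subtype.val h)) ⟨P x, hPU x⟩
    have hu' : Nat.card A • (u : V) = P x := congrArg Subtype.val hu
    refine AddSubgroup.mem_sup.2 ⟨u, u.2, x - u, ?_, by abel⟩
    rw [AddMonoidHom.mem_ker, map_sub, hPid _ u.2, hu', sub_self]

theorem pbc_all (n : ℕ) : PBc.{v} n := by
  induction n with
  | zero =>
    intro A V _ _ _ _ _ _ _ _ _ h
    have := Nat.card_pos (α := V)
    omega
  | succ n ih =>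
    intro A V _ _ _ _ _ hA hodd hcop hcr hV
    rcases subsingleton_or_nontrivial V with hs | hnt
    · exact ⟨0, 0, fun a _ _ x => Subsingleton.elim _ _⟩
    by_cases hirr : ∀ U : AddSubgroup V, (∀ a : A, ∀ x ∈ U, a • x ∈ U) → U = ⊥ ∨ U = ⊤
    · refine base_of_quot ?_
      letI := quotAct (A := A) (V := V)
      haveI := hA
      have hQ : Group.IsSolvable (A ⧸ kerV A V) :=
        Group.isSolvable_of_surjective (f := QuotientGroup.mk' (kerV A V)) (QuotientGroup.mk'_surjective _)
      have hirr' : ∀ U : AddSubgroup V, (∀ a : A ⧸ kerV A V, ∀ x ∈ U, a • x ∈ U) → U = ⊥ ∨ U = ⊤ :=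
        fun U hU => hirr U fun a x hx => hU (a : A ⧸ kerV A V) x hx
      have hcopQ : Nat.Coprime (Nat.card (A ⧸ kerV A V)) (Nat.card V) :=
        hcop.coprime_dvd_left (Subgroup.card_quotient_dvd_card _)
      by_cases hfield : ∀ N : Subgroup (A ⧸ kerV A V), N.Normal → (∀ x ∈ N, ∀ y ∈ N, Commute x y) →
          ∀ b ∈ imgRing V N, ∀ x : V, x ≠ 0 → b x = 0 → b = 0
      · exact primitive2 hQ hodd hcopQ quot_faithful hfield
      · push Not at hfield
        obtain ⟨N, hN, hNc, b, hb, x, hx, hbx, hb0⟩ := hfield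
        obtain ⟨W0, e, h0, h1, h2, hm⟩ :=
          (sys_or_field hirr' hN hNc).resolve_right fun h => hb0 (h b hb x hx hbx)
        exact base_of_blocks2 ih hV hodd hcopQ hQ hirr' W0 h0 e h1 h2 hm
    · push Not at hirr
      obtain ⟨U, hU, hU0, hU1⟩ := hirr
      obtain ⟨W, hW, hd, hs⟩ := hcr U hU
      have hW1 : W ≠ ⊤ := fun h => hU0 (by rwa [h, inf_top_eq] at hd)
      have hsmall : ∀ X : AddSubgroup V, X ≠ ⊤ → Nat.card X ≤ n := fun X hX => by
        have h1 : Nat.card X ≠ Nat.card V := fun h => hX (AddSubgroup.eq_top_of_card_eq _ h)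
        have h2 : Nat.card X ≤ Nat.card V := Finite.card_subtype_le _
        omega
      refine base_of_compl hU hW hd hs ?_ ?_
      · letI := subAct U hU
        exact ih A U hA (hodd.of_dvd_nat (AddSubgroup.card_addSubgroup_dvd_card U))
          (hcop.coprime_dvd_right (AddSubgroup.card_addSubgroup_dvd_card U)) (cr_sub hcr U hU) (hsmall U hU1)
      · letI := subAct W hW
        exact ih A W hA (hodd.of_dvd_nat (AddSubgroup.card_addSubgroup_dvd_card W))
          (hcop.coprime_dvd_right (AddSubgroup.card_addSubgroup_dvd_card W)) (cr_sub hcr W hW) (hsmall W hW1)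

/-- The two-vector theorem with the universes free. -/
theorem base_coprime {A : Type u} {V : Type v} [Group A] [AddCommGroup V] [Finite V]
    [DistribMulAction A V] [Finite A] (hA : Group.IsSolvable A) (hodd : Odd (Nat.card V))
    (hcop : Nat.Coprime (Nat.card A) (Nat.card V)) (hcr : CR A V) : Base A V := by
  let ρ := MulAction.toPermHom A V
  letI : DistribMulAction ρ.range V :=
    { smul := fun e x => (e : Equiv.Perm V) x
      one_smul := fun x => rfl
      mul_smul := fun e f x => rfl
      smul_zero := fun e => by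
        obtain ⟨a, ha⟩ := e.2
        show (e : Equiv.Perm V) 0 = 0
        rw [← ha]; exact smul_zero a
      smul_add := fun e x y => by
        obtain ⟨a, ha⟩ := e.2
        show (e : Equiv.Perm V) (x + y) = (e : Equiv.Perm V) x + (e : Equiv.Perm V) y
        rw [← ha]; exact smul_add a x y }
  have hcr' : CR ρ.range V := by
    intro U hU
    obtain ⟨W, hW, hd⟩ := hcr U fun a x hx => hU (ρ.rangeRestrict a) x hx
    refine ⟨W, fun e x hx => ?_, hd⟩
    obtain ⟨a, rfl⟩ := ρ.rangeRestrict_surjective e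
    exact hW a x hx
  haveI := hA
  obtain ⟨v, w, h⟩ := pbc_all (Nat.card V) ρ.range V
    (Group.isSolvable_of_surjective (f := ρ.rangeRestrict) ρ.rangeRestrict_surjective) hodd
    (hcop.coprime_dvd_left (Subgroup.card_range_dvd ρ)) hcr' le_rfl
  exact ⟨v, w, fun a ha hb => h (ρ.rangeRestrict a) ha hb⟩

end Cfsg.Agent.Solv.CopPair
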