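import Cfsg.Agent.Lib.Solv.CopPair.Step

/-!
The recursion step and its base.
-/

set_option autoImplicit false
set_option linter.unusedSectionVars false
set_option linter.style.haveILetI false
set_option maxHeartbeats 800000

namespace Cfsg.Agent.Solv.CopPair

universe u v

variable {K : Type u} [Field K] {V : Type v} [AddCommGroup V] [Module K V]

/-- The combined vector. -/
def comb {z : V ≃ₗ[K] V} (e : V ≃ₗ[K] V) (u v w : X0 z) : V := (v : V) + e (u : V) + e (e (w : V))

namespace Split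

variable [Nontrivial V] {E : Subgroup (V ≃ₗ[K] V)} {z e : V ≃ₗ[K] V} {l : ℕ} {ω : K}

theorem apply_ne_zero (a : V ≃ₗ[K] V) {x : V} (hx : x ≠ 0) : a x ≠ 0 :=
  fun h => hx (a.injective (h.trans (map_zero a).symm))

theorem coe_ne_zero' {u : X0 z} (hu : u ≠ 0) : (u : V) ≠ 0 := fun h => hu (Subtype.ext h)

theorem proj_shift (a : V ≃ₗ[K] V) {c : K} (hc0 : c ≠ 0) (hc : ∀ x, z (a x) = c • a (z x)) (ν : K)
    (y : V) : proj z l (c * ν) (a y) = a (proj z l ν y) := by
  rw [proj, proj, map_sum]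
  refine Finset.sum_congr rfl fun i _ => ?_
  rw [map_smul, pow_comm_scal hc, smul_smul, mul_inv, mul_pow, inv_pow c, inv_pow ν,
    mul_right_comm, inv_mul_cancel₀ (pow_ne_zero i hc0), one_mul]

theorem e1_eigen (hs : Split E z e l ω) (u : X0 z) : z (e (u : V)) = ω • e (u : V) := by
  rw [hs.hze, mem_X0.1 u.2]

theorem e2_eigen (hs : Split E z e l ω) (u : X0 z) : z (e (e (u : V))) = (ω * ω) • e (e (u : V)) :=
  hs.e_shift (x := e (u : V)) (hs.e1_eigen u)

theorem sq_ne_one (hs : Split E z e l ω) (hl2 : l ≠ 2) : ω * ω ≠ 1 := by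
  intro h
  rw [← pow_two] at h
  have h1 := hs.root.dvd_of_pow_eq_one 2 h
  exact hl2 ((Nat.prime_dvd_prime_iff_eq hs.hl Nat.prime_two).1 h1)

theorem proj_zero_comb (hs : Split E z e l ω) {u v w : X0 z} (hw2 : l = 2 → w = 0) :
    proj z l 1 (comb e u v w) = (l : K) • (v : V) := by
  have hωl := hs.root.pow_eq_one
  rw [comb, proj_add, proj_add, proj_self z one_ne_zero (by rw [one_smul]; exact v.2),
    proj_other z (one_pow l) hωl hs.ω_ne_one (hs.e1_eigen u), add_zero]
  rcases eq_or_ne l 2 with h | h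
  · rw [hw2 h]; simp [proj_zero]
  · rw [proj_other z (one_pow l) (by rw [mul_pow, hωl, one_mul]) (hs.sq_ne_one h) (hs.e2_eigen w), add_zero]

theorem proj_one_comb (hs : Split E z e l ω) (u v w : X0 z) :
    proj z l ω (comb e u v w) = (l : K) • e (u : V) := by
  have hωl := hs.root.pow_eq_one
  rw [comb, proj_add, proj_add, proj_other z hωl (one_pow l) hs.ω_ne_one.symm
    (by rw [one_smul]; exact v.2), proj_self z hs.ω_ne_zero (hs.e1_eigen u),
    proj_other z hωl (by rw [mul_pow, hωl, one_mul])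
      (fun h => hs.ω_ne_one (mul_left_cancel₀ hs.ω_ne_zero (by rw [mul_one]; exact h))) (hs.e2_eigen w),
    zero_add, add_zero]

theorem proj_two_comb (hs : Split E z e l ω) {u v w : X0 z} (hl2 : l ≠ 2) :
    proj z l (ω * ω) (comb e u v w) = (l : K) • e (e (w : V)) := by
  have hωl := hs.root.pow_eq_one
  have h2l : (ω * ω) ^ l = 1 := by rw [mul_pow, hωl, one_mul]
  rw [comb, proj_add, proj_add, proj_other z h2l (one_pow l) (Ne.symm (hs.sq_ne_one hl2))
    (by rw [one_smul]; exact v.2), proj_other z h2l hωl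
      (fun h => hs.ω_ne_one (mul_left_cancel₀ hs.ω_ne_zero (by rw [mul_one]; exact h.symm))) (hs.e1_eigen u),
    proj_self z (mul_ne_zero hs.ω_ne_zero hs.ω_ne_zero) (hs.e2_eigen w), zero_add, zero_add]

theorem proj_high_comb (hs : Split E z e l ω) {u v w : X0 z} {t : ℕ} (h3 : 3 ≤ t) (ht : t < l) :
    proj z l (ω ^ t) (comb e u v w) = 0 := by
  have hωl := hs.root.pow_eq_one
  have htl : (ω ^ t) ^ l = 1 := by rw [← pow_mul, mul_comm, pow_mul, hωl, one_pow]
  have hne : ∀ s, s < 3 → ω ^ s ≠ ω ^ t := fun s hs3 h => by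
    have := hs.root.pow_inj (by omega) ht h
    omega
  rw [comb, proj_add, proj_add, proj_other z htl (one_pow l) (by simpa using hne 0 (by omega))
    (by rw [one_smul]; exact v.2), proj_other z htl hωl (by simpa using hne 1 (by omega)) (hs.e1_eigen u),
    proj_other z htl (by rw [mul_pow, hωl, one_mul]) (by simpa [pow_two] using hne 2 (by omega))
      (hs.e2_eigen w), add_zero, add_zero]

theorem comb_ne_zero (hs : Split E z e l ω) {u v w : X0 z} (hu : u ≠ 0) : comb e u v w ≠ 0 := by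
  intro h
  have h1 := hs.proj_one_comb u v w
  rw [h, proj_zero] at h1
  haveI := hs.neZero
  exact (smul_ne_zero hs.root.neZero'.out (apply_ne_zero e (coe_ne_zero' hu))) h1.symm

/-- The combined vector is in no orbit of the single one. -/
theorem comb_orb (hs : Split E z e l ω) (hE : Layer E) {u v w : X0 z} (hu : u ≠ 0) (hv : v ≠ 0)
    (hw2 : l = 2 → w = 0) : ∀ a ∈ E, a (comb e u v w) ≠ u := by
  intro a ha h
  haveI := hs.neZero
  obtain ⟨i, hi, hic⟩ := hs.shift hE (inv_mem ha)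
  have hx : comb e u v w = a⁻¹ (u : V) := by
    rw [← h]; exact (a.symm_apply_apply _).symm
  have heig : z (comb e u v w) = ω ^ i • comb e u v w := by
    rw [hx, hic, mem_X0.1 u.2]
  have hil : (ω ^ i) ^ l = 1 := by rw [← pow_mul, mul_comm, pow_mul, hs.root.pow_eq_one, one_pow]
  have h0 := hs.proj_zero_comb (u := u) (v := v) (w := w) hw2
  have h1 := hs.proj_one_comb u v w
  by_cases h01 : ω ^ i = 1
  · rw [proj_other z hs.root.pow_eq_one hil (h01 ▸ hs.ω_ne_one.symm) heig] at h1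
    exact smul_ne_zero hs.root.neZero'.out (apply_ne_zero e (coe_ne_zero' hu)) h1.symm
  · rw [proj_other z (one_pow l) hil h01 heig] at h0
    exact smul_ne_zero hs.root.neZero'.out (coe_ne_zero' hv) h0.symm

theorem comm_e_root (hs : Split E z e l ω) {b : V ≃ₗ[K] V} (hb : b ∈ cz E z) {c : K}
    (hc : ∀ x, b (e x) = c • e (b x)) {x₁ : V} (hx₁ : x₁ ≠ 0)
    (hbl : b ((e ^ l) x₁) = (e ^ l) (b x₁)) : c ^ l = 1 := by
  have h1 := pow_comm_scal (z := b) (a := e) hc
  have h2 : ∀ n x, b ((e ^ n) x) = c ^ n • (e ^ n) (b x) := by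
    intro n
    induction n with
    | zero => intro x; rw [pow_zero, pow_zero, one_smul]; rfl
    | succ n ih =>
      intro x
      rw [pow_succ', pow_succ']
      show b (e ((e ^ n) x)) = _
      rw [hc, ih, map_smul, smul_smul]
      rfl
  rw [h2] at hbl
  exact eq_smul_of_smul (apply_ne_zero (e ^ l) (apply_ne_zero b hx₁)) (by rw [one_smul]; exact hbl)

/-- An element fixing both components up to one scalar is scalar. -/
theorem isSc_of_fix (hs : Split E z e l ω) (hE : Layer E) {u v : X0 z} (hu : u ≠ 0) (hv : v ≠ 0)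
    (hne : NE (sub0 E z) u) {b : V ≃ₗ[K] V} (hb : b ∈ cz E z) {μ : K} (hbv : b (v : V) = μ • (v : V))
    (hbu : b (e (u : V)) = μ • e (u : V)) : IsSc b := by
  obtain ⟨c, hc⟩ := hE.comm b hb.1 e hs.he
  have hc0 : c ≠ 0 := fun h => by
    have := hc (u : V)
    rw [h, zero_smul] at this
    exact apply_ne_zero b (apply_ne_zero e (coe_ne_zero' hu)) this
  have h1 : b (u : V) = (c⁻¹ * μ) • (u : V) := by
    refine e.injective ?_
    rw [map_smul, mul_smul, ← hbu, hc, smul_smul, inv_mul_cancel₀ hc0, one_smul]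
  obtain ⟨d, hd⟩ := hne _ (mem_sub0 hb) (c⁻¹ * μ) (Subtype.ext h1)
  have hd' : ∀ x : V, z x = x → b x = d • x := fun x hx => congrArg Subtype.val (hd ⟨x, hx⟩)
  have hdμ : d = μ := eq_smul_of_smul (coe_ne_zero' hv) ((hd' _ v.2).symm.trans hbv)
  have hμ0 : μ ≠ 0 := fun h => apply_ne_zero b (coe_ne_zero' hv) (by rw [hbv, h, zero_smul])
  have hc1 : c = 1 := by
    have h2 := eq_smul_of_smul (coe_ne_zero' hu) ((hd' _ u.2).symm.trans h1)
    rw [hdμ] at h2
    exact inv_eq_one.1 (mul_right_cancel₀ hμ0 (by rw [one_mul]; exact h2.symm))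
  obtain ⟨s, hsE, hss⟩ := hE.scalar μ⁻¹ (inv_ne_zero hμ0)
  have hf : s * b ∈ cz E z := (cz E z).mul_mem ⟨hsE, fun x => by rw [hss, hss, map_smul]⟩ hb
  obtain ⟨j, hj, hjf⟩ := hs.triv hE u.2 (coe_ne_zero' hu) hf fun x hx => by
    show s (b x) = x
    rw [hd' x hx, hdμ, map_smul, hss, smul_smul, mul_inv_cancel₀ hμ0, one_smul]
  have h3 : s (b (e (u : V))) = (z ^ j) (e (u : V)) := hjf _
  rw [hbu, map_smul, hss, smul_smul, mul_inv_cancel₀ hμ0, one_smul, pow_apply_eigen z (hs.e1_eigen u)] at h3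
  have hj0 : j = 0 := hs.root.pow_inj hj hs.hl.pos (by
    rw [pow_zero]
    exact eq_smul_of_smul (apply_ne_zero e (coe_ne_zero' hu)) (by rw [one_smul]; exact h3.symm))
  refine ⟨μ, fun x => ?_⟩
  have h4 : s (b x) = x := by
    have := hjf x
    rw [hj0] at this
    exact this
  rw [hss] at h4
  nth_rewrite 2 [← h4]
  rw [smul_smul, mul_inv_cancel₀ hμ0, one_smul]

/-- How an eigen element moves the components. -/
theorem ne_cases (hs : Split E z e l ω) (hE : Layer E) {u v w : X0 z} (hu : u ≠ 0) (hv : v ≠ 0)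
    (hne : NE (sub0 E z) u) (hw2 : l = 2 → w = 0) {a : V ≃ₗ[K] V} (ha : a ∈ E) {μ : K}
    (heq : a (comb e u v w) = μ • comb e u v w) :
    IsSc a ∨ μ ≠ 0 ∧ ∃ i < l, i ≠ 0 ∧ ∃ b ∈ cz E z, a = e ^ i * b ∧
      (∀ ν : K, a (proj z l ν (comb e u v w)) = μ • proj z l (ω ^ i * ν) (comb e u v w)) ∧
      (i = 1 ∨ i = l - 1) := by
  haveI := hs.neZero
  obtain ⟨i, hi, b, hb, hab⟩ := hs.decomp hE ha
  have hshift : ∀ x, z (a x) = ω ^ i • a (z x) := fun x => by
    rw [hab]
    show z ((e ^ i) (b x)) = _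
    rw [hs.pow_e_comm, hb.2]
    rfl
  have hcomp : ∀ ν : K, a (proj z l ν (comb e u v w)) = μ • proj z l (ω ^ i * ν) (comb e u v w) := by
    intro ν
    rw [← proj_shift a (pow_ne_zero i hs.ω_ne_zero) hshift, heq]
    simp only [proj, map_smul, Finset.smul_sum]
    exact Finset.sum_congr rfl fun t _ => smul_comm _ _ _
  have hμ0 : μ ≠ 0 := fun h => by
    rw [h, zero_smul] at heq
    exact apply_ne_zero a (hs.comb_ne_zero hu) heq
  by_cases hi0 : i = 0
  · left
    subst hi0
    rw [pow_zero, one_mul] at hab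
    subst hab
    refine hs.isSc_of_fix hE hu hv hne hb (μ := μ) ?_ ?_
    · have h := hcomp 1
      rw [pow_zero, one_mul, hs.proj_zero_comb hw2, map_smul, smul_comm μ] at h
      exact smul_right_injective V hs.root.neZero'.out h
    · have h := hcomp ω
      rw [pow_zero, one_mul, hs.proj_one_comb, map_smul, smul_comm μ] at h
      exact smul_right_injective V hs.root.neZero'.out h
  refine Or.inr ⟨hμ0, i, hi, hi0, b, hb, hab, hcomp, ?_⟩
  -- the source of the middle component
  obtain ⟨t, ht, hti⟩ : ∃ t < l, ω ^ i * ω ^ t = ω := by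
    refine ⟨(l + 1 - i) % l, Nat.mod_lt _ hs.hl.pos, ?_⟩
    rw [← pow_eq_pow_mod _ hs.root.pow_eq_one, ← pow_add, show i + (l + 1 - i) = l + 1 by omega,
      pow_succ, hs.root.pow_eq_one, one_mul]
  have h := hcomp (ω ^ t)
  rw [hti, hs.proj_one_comb] at h
  have ht3 : t < 3 := by
    by_contra h3
    rw [hs.proj_high_comb (by omega) ht, map_zero] at h
    exact smul_ne_zero hμ0 (smul_ne_zero hs.root.neZero'.out (apply_ne_zero e (coe_ne_zero' hu))) h.symm
  have hexp : (i + t) % l = 1 := by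
    have h1 : ω ^ ((i + t) % l) = ω ^ 1 := by
      rw [← pow_eq_pow_mod _ hs.root.pow_eq_one, pow_add, hti, pow_one]
    exact hs.root.pow_inj (Nat.mod_lt _ hs.hl.pos) hs.hl.one_lt h1
  rcases Nat.lt_or_ge (i + t) l with h' | h'
  · rw [Nat.mod_eq_of_lt h'] at hexp
    omega
  · rw [Nat.mod_eq_sub_mod h', Nat.mod_eq_of_lt (by omega)] at hexp
    omega

/-- The recursion step. -/
theorem good_step [Finite V] (hs : Split E z e l ω) (hE : Layer E) {u v : X0 z}
    (hG : Good (sub0 E z) u v) :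
    ∃ x, Good E x (u : V) := by
  obtain ⟨hu, hv, hne, horb, hS⟩ := hG
  haveI := hs.neZero
  obtain ⟨w, hw2, hwv⟩ : ∃ w : X0 z, (l = 2 → w = 0) ∧ (l ≠ 2 → w = v) := by
    by_cases h : l = 2
    · exact ⟨0, fun _ => rfl, fun h' => absurd h h'⟩
    · exact ⟨v, fun h' => absurd h' h, fun _ => rfl⟩
  -- no element of the centraliser moves `u` onto `v`
  have horb' : ∀ b ∈ cz E z, ∀ μ : K, μ ≠ 0 → b (u : V) ≠ μ • (v : V) := by
    intro b hb μ hμ h
    obtain ⟨s, hsE, hss⟩ := hE.scalar μ⁻¹ (inv_ne_zero hμ)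
    have hf : s * b ∈ cz E z := (cz E z).mul_mem ⟨hsE, fun x => by rw [hss, hss, map_smul]⟩ hb
    refine horb _ (mem_sub0 hf) (Subtype.ext ?_)
    show s (b (u : V)) = v
    rw [h, map_smul, hss, smul_smul, mul_inv_cancel₀ hμ, one_smul]
  refine ⟨comb e u v w, hs.comb_ne_zero hu, coe_ne_zero' hu, ?_, hs.comb_orb hE hu hv hw2, ?_⟩
  · intro a ha μ heq
    rcases hs.ne_cases hE hu hv hne hw2 ha heq with h | ⟨hμ0, i, hi, hi0, b, hb, hab, hcomp, hi1⟩
    · exact h
    exfalso
    rcases hi1 with rfl | hi1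
    · have h := hcomp 1
      rw [mul_one, pow_one, hs.proj_zero_comb hw2, hs.proj_one_comb, hab, pow_one, map_smul,
        smul_comm μ] at h
      have h1 : b (v : V) = μ • (u : V) := by
        refine e.injective ?_
        rw [map_smul]
        exact smul_right_injective V hs.root.neZero'.out h
      refine horb' b⁻¹ ((cz E z).inv_mem hb) μ⁻¹ (inv_ne_zero hμ0) ?_
      refine b.injective ?_
      show b (b.symm (u : V)) = _
      rw [LinearEquiv.apply_symm_apply, map_smul, h1, smul_smul, inv_mul_cancel₀ hμ0, one_smul]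
    · have h := hcomp ω
      rw [← pow_succ, show i + 1 = l by omega, hs.root.pow_eq_one, hs.proj_zero_comb hw2, hs.proj_one_comb,
        hab, map_smul, smul_comm μ] at h
      have h' := smul_right_injective V hs.root.neZero'.out h
      change (e ^ i) (b (e (u : V))) = _ at h'
      obtain ⟨c, hc⟩ := hE.comm b hb.1 e hs.he
      have hc0 : c ≠ 0 := fun h => by
        have := hc (u : V)
        rw [h, zero_smul] at this
        exact apply_ne_zero b (apply_ne_zero e (coe_ne_zero' hu)) this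
      rw [hc, map_smul] at h'
      refine horb' (e ^ l * b) ((cz E z).mul_mem hs.pow_e_cz hb) (c⁻¹ * μ)
        (mul_ne_zero (inv_ne_zero hc0) hμ0) ?_
      rw [mul_smul, ← h', smul_smul, inv_mul_cancel₀ hc0, one_smul, show l = i + 1 by omega, pow_succ]
      rfl
  · refine (hs.stab hE hu hne hS hw2 (fun h => by rw [hwv h]; exact hv) ?_ ?_).symm
    · rcases eq_or_ne l 2 with h | h
      · exact ⟨0, 0, by rw [hw2 h]; simp⟩
      · exact ⟨0, 1, by rw [hwv h]; simp⟩
    · intro hl3 a ha h1 _ _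
      rw [hwv (by omega)] at h1
      obtain ⟨i, hi, b, hb, rfl⟩ := hs.decomp hE ha
      change (e ^ i) (b (u : V)) = _ at h1
      have h2 := hs.pow_e_comm i (b (u : V))
      rw [hb.2, mem_X0.1 u.2, h1, hs.e2_eigen v] at h2
      have h3 : ω ^ i = ω ^ 2 := by
        rw [pow_two]
        exact (eq_smul_of_smul (apply_ne_zero e (apply_ne_zero e (coe_ne_zero' hv))) h2).symm
      have h4 := hs.root.pow_inj hi (by omega) h3
      subst h4
      exact horb' b hb 1 one_ne_zero (by
        rw [one_smul]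
        exact (e ^ 2).injective h1)

end Split

end Cfsg.Agent.Solv.CopPair
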