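import Cfsg.Agent.Lib.Solv.CopPair.Group
import Cfsg.Agent.Lib.OddLocal.PiCoreBasics

/-!
Three conjugates of a Hall subgroup of a `π`-solvable group.
-/

set_option autoImplicit false
set_option linter.unusedSectionVars false
set_option linter.style.haveILetI false
set_option maxHeartbeats 800000

namespace Cfsg.Agent.Solv.CopPair

open Cfsg (piCore IsPiHall)
open Cfsg.Agent.OddLocal.Sig (PiNum piCore_pi le_piCore piCore_quotient)
open scoped Pointwise

universe u

variable {G : Type u} [Group G] [Finite G] {π : Set ℕ} {n : ℕ} {N : Fin (n + 1) → Subgroup G}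

/-- Hall–Higman: the `π'`-core contains its centraliser when the `π`-core is trivial. -/
theorem centralizer_le_core (hbot : N 0 = ⊥) (htop : N (Fin.last n) = ⊤) (hmono : Monotone N)
    (hnorm : ∀ i, (N i).Normal)
    (hstep : ∀ i : Fin n, (∃ p ∈ π, p.Prime ∧ ∃ k : ℕ, (N i.castSucc).relIndex (N i.succ) = p ^ k) ∨
      (∀ q : ℕ, q.Prime → q ∣ (N i.castSucc).relIndex (N i.succ) → q ∉ π))
    (h0 : piCore π G = ⊥) :
    Subgroup.centralizer (piCore πᶜ G : Set G) ≤ piCore πᶜ G := by
  obtain ⟨O, hO⟩ : ∃ O, O = piCore πᶜ G := ⟨_, rfl⟩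
  rw [← hO]
  haveI : O.Normal := hO ▸ inferInstance
  obtain ⟨C, hC⟩ : ∃ C, C = Subgroup.centralizer (O : Set G) := ⟨_, rfl⟩
  rw [← hC]
  haveI hCn : C.Normal := hC ▸ Subgroup.normal_centralizer
  suffices key : ∀ i : Fin (n + 1), N i ⊓ C ≤ O by
    simpa [htop] using key (Fin.last n)
  intro i
  induction i using Fin.induction with
  | zero => rw [hbot, bot_inf_eq]; exact bot_le
  | succ i ih =>
    haveI := hnorm i.succ
    haveI := hnorm i.castSucc
    obtain ⟨K, hK⟩ : ∃ K, K = N i.succ ⊓ C := ⟨_, rfl⟩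
    obtain ⟨A, hA⟩ : ∃ A, A = N i.castSucc ⊓ C := ⟨_, rfl⟩
    rw [← hK]
    rw [← hA] at ih
    haveI : K.Normal := hK ▸ Subgroup.normal_inf_normal _ _
    haveI : A.Normal := hA ▸ Subgroup.normal_inf_normal _ _
    have hle : N i.castSucc ≤ N i.succ := hmono (Fin.castSucc_lt_succ (i := i)).le
    have hAK : A ≤ K := by rw [hA, hK]; exact inf_le_inf_right _ hle
    have hdvd : A.relIndex K ∣ (N i.castSucc).relIndex (N i.succ) := by
      have hAeq : A = N i.castSucc ⊓ K := by rw [hA, hK, ← inf_assoc, inf_eq_left.mpr hle]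
      rw [hAeq, Subgroup.inf_relIndex_right, ← Subgroup.relIndex_sup_right]
      exact ⟨_, (Subgroup.relIndex_mul_relIndex _ _ _ le_sup_right
        (sup_le (hK ▸ inf_le_left) hle)).symm⟩
    have hApi : PiNum πᶜ (Nat.card A) :=
      (hO ▸ piCore_pi).of_dvd (Subgroup.card_dvd_of_le ih)
    have hcard : Nat.card A * A.relIndex K = Nat.card K := by
      rw [← Subgroup.relIndex_bot_left, Subgroup.relIndex_mul_relIndex _ _ _ bot_le hAK,
        Subgroup.relIndex_bot_left]
    rcases hstep i with ⟨p, hpπ, hp, m, hm⟩ | hco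
    · haveI := Fact.mk hp
      have hker : (QuotientGroup.mk' (A.subgroupOf K)).ker ≤ Subgroup.center K := by
        rw [QuotientGroup.ker_mk']
        intro a ha
        refine Subgroup.mem_center_iff.2 fun g => Subtype.ext ?_
        have hgC : (g : G) ∈ C := (hK.le g.2).2
        rw [hC] at hgC
        exact (Subgroup.mem_centralizer_iff.1 hgC (a : G) (ih ha)).symm
      obtain ⟨k, -, hk⟩ := (Nat.dvd_prime_pow hp).1 (hm ▸ hdvd)
      have hq : IsPGroup p (K ⧸ A.subgroupOf K) := IsPGroup.of_card (n := k) (by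
        rw [← hk]; rfl)
      haveI : Group.IsNilpotent (K ⧸ A.subgroupOf K) := hq.isNilpotent
      haveI : Group.IsNilpotent K := Subgroup.isNilpotent_of_ker_le_center _ hker
      obtain ⟨P⟩ : Nonempty (Sylow p K) := inferInstance
      haveI : (P : Subgroup K).Normal :=
        Sylow.normal_of_normalizerCondition (Group.normalizerCondition_of_isNilpotent (G := K)) P
      haveI : (P : Subgroup K).Characteristic := P.characteristic_of_normal inferInstance
      haveI : ((P : Subgroup K).map K.subtype).Normal := inferInstance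
      have h1 : (P : Subgroup K).map K.subtype = ⊥ := by
        rw [← le_bot_iff, ← h0]
        refine le_piCore _ fun r hr hd => ?_
        obtain ⟨j, hj⟩ := IsPGroup.iff_card.1 (P.isPGroup'.map K.subtype)
        rw [hj] at hd
        exact (Nat.prime_dvd_prime_iff_eq hr hp).1 (hr.dvd_of_dvd_pow hd) ▸ hpπ
      rw [Subgroup.map_eq_bot_iff_of_injective _ K.subtype_injective] at h1
      have h2 := P.not_dvd_index
      rw [h1, Subgroup.index_bot] at h2
      have hone : A.relIndex K = 1 := by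
        rw [hk]
        rcases k with _ | k
        · rw [pow_zero]
        · exact absurd ((dvd_pow_self p (Nat.succ_ne_zero k)).trans (hk ▸ Dvd.intro_left _ hcard)) h2
      exact (Subgroup.relIndex_eq_one.1 hone).trans ih
    · rw [hO]
      refine le_piCore K ?_
      rw [← hcard]
      exact hApi.mul fun q hq h => hco q hq (h.trans hdvd)

/-- The Hall subgroups are solvable. -/
theorem solvable_hall (hbot : N 0 = ⊥) (htop : N (Fin.last n) = ⊤) (hmono : Monotone N)
    (hnorm : ∀ i, (N i).Normal)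
    (hstep : ∀ i : Fin n, (∃ p ∈ π, p.Prime ∧ ∃ k : ℕ, (N i.castSucc).relIndex (N i.succ) = p ^ k) ∨
      (∀ q : ℕ, q.Prime → q ∣ (N i.castSucc).relIndex (N i.succ) → q ∉ π))
    {H : Subgroup G} (hH : PiNum π (Nat.card H)) : Group.IsSolvable H := by
  suffices key : ∀ i : Fin (n + 1), Group.IsSolvable (N i ⊓ H : Subgroup G) by
    have := key (Fin.last n)
    rwa [htop, top_inf_eq] at this
  intro i
  induction i using Fin.induction with
  | zero =>
    rw [hbot, bot_inf_eq]
    exact Group.isSolvable_of_comm fun a b => Subsingleton.elim _ _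
  | succ i ih =>
    haveI := hnorm i.castSucc
    haveI := ih
    obtain ⟨K, hK⟩ : ∃ K, K = N i.succ ⊓ H := ⟨_, rfl⟩
    rw [← hK]
    have hle : N i.castSucc ≤ N i.succ := hmono (Fin.castSucc_lt_succ (i := i)).le
    have hdvd : ((N i.castSucc).subgroupOf K).index ∣ (N i.castSucc).relIndex (N i.succ) := by
      show (N i.castSucc).relIndex K ∣ _
      rw [← Subgroup.relIndex_sup_right]
      exact ⟨_, (Subgroup.relIndex_mul_relIndex _ _ _ le_sup_right
        (sup_le (hK ▸ inf_le_left) hle)).symm⟩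
    haveI : Group.IsSolvable ((N i.castSucc).subgroupOf K) :=
      Group.isSolvable_of_isSolvable_injective
        (f := ((Subgroup.inclusion (le_inf inf_le_left (inf_le_right.trans (hK ▸ inf_le_right)) :
          N i.castSucc ⊓ K ≤ N i.castSucc ⊓ H)).comp
            (MonoidHom.mk' (fun x : (N i.castSucc).subgroupOf K =>
              (⟨((x : K) : G), x.2, (x : K).2⟩ : (N i.castSucc ⊓ K : Subgroup G))) fun _ _ => rfl)))
        fun x y h => by
          have := congrArg (fun z : (N i.castSucc ⊓ H : Subgroup G) => (z : G)) h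
          exact Subtype.ext (Subtype.ext this)
    have hquot : Group.IsSolvable (K ⧸ (N i.castSucc).subgroupOf K) := by
      have hKpi : PiNum π ((N i.castSucc).subgroupOf K).index :=
        hH.of_dvd ((Subgroup.index_dvd_card _).trans (Subgroup.card_dvd_of_le (hK ▸ inf_le_right)))
      rcases hstep i with ⟨p, -, hp, m, hm⟩ | hco
      · haveI := Fact.mk hp
        obtain ⟨k, -, hk⟩ := (Nat.dvd_prime_pow hp).1 (hm ▸ hdvd)
        haveI : Group.IsNilpotent (K ⧸ (N i.castSucc).subgroupOf K) :=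
          (IsPGroup.of_card (p := p) (n := k) hk).isNilpotent
        infer_instance
      · have h1 : ((N i.castSucc).subgroupOf K).index = 1 := by
          by_contra hne
          obtain ⟨q, hq, hd⟩ := Nat.exists_prime_and_dvd hne
          exact hco q hq (hd.trans hdvd) (hKpi q hq hd)
        haveI : Subsingleton (K ⧸ (N i.castSucc).subgroupOf K) :=
          Finite.card_le_one_iff_subsingleton.1 h1.le
        exact Group.isSolvable_of_comm fun a b => Subsingleton.elim _ _
    exact (Group.isSolvable_iff_subgroup_quotient ((N i.castSucc).subgroupOf K)).2 ⟨inferInstance, hquot⟩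

/-- Three conjugates of a Hall subgroup meet in the `π`-core. -/
theorem three_conjugates (hbot : N 0 = ⊥) (htop : N (Fin.last n) = ⊤) (hmono : Monotone N)
    (hnorm : ∀ i, (N i).Normal)
    (hstep : ∀ i : Fin n, (∃ p ∈ π, p.Prime ∧ ∃ k : ℕ, (N i.castSucc).relIndex (N i.succ) = p ^ k) ∨
      (∀ q : ℕ, q.Prime → q ∣ (N i.castSucc).relIndex (N i.succ) → q ∉ π))
    {H : Subgroup G} (hH : IsPiHall π H) :
    ∃ x y : G, H ⊓ MulAut.conj x • H ⊓ MulAut.conj y • H = piCore π G := by
  classical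
  obtain ⟨O, hO⟩ : ∃ O, O = piCore π G := ⟨_, rfl⟩
  haveI : O.Normal := hO ▸ inferInstance
  have hOH : O ≤ H := by
    have hpi : PiNum π (Nat.card (H ⊔ O : Subgroup G)) :=
      ((hO ▸ piCore_pi).mul hH.1).of_dvd (OddLocal.Sig.card_sup_dvd H O)
    have h1 : H.relIndex (H ⊔ O) = 1 := by
      by_contra hne
      obtain ⟨q, hq, hd⟩ := Nat.exists_prime_and_dvd hne
      exact hH.2 q hq (hpi q hq (hd.trans (Subgroup.relIndex_dvd_card _ _)))
        (hd.trans ⟨_, (Subgroup.relIndex_mul_index le_sup_left).symm⟩)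
    exact le_sup_right.trans (Subgroup.relIndex_eq_one.1 h1)
  let q : G →* G ⧸ O := QuotientGroup.mk' O
  have hq : Function.Surjective q := QuotientGroup.mk'_surjective O
  obtain ⟨M, hM⟩ : ∃ M : Fin (n + 1) → Subgroup (G ⧸ O), M = fun i => (N i).map q := ⟨_, rfl⟩
  have hMstep : ∀ i : Fin n, (∃ p ∈ π, p.Prime ∧ ∃ k : ℕ, (M i.castSucc).relIndex (M i.succ) = p ^ k) ∨
      (∀ r : ℕ, r.Prime → r ∣ (M i.castSucc).relIndex (M i.succ) → r ∉ π) := by
    intro i
    have hdvd : (M i.castSucc).relIndex (M i.succ) ∣ (N i.castSucc).relIndex (N i.succ) := by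
      rw [hM]
      show ((N i.castSucc).map q).relIndex ((N i.succ).map q) ∣ _
      haveI := hnorm i.castSucc
      haveI : (N i.castSucc ⊔ q.ker).Normal := inferInstance
      rw [Subgroup.relIndex_map_map, show N i.succ ⊔ q.ker = N i.succ ⊔ (N i.castSucc ⊔ q.ker) by
        rw [← sup_assoc, sup_eq_left.2 (hmono (Fin.castSucc_lt_succ (i := i)).le : N i.castSucc ≤ N i.succ)],
        Subgroup.relIndex_sup_right]
      exact Subgroup.relIndex_dvd_of_le_left _ le_sup_left
    rcases hstep i with ⟨p, hpπ, hp, k, hk⟩ | hco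
    · obtain ⟨j, -, hj⟩ := (Nat.dvd_prime_pow hp).1 (hk ▸ hdvd)
      exact Or.inl ⟨p, hpπ, hp, j, hj⟩
    · exact Or.inr fun r hr hd => hco r hr (hd.trans hdvd)
  have hM0 : M 0 = ⊥ := by rw [hM]; show (N 0).map q = ⊥; rw [hbot, Subgroup.map_bot]
  have hMn : M (Fin.last n) = ⊤ := by
    rw [hM]; show (N _).map q = ⊤; rw [htop, Subgroup.map_top_of_surjective q hq]
  have hMmono : Monotone M := fun i j h => by rw [hM]; exact Subgroup.map_mono (hmono h)
  have hMnorm : ∀ i, (M i).Normal := fun i => by rw [hM]; exact (hnorm i).map q hq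
  have hcore : piCore π (G ⧸ O) = ⊥ := by subst hO; exact piCore_quotient
  obtain ⟨K, hK⟩ : ∃ K, K = piCore πᶜ (G ⧸ O) := ⟨_, rfl⟩
  haveI : K.Normal := hK ▸ inferInstance
  have hcent : Subgroup.centralizer (K : Set (G ⧸ O)) ≤ K :=
    hK ▸ centralizer_le_core hM0 hMn hMmono hMnorm hMstep hcore
  obtain ⟨B, hB⟩ : ∃ B, B = H.map q := ⟨_, rfl⟩
  have hBpi : PiNum π (Nat.card B) := (show PiNum π (Nat.card H) from hH.1).of_dvd
    (hB ▸ Subgroup.card_map_dvd (H := H) q)
  have hsol : Group.IsSolvable B := solvable_hall hM0 hMn hMmono hMnorm hMstep hBpi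
  have hcop : Nat.Coprime (Nat.card B) (Nat.card K) := Nat.coprime_of_dvd fun r hr h1 h2 =>
    (hK ▸ piCore_pi : PiNum πᶜ (Nat.card K)) r hr h2 (hBpi r hr h1)
  have hBK : ∀ g ∈ B, g ∈ K → g = 1 := fun g hg hgK => by
    have := Subgroup.inf_eq_bot_of_coprime hcop
    exact Subgroup.mem_bot.1 (this ▸ Subgroup.mem_inf.2 ⟨hg, hgK⟩)
  letI : MulDistribMulAction B K :=
    { smul := fun b k => ⟨(b : G ⧸ O) * k * (b : G ⧸ O)⁻¹, ‹K.Normal›.conj_mem k k.2 b⟩
      one_smul := fun k => Subtype.ext (show ((1 : B) : G ⧸ O) * k * ((1 : B) : G ⧸ O)⁻¹ = k by simp)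
      mul_smul := fun a b k => Subtype.ext (show ((a * b : B) : G ⧸ O) * k * ((a * b : B) : G ⧸ O)⁻¹ =
        (a : G ⧸ O) * ((b : G ⧸ O) * k * (b : G ⧸ O)⁻¹) * (a : G ⧸ O)⁻¹ by rw [Subgroup.coe_mul]; group)
      smul_mul := fun b k l => Subtype.ext (show (b : G ⧸ O) * ((k * l : K) : G ⧸ O) * (b : G ⧸ O)⁻¹ =
        (b : G ⧸ O) * k * (b : G ⧸ O)⁻¹ * ((b : G ⧸ O) * l * (b : G ⧸ O)⁻¹) by rw [Subgroup.coe_mul]; group)
      smul_one := fun b => Subtype.ext (show (b : G ⧸ O) * ((1 : K) : G ⧸ O) * (b : G ⧸ O)⁻¹ = 1 by simp) }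
  obtain ⟨x, y, hxy⟩ := pair_of_group (A := B) (K := K) hsol hcop fun b hb => by
    refine Subtype.ext (hBK b b.2 (hcent (Subgroup.mem_centralizer_iff.2 fun k hk => ?_)))
    have h1 : (b : G ⧸ O) * k * (b : G ⧸ O)⁻¹ = k := congrArg Subtype.val (hb ⟨k, hk⟩)
    nth_rewrite 1 [← h1]
    rw [inv_mul_cancel_right]
  obtain ⟨x', hx'⟩ := hq (x : G ⧸ O)
  obtain ⟨y', hy'⟩ := hq (y : G ⧸ O)
  refine ⟨x', y', ?_⟩
  rw [← hO]
  refine le_antisymm (fun g hg => ?_) ?_
  · obtain ⟨⟨hgH, hgx⟩, hgy⟩ := hg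
    have hgB : q g ∈ B := hB ▸ ⟨g, hgH, rfl⟩
    have move : ∀ (z : K) (z' : G), q z' = z → g ∈ MulAut.conj z' • H → (⟨q g, hgB⟩ : B) • z = z := by
      intro z z' hz hgz
      rw [Subgroup.mem_pointwise_smul_iff_inv_smul_mem, ← map_inv, MulAut.smul_def, MulAut.conj_apply,
        inv_inv] at hgz
      refine Subtype.ext ?_
      show q g * (z : G ⧸ O) * (q g)⁻¹ = z
      have h2 : (z : G ⧸ O)⁻¹ * q g * z * (q g)⁻¹ = 1 := by
        refine hBK _ (mul_mem ?_ (inv_mem hgB)) ?_
        · rw [← hz, ← map_inv, ← map_mul, ← map_mul]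
          exact hB ▸ ⟨_, hgz, rfl⟩
        · rw [mul_assoc, mul_assoc, ← mul_assoc (q g)]
          exact mul_mem (inv_mem z.2) (‹K.Normal›.conj_mem z z.2 (q g))
      have h3 : (z : G ⧸ O)⁻¹ * (q g * z * (q g)⁻¹) = 1 := by rw [← h2]; group
      exact (inv_mul_eq_one.1 h3).symm
    have h1 := congrArg Subtype.val (hxy ⟨q g, hgB⟩ (move x x' hx' hgx) (move y y' hy' hgy))
    exact (QuotientGroup.eq_one_iff g).1 h1
  · have hcj : ∀ z : G, O ≤ MulAut.conj z • H := fun z g hg => by
      rw [Subgroup.mem_pointwise_smul_iff_inv_smul_mem, ← map_inv, MulAut.smul_def, MulAut.conj_apply]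
      exact hOH (‹O.Normal›.conj_mem g hg z⁻¹)
    exact le_inf (le_inf hOH (hcj x')) (hcj y')

end Cfsg.Agent.Solv.CopPair
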