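import Cfsg.Agent.Lib.Solv.CopPair.PrimThree
import Cfsg.Agent.Lib.Solv.Triple.Prim

/-!
Bases of two vectors for quasi-primitive solvable groups of coprime order.
-/

set_option autoImplicit false
set_option linter.unusedSectionVars false
set_option linter.style.haveILetI false
set_option maxHeartbeats 800000

namespace Cfsg.Agent.Solv.CopPair

open Cfsg.Agent.Solv.OddPair (Base Extra MaxAb exists_extra imgRing mem_imgRing imgRing_comm imgRing_conj)

universe u v

/-- The quasi-primitive case. -/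
theorem primitive2 {A : Type u} {V : Type v} [Group A] [Finite A] [AddCommGroup V] [Finite V]
    [Nontrivial V] [DistribMulAction A V] (hA : Group.IsSolvable A) (hodd : Odd (Nat.card V))
    (hcop : Nat.Coprime (Nat.card A) (Nat.card V))
    (hf : ∀ a : A, (∀ x : V, a • x = x) → a = 1)
    (hfield : ∀ N : Subgroup A, N.Normal → (∀ x ∈ N, ∀ y ∈ N, Commute x y) →
      ∀ b ∈ imgRing V N, ∀ x : V, x ≠ 0 → b x = 0 → b = 0) : Base A V := by
  classical
  let P : Subgroup A → Prop := fun N => N.Normal ∧ ∀ x ∈ N, ∀ y ∈ N, Commute x y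
  obtain ⟨Z, -, hZmax⟩ := (Set.toFinite {N | P N}).exists_le_maximal (a := ⊥)
    (show P ⊥ from ⟨inferInstance, fun x hx y _ => by rw [Subgroup.mem_bot.1 hx]; exact Commute.one_left y⟩)
  obtain ⟨hZn, hZc⟩ := hZmax.prop
  haveI := hZn
  have hmax : MaxAb Z := fun N hN hNc hle => hZmax.2 (show P N from ⟨hN, hNc⟩) hle
  let τ := DistribMulAction.toAddMonoidEnd A V
  let R := imgRing V Z
  obtain ⟨v0, hv0⟩ := exists_ne (0 : V)
  haveI : Finite (AddMonoid.End V) := Finite.of_injective (fun f : AddMonoid.End V => (f : V → V))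
    DFunLike.coe_injective
  haveI : Nontrivial R := ⟨⟨0, 1, fun h => hv0
    ((DFunLike.congr_fun (congrArg Subtype.val h) v0 : (0 : V) = v0).symm)⟩⟩
  letI : CommRing R :=
    { (inferInstance : Ring R) with
      mul_comm := fun a b =>
        Subtype.ext (imgRing_comm hZc (a : AddMonoid.End V) a.2 (b : AddMonoid.End V) b.2 :) }
  haveI : NoZeroDivisors R := ⟨fun {a b} hab => by
    by_cases hb : b = 0
    · exact Or.inr hb
    left
    obtain ⟨x, hx⟩ : ∃ x, (b : AddMonoid.End V) x ≠ 0 := by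
      by_contra h
      push Not at h
      exact hb (Subtype.ext (DFunLike.ext _ _ h))
    exact Subtype.ext (hfield Z hZn hZc a a.2 _ hx (DFunLike.congr_fun (congrArg Subtype.val hab) x))⟩
  haveI : IsDomain R := NoZeroDivisors.to_isDomain R
  letI : Fintype R := Fintype.ofFinite R
  letI : Field R := Fintype.fieldOfDomain R
  let ι : Z →* R :=
    { toFun := fun z => ⟨τ z, mem_imgRing z.2⟩
      map_one' := Subtype.ext (map_one τ)
      map_mul' := fun a b => Subtype.ext (map_mul τ (a : A) b) }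
  have hιsmul : ∀ (z : Z) (x : V), ι z • x = (z : A) • x := fun z x => rfl
  have hι : Function.Injective ι := fun a b h => by
    have h1 : ∀ x : V, (a : A) • x = (b : A) • x := fun x => by rw [← hιsmul, ← hιsmul, h]
    exact Subtype.ext (inv_mul_eq_one.1 (hf ((b : A)⁻¹ * a) fun x => by
      rw [mul_smul, h1, inv_smul_smul])).symm
  by_cases hCZ : Subgroup.centralizer (Z : Set A) ≤ Z
  · haveI : IsCyclic Z := isCyclic_of_subgroup_isDomain ι hι
    obtain ⟨z, hz⟩ := IsCyclic.exists_generator (α := Z)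
    refine ⟨v0, (z : A) • v0, fun g hg1 hg2 => ?_⟩
    have hfree : ∀ (w : Z), (w : A) • v0 = v0 → w = 1 := by
      intro w hw
      refine hι ?_
      rw [map_one]
      by_contra hne
      have h1 : (ι w - 1) • v0 = 0 := by rw [sub_smul, one_smul, hιsmul, hw, sub_self]
      exact hv0 ((smul_eq_zero.1 h1).resolve_left (sub_ne_zero.2 hne))
    let w : Z := ⟨(z : A)⁻¹ * (g * z * g⁻¹), Z.mul_mem (Z.inv_mem z.2) (hZn.conj_mem z z.2 g)⟩
    have hw : w = 1 := hfree w (by
      show ((z : A)⁻¹ * (g * z * g⁻¹)) • v0 = v0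
      rw [mul_smul, mul_smul, mul_smul, inv_smul_eq_iff.2 hg1.symm, hg2, inv_smul_smul])
    have hgz : g * (z : A) = z * g := by
      have h1 : (z : A)⁻¹ * (g * z * g⁻¹) = 1 := congrArg Subtype.val hw
      rw [inv_mul_eq_one] at h1
      nth_rewrite 2 [h1]
      rw [inv_mul_cancel_right]
    have hgC : g ∈ Subgroup.centralizer (Z : Set A) := Subgroup.mem_centralizer_iff.2 fun y hy => by
      obtain ⟨i, hi⟩ := Subgroup.mem_zpowers_iff.1 (hz ⟨y, hy⟩)
      have h1 : (z : A) ^ i = y := by rw [← SubgroupClass.coe_zpow, hi]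
      rw [← h1]
      exact ((show Commute g (z : A) from hgz).zpow_right i).eq.symm
    intro x
    rw [show g = 1 from congrArg Subtype.val (hfree ⟨g, hCZ hgC⟩ hg1), one_smul]
  obtain ⟨E, hx, hEZ⟩ := exists_extra hA hZc hmax ι hι hCZ
  have h : Ctx V R Z E ι :=
    { hf := hf, hι := hι, hιsmul := hιsmul, hx := hx, hmax := hmax, hEZ := hEZ
      hsemi := fun a k => ⟨⟨τ a * k * τ a⁻¹, imgRing_conj hZn a k.2⟩, fun v => by
        show a • (k : AddMonoid.End V) v = a • (k : AddMonoid.End V) (a⁻¹ • a • v)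
        rw [inv_smul_smul]⟩
      hlin := fun g hg k x => by
        have h1 : imgRing V Z ≤ Subring.centralizer {τ g} := by
          rw [imgRing, Subring.closure_le]
          rintro _ ⟨z, hz, rfl⟩
          refine Subring.mem_centralizer_iff.2 fun t ht => ?_
          rw [Set.mem_singleton_iff.1 ht, ← map_mul, ← map_mul,
            ← Subgroup.mem_centralizer_iff.1 hg z hz]
        exact DFunLike.congr_fun (Subring.mem_centralizer_iff.1 (h1 k.2) (τ g) rfl) x }
  obtain ⟨q, hq⟩ : ∃ q, q = Nat.card R := ⟨_, rfl⟩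
  have hVq : Nat.card V = q ^ Module.finrank R V := hq ▸ Module.natCard_eq_pow_finrank
  have hr : Module.finrank R V ≠ 0 := fun h0 => by
    have := Finite.one_lt_card (α := V)
    rw [hVq, h0, pow_zero] at this; omega
  have hqodd : Odd q := (Nat.odd_pow_iff hr).1 (hVq ▸ hodd)
  have hq1 : 1 < q := hq ▸ Finite.one_lt_card
  have hzero : (q : R) = 0 := by
    rw [hq, Nat.card_eq_fintype_card]; exact Nat.cast_card_eq_zero R
  have h2 : (2 : R) ≠ 0 := fun h0 => by
    obtain ⟨k, hk⟩ := hqodd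
    have h1 : (((2 * k + 1 : ℕ)) : R) = 0 := hk ▸ hzero
    push_cast at h1
    rw [h0, zero_mul, zero_add] at h1
    exact one_ne_zero h1
  obtain ⟨g, hg⟩ := IsCyclic.exists_generator (α := Rˣ)
  have hord : orderOf g = q - 1 := by
    rw [orderOf_eq_card_of_forall_mem_zpowers hg, Nat.card_units, hq]
  have hγ : ∀ k : R, k ≠ 0 → ∃ n : ℕ, k = (g : R) ^ n := fun k hk => by
    obtain ⟨n, -, hn⟩ := Finset.mem_image.1 (mem_zpowers_iff_mem_range_orderOf.1 (hg (Units.mk0 k hk)))
    exact ⟨n, by rw [← Units.val_pow_eq_pow_val, hn, Units.val_mk0]⟩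
  have hne : ∀ i : ℕ, i ≠ 0 → i < q - 1 → (g : R) ^ i ≠ 1 := fun i h0 hi hpow => by
    refine pow_ne_one_of_lt_orderOf h0 (hord ▸ hi) ?_
    exact Units.ext (by rw [Units.val_pow_eq_pow_val, hpow, Units.val_one])
  haveI := hA
  by_cases h7 : 7 ≤ q
  · obtain ⟨x, y, hG⟩ := exists_good hγ (hne 3 (by omega) (by omega)) (hne 4 (by omega) (by omega)) h2
      (Nat.card V) h.L le_rfl h.layer h.not_isSc
    exact h.finish hG.2.2.2.2
  have hq35 : q = 3 ∨ q = 5 := by
    obtain ⟨k, hk⟩ := hqodd
    omega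
  rcases hq35 with h3 | h5
  · haveI : Fact (Nat.Prime 3) := ⟨Nat.prime_three⟩
    refine base_three h (fun k => ?_) h2 fun h3A => ?_
    · by_cases hk : k = 0
      · exact Or.inl hk
      obtain ⟨n, hn⟩ := hγ k hk
      have hg2 : (g : R) * g = 1 := by
        rw [← pow_two, ← Units.val_pow_eq_pow_val, show (2 : ℕ) = orderOf g by omega, pow_orderOf_eq_one,
          Units.val_one]
      rcases mul_self_eq_one_iff.1 (show k * k = 1 by rw [hn, ← mul_pow, hg2, one_pow]) with h1 | h1
      · exact Or.inr (Or.inl h1)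
      · exact Or.inr (Or.inr h1)
    · have h3V : 3 ∣ Nat.card V := by rw [hVq, h3]; exact dvd_pow_self 3 hr
      exact Nat.not_coprime_of_dvd_of_dvd (by norm_num : 1 < 3) h3A h3V hcop
  · haveI : Fact (Nat.Prime 5) := fact_five
    haveI : CharP R 5 := by
      refine (CharP.charP_iff_prime_eq_zero (R := R) (by norm_num)).2 ?_
      exact h5 ▸ hzero
    have hK : ∀ k : R, ∃ a : ZMod 5, k = ZMod.castHom dvd_rfl R a := fun k => by
      have hb : Function.Bijective (ZMod.castHom (dvd_refl 5) R) := by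
        refine (Fintype.bijective_iff_injective_and_card _).2 ⟨RingHom.injective _, ?_⟩
        rw [ZMod.card, ← Nat.card_eq_fintype_card, ← hq, h5]
      obtain ⟨a, ha⟩ := hb.2 k
      exact ⟨a, ha.symm⟩
    obtain ⟨x, y, hS, -⟩ := exists_five hK hγ (hne 3 (by omega) (by omega)) h2 (Nat.card V) h.L le_rfl
      h.layer (h.layer_sq hK) h.not_isSc
    exact h.finish hS

end Cfsg.Agent.Solv.CopPair
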