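import Cfsg.Agent.Lib.Solv.CopPair.Five
import Cfsg.Agent.Lib.Solv.OddPair.Extra

/-!
The layer of a quasi-primitive solvable group.
-/

set_option autoImplicit false
set_option linter.unusedSectionVars false
set_option linter.style.haveILetI false
set_option maxHeartbeats 800000

namespace Cfsg.Agent.Solv.CopPair

open Cfsg.Agent.Solv.OddPair (Base Extra MaxAb card_conj_le)

universe u v w

/-- A group with its layer, acting semilinearly. -/
structure Ctx {A : Type u} [Group A] (V : Type v) [AddCommGroup V] [DistribMulAction A V]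
    (K : Type w) [Field K] [Module K V] (Z E : Subgroup A) (ι : Z →* K) : Prop where
  hf : ∀ a : A, (∀ x : V, a • x = x) → a = 1
  hι : Function.Injective ι
  hιsmul : ∀ (z : Z) (x : V), ι z • x = (z : A) • x
  hsemi : ∀ (a : A) (k : K), ∃ k' : K, ∀ x : V, a • k • x = k' • a • x
  hlin : ∀ g ∈ Subgroup.centralizer (Z : Set A), ∀ (k : K) (x : V), g • k • x = k • g • x
  hx : Extra Z E
  hmax : MaxAb Z
  hEZ : ¬E ≤ Z

variable {A : Type u} [Group A] {V : Type v} [AddCommGroup V] [DistribMulAction A V]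
  {K : Type w} [Field K] [Module K V] {Z E : Subgroup A} {ι : Z →* K}

/-- Multiples of elements of the layer. -/
def layerE (K : Type w) [Field K] (V : Type v) [AddCommGroup V] [DistribMulAction A V] [Module K V]
    (E : Subgroup A) (hlinE : ∀ e ∈ E, ∀ (k : K) (x : V), e • k • x = k • e • x) : Subgroup (V ≃ₗ[K] V) where
  carrier := {a | ∃ k : K, k ≠ 0 ∧ ∃ e ∈ E, ∀ x, a x = k • e • x}
  one_mem' := ⟨1, one_ne_zero, 1, one_mem E, fun x => by rw [one_smul, one_smul]; rfl⟩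
  mul_mem' := fun {a b} ⟨k, hk, e, he, ha⟩ ⟨l, hl, f, hf, hb⟩ =>
    ⟨k * l, mul_ne_zero hk hl, e * f, mul_mem he hf, fun x => by
      show a (b x) = _
      rw [hb, map_smul, ha, smul_smul, mul_comm l k, mul_smul e f]⟩
  inv_mem' := fun {a} ⟨k, hk, e, he, ha⟩ => ⟨k⁻¹, inv_ne_zero hk, e⁻¹, inv_mem he, fun x => by
    show a.symm x = _
    refine a.injective ?_
    rw [LinearEquiv.apply_symm_apply, ha, hlinE e he, smul_smul, mul_inv_cancel₀ hk, one_smul,
      smul_inv_smul]⟩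

section

attribute [local instance] fact_five

theorem nonsq_mul : ∀ a : ZMod 5, a ≠ 0 → ∀ b : ZMod 5, b ≠ 0 → (∀ c, a ≠ c * c) → (∀ c, b ≠ c * c) →
    ∃ c, a * b = c * c := by decide +kernel

theorem two_two : (2 : ZMod 5) * 2 = -1 := by decide +kernel

end

namespace Ctx

variable (h : Ctx V K Z E ι)

include h

theorem hlinE : ∀ e ∈ E, ∀ (k : K) (x : V), e • k • x = k • e • x :=
  fun e he => h.hlin e (h.hx.le_centralizer he)

theorem central : ∀ e ∈ E, ∀ z ∈ Z, z * e = e * z := fun e he z hz =>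
  Subgroup.mem_centralizer_iff.1 (h.hx.le_centralizer he) z hz

/-- The layer of a context. -/
def L : Subgroup (V ≃ₗ[K] V) := layerE K V E h.hlinE

/-- An element of `E` as a member of the layer. -/
theorem exists_lin {e : A} (he : e ∈ E) : ∃ a ∈ h.L, ∀ x, a x = e • x := by
  refine ⟨{ DistribMulAction.toAddEquiv V e with map_smul' := fun k x => h.hlinE e he k x },
    ⟨1, one_ne_zero, e, he, fun x => by rw [one_smul]; rfl⟩, fun x => rfl⟩

theorem mem_Z_of_commutes {e : A} (he : e ∈ E) (hc : ∀ f ∈ E, ∀ x : V, e • f • x = f • e • x) : e ∈ Z := by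
  refine h.hx.center_le e he fun f hf' => ?_
  have h1 : (e * f)⁻¹ * (f * e) = 1 := h.hf _ fun x => by
    rw [mul_smul, inv_smul_eq_iff, mul_smul, mul_smul, hc f hf']
  exact inv_mul_eq_one.1 h1

theorem not_isSc : ¬∀ a ∈ h.L, IsSc a := by
  intro hsc
  refine h.hEZ fun e he => h.mem_Z_of_commutes he fun f hf' x => ?_
  obtain ⟨a, ha, hax⟩ := h.exists_lin he
  obtain ⟨c, hc⟩ := hsc a ha
  have e1 : ∀ y, e • y = c • y := fun y => by rw [← hax, hc]
  rw [e1, e1, h.hlinE f hf']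

/-- An element of `Z` fixing a nonzero vector is trivial. -/
theorem eq_one_of_fix {z : A} (hz : z ∈ Z) {x : V} (hx0 : x ≠ 0) (hfix : z • x = x) : z = 1 := by
  have h1 : ι ⟨z, hz⟩ = 1 := eq_smul_of_smul hx0 (by rw [h.hιsmul, one_smul]; exact hfix)
  rw [← map_one ι] at h1
  exact congrArg Subtype.val (h.hι h1)

/-- Being trivial on the layer. -/
theorem mem_Z_of_fixes {g : A} (hfix : Fixes (DistribMulAction.toAddEquiv V g) h.L) : g ∈ Z := by
  have hgC : g ∈ Subgroup.centralizer (Z : Set A) := Subgroup.mem_centralizer_iff.2 fun z hz => by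
    refine inv_mul_eq_one.1 (h.hf _ fun x => ?_)
    rw [mul_smul, inv_smul_eq_iff, mul_smul, mul_smul, ← h.hιsmul ⟨z, hz⟩, ← h.hιsmul ⟨z, hz⟩]
    exact hfix.1 _ x
  have hcom : ∀ e ∈ E, g * e = e * g := fun e he => by
    obtain ⟨a, ha, hax⟩ := h.exists_lin he
    refine (inv_mul_eq_one.1 (h.hf _ fun x => ?_)).symm
    have h1 : g • a x = a (g • x) := hfix.2 a ha x
    rw [hax, hax] at h1
    rw [mul_smul, inv_smul_eq_iff, mul_smul, mul_smul, h1]
  have hgE : g ∈ E := h.hx.outside g hgC fun n hn => by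
    rw [hcom n hn, mul_inv_cancel_right, mul_inv_cancel]; exact one_mem Z
  exact h.hx.center_le g hgE fun e he => hcom e he

theorem norm_smul (g : A) : Norm (DistribMulAction.toAddEquiv V g) h.L := by
  rintro a ⟨k, hk, e, he, ha⟩
  obtain ⟨k', hk'⟩ := h.hsemi g k
  obtain ⟨b, hb, hbx⟩ := h.exists_lin (h.hx.normal.conj_mem e he g)
  have key : ∀ x, g • a x = k' • b (g • x) := fun x => by
    rw [ha, hk', hbx, mul_smul, mul_smul, inv_smul_smul]
  by_cases hk0 : k' = 0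
  · refine ⟨1, one_mem h.L, fun x => ?_⟩
    have h1 : g • a x = 0 := by rw [key, hk0, zero_smul]
    have h2 : x = 0 := a.injective (by rw [(smul_eq_zero_iff_eq g).1 h1, map_zero])
    show g • a x = g • x
    rw [h1, h2, smul_zero]
  obtain ⟨l, hl, f, hf', hbf⟩ := hb
  let s : V ≃ₗ[K] V := LinearEquiv.smulOfNeZero K V k' hk0
  refine ⟨s * b, mul_mem ⟨k', hk0, 1, one_mem E, fun x => by rw [one_smul]; rfl⟩ ⟨l, hl, f, hf', hbf⟩,
    fun x => key x⟩

theorem semi_smul (g : A) : Semi K (DistribMulAction.toAddEquiv V g) := h.hsemi g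

/-- A stabilised pair gives a base. -/
theorem finish {x y : V} (hS : Stab h.L x y) : Base A V := by
  refine ⟨x, y, fun g hgx hgy => ?_⟩
  have hgZ : ∀ g : A, g • x = x → g • y = y → g ∈ Z := fun g h1 h2 =>
    h.mem_Z_of_fixes (hS _ (h.semi_smul g) (h.norm_smul g) h1 h2)
  by_cases hx0 : x = 0
  · by_cases hy0 : y = 0
    · exact absurd (fun e _ => hgZ e (by rw [hx0, smul_zero]) (by rw [hy0, smul_zero])) h.hEZ
    · intro v; rw [h.eq_one_of_fix (hgZ g hgx hgy) hy0 hgy, one_smul]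
  · intro v; rw [h.eq_one_of_fix (hgZ g hgx hgy) hx0 hgx, one_smul]

variable [Finite A] [Z.Normal]

omit [Z.Normal] in
theorem comm_pow {x y : A} (hx' : x ∈ E) (hy : y ∈ E) :
    ∀ i : ℕ, x ^ i * y * (x ^ i)⁻¹ = (x * y * x⁻¹ * y⁻¹) ^ i * y := by
  intro i
  induction i with
  | zero => simp
  | succ i ih =>
    have hc : (x * y * x⁻¹ * y⁻¹) ^ i * x = x * (x * y * x⁻¹ * y⁻¹) ^ i :=
      h.central x hx' _ (pow_mem (h.hx.inZ x hx' y hy) i)
    calc x ^ (i + 1) * y * (x ^ (i + 1))⁻¹ = x * (x ^ i * y * (x ^ i)⁻¹) * x⁻¹ := by rw [pow_succ']; group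
      _ = x * ((x * y * x⁻¹ * y⁻¹) ^ i * y) * x⁻¹ := by rw [ih]
      _ = (x * y * x⁻¹ * y⁻¹) ^ i * x * y * x⁻¹ := by rw [hc]; group
      _ = (x * y * x⁻¹ * y⁻¹) ^ (i + 1) * y := by rw [pow_succ]; group

/-- The layer has squarefree exponent modulo `Z`. -/
theorem exists_expo : ∃ m : ℕ, Squarefree m ∧ ∀ e ∈ E, e ^ m ∈ Z := by
  classical
  obtain ⟨m, hm⟩ : ∃ m, m = Monoid.exponent (E ⧸ Z.subgroupOf E) := ⟨_, rfl⟩
  have hm0 : m ≠ 0 := hm ▸ Monoid.exponent_ne_zero_of_finite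
  have hmZ : ∀ e ∈ E, e ^ m ∈ Z := fun e he => by
    have h1 := Monoid.pow_exponent_eq_one ((⟨e, he⟩ : E) : E ⧸ Z.subgroupOf E)
    rw [← QuotientGroup.mk_pow, ← hm, QuotientGroup.eq_one_iff] at h1
    exact h1
  refine ⟨m, ?_, hmZ⟩
  rw [Nat.squarefree_iff_prime_squarefree]
  intro l hl hdvd
  obtain ⟨q, hq⟩ := hdvd
  obtain ⟨a, ha⟩ : ∃ a, a = l * q := ⟨_, rfl⟩
  let S : Set A := (Z : Set A) ∪ {t | ∃ e ∈ E, t = e ^ a}
  let N := Subgroup.normalClosure S
  have hSE : ∀ t ∈ S, t ∈ E := by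
    rintro t (ht | ⟨e, he, rfl⟩)
    · exact h.hx.le ht
    · exact pow_mem he a
  have hSinv : Group.conjugatesOfSet S ⊆ S := by
    intro t ht
    obtain ⟨s, hs, hconj⟩ := Group.mem_conjugatesOfSet_iff.1 ht
    obtain ⟨g, hg⟩ := isConj_iff.1 hconj
    rcases hs with hs | ⟨e, he, rfl⟩
    · exact Or.inl (hg ▸ ‹Z.Normal›.conj_mem s hs g)
    · refine Or.inr ⟨g * e * g⁻¹, h.hx.normal.conj_mem e he g, ?_⟩
      rw [← hg, conj_pow]
  have hScomm : ∀ s ∈ S, ∀ t ∈ S, s * t = t * s := by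
    rintro s (hs | ⟨x, hx', rfl⟩) t ht
    · exact h.central t (hSE t ht) s hs
    rcases ht with ht | ⟨y, hy, rfl⟩
    · exact (h.central _ (pow_mem hx' a) t ht).symm
    obtain ⟨c, hc⟩ : ∃ c, c = x * y * x⁻¹ * y⁻¹ := ⟨_, rfl⟩
    have hcm : c ^ m = 1 := by
      have h1 := h.comm_pow hx' hy m
      have e0 : x ^ m * y * (x ^ m)⁻¹ = y := by rw [h.central y hy _ (hmZ x hx'), mul_inv_cancel_right]
      rw [← hc, e0] at h1
      exact mul_eq_right.1 h1.symm
    have hcy : c * y = y * c := hc ▸ h.central y hy _ (h.hx.inZ x hx' y hy)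
    have h2 : x ^ a * y ^ a * (x ^ a)⁻¹ = (c ^ a) ^ a * y ^ a := by
      rw [← conj_pow, h.comm_pow hx' hy a, ← hc, Commute.mul_pow (Commute.pow_left hcy a)]
    have h3 : (c ^ a) ^ a = 1 := by
      rw [← pow_mul, show a * a = m * q by rw [hq, ha]; ring, pow_mul, hcm, one_pow]
    rw [h3, one_mul, mul_inv_eq_iff_eq_mul] at h2
    exact h2
  have hNc : ∀ x ∈ N, ∀ y ∈ N, Commute x y := by
    have hle : N ≤ Subgroup.closure S := by
      show Subgroup.closure (Group.conjugatesOfSet S) ≤ _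
      exact Subgroup.closure_mono hSinv
    have h1 : Subgroup.closure S ≤ Subgroup.centralizer S :=
      (Subgroup.closure_le _).2 fun t ht => Subgroup.mem_centralizer_iff.2 fun s hs => hScomm s hs t ht
    have h2 : Subgroup.closure S ≤ Subgroup.centralizer (Subgroup.closure S : Set A) :=
      (Subgroup.closure_le _).2 fun t ht => Subgroup.mem_centralizer_iff.2 fun s hs =>
        (Subgroup.mem_centralizer_iff.1 (h1 hs) t ht).symm
    exact fun x hx' y hy => Subgroup.mem_centralizer_iff.1 (h2 (hle hy)) x (hle hx')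
  have hNZ : N ≤ Z := h.hmax N Subgroup.normalClosure_normal hNc fun z hz =>
    Subgroup.subset_normalClosure (Or.inl hz)
  have hdiv : m ∣ a := by
    rw [hm]
    refine Monoid.exponent_dvd_of_forall_pow_eq_one fun z => ?_
    obtain ⟨⟨e, he⟩, rfl⟩ := QuotientGroup.mk_surjective z
    rw [← QuotientGroup.mk_pow, QuotientGroup.eq_one_iff]
    exact hNZ (Subgroup.subset_normalClosure (Or.inr ⟨e, he, rfl⟩))
  have hq0 : 0 < q := Nat.pos_of_ne_zero fun h0 => hm0 (by rw [hq, h0, mul_zero])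
  have := Nat.le_of_dvd (by rw [ha]; exact Nat.mul_pos hl.pos hq0) hdiv
  rw [hq, ha, mul_assoc] at this
  have h2 := hl.two_le
  have : 2 * (l * q) ≤ l * q := le_trans (Nat.mul_le_mul_right _ h2) this
  have := Nat.mul_pos hl.pos hq0
  omega

/-- The layer axioms. -/
theorem layer : Layer h.L := by
  refine ⟨fun c hc => ⟨LinearEquiv.smulOfNeZero K V c hc,
    ⟨c, hc, 1, one_mem E, fun x => by rw [one_smul]; rfl⟩, fun x => rfl⟩, ?_, ?_, ?_⟩
  · rintro a ⟨k, hk, e, he, ha⟩ b ⟨l, hl, f, hf', hb⟩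
    refine ⟨ι ⟨_, h.hx.inZ e he f hf'⟩, fun x => ?_⟩
    rw [hb x, map_smul, ha (f • x), ha x, map_smul, hb (e • x)]
    have h1 : ((⟨_, h.hx.inZ e he f hf'⟩ : Z) : A) • f • e • x = e • f • x := by
      rw [← mul_smul, ← mul_smul, ← mul_smul]; congr 1; show e * f * e⁻¹ * f⁻¹ * f * e = e * f; group
    rw [← h.hιsmul] at h1
    rw [← h1]
    simp only [smul_smul]
    congr 1
    ring
  · rintro a ⟨k, hk, e, he, ha⟩ hc
    have heZ : e ∈ Z := h.mem_Z_of_commutes he fun f hf' x => by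
      obtain ⟨b, hb, hbx⟩ := h.exists_lin hf'
      have h1 := hc b hb x
      rw [hbx, ha, ha, map_smul, hbx] at h1
      exact smul_right_injective V hk h1
    refine ⟨k * ι ⟨e, heZ⟩, fun x => ?_⟩
    rw [ha, mul_smul, h.hιsmul]
  · obtain ⟨m, hm, hmZ⟩ := h.exists_expo
    refine ⟨m, hm, ?_⟩
    rintro a ⟨k, hk, e, he, ha⟩
    refine ⟨k ^ m * ι ⟨e ^ m, hmZ e he⟩, fun x => ?_⟩
    have : ∀ (i : ℕ) x, (a ^ i) x = k ^ i • (e ^ i) • x := by
      intro i
      induction i with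
      | zero => intro x; rw [pow_zero, pow_zero, pow_zero, one_smul, one_smul]; rfl
      | succ i ih =>
        intro x
        rw [pow_succ', pow_succ' k, pow_succ' e]
        show a ((a ^ i) x) = _
        rw [ih, map_smul, ha, smul_smul, mul_comm, mul_smul e]
    rw [this, mul_smul, h.hιsmul]

/-- Over five elements all squares in the layer are squares of scalars. -/
theorem layer_sq [Nontrivial V] [CharP K 5] (hK : ∀ k : K, ∃ a : ZMod 5, k = ZMod.castHom dvd_rfl K a) :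
    Sq h.L := by
  classical
  haveI := fact_five
  obtain ⟨φ, hφd⟩ : ∃ φ : ZMod 5 →+* K, φ = ZMod.castHom dvd_rfl K := ⟨_, rfl⟩
  rw [← hφd] at hK
  have hφ : Function.Injective φ := φ.injective
  obtain ⟨x₀, hx₀⟩ := exists_ne (0 : V)
  obtain ⟨m, hm, hmZ⟩ := h.exists_expo
  have hne0 : ∀ (e : A) {y : V}, y ≠ 0 → e • y ≠ 0 := fun e y hy h0 => hy ((smul_eq_zero_iff_eq e).1 h0)
  -- commutators are signs
  have hsign : ∀ e ∈ E, ∀ f ∈ E, ∀ d : K, (∀ x : V, e • f • x = d • f • e • x) → d * d = 1 := by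
    intro e he f hf' d hd
    have hit : ∀ (i : ℕ) (x : V), e ^ i • f • x = d ^ i • f • e ^ i • x := by
      intro i
      induction i with
      | zero => intro x; rw [pow_zero, pow_zero, one_smul, one_smul, one_smul]
      | succ i ih =>
        intro x
        rw [pow_succ' e, mul_smul, mul_smul, ih, h.hlinE e he, hd, smul_smul, pow_succ]
    have h1 := hit m x₀
    rw [← h.hιsmul ⟨_, hmZ e he⟩, ← h.hιsmul ⟨_, hmZ e he⟩, h.hlinE f hf', smul_smul] at h1
    have h2 : d ^ m = 1 := by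
      have h3 := eq_smul_of_smul (hne0 f hx₀) h1
      have h4 : ι ⟨_, hmZ e he⟩ ≠ 0 := fun h0 => hne0 (e ^ m) hx₀ (by
        rw [← h.hιsmul ⟨_, hmZ e he⟩, h0, zero_smul])
      exact mul_right_cancel₀ h4 (by rw [one_mul]; exact h3.symm)
    obtain ⟨a, rfl⟩ := hK d
    rw [← map_mul, ← map_one φ]
    refine congrArg φ ?_
    rw [← map_pow, ← map_one φ] at h2
    have h5 : a ^ m = 1 := hφ h2
    have ha0 : a ≠ 0 := fun h0 => by rw [h0, zero_pow hm.ne_zero] at h5; exact zero_ne_one h5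
    have h4 : a ^ 4 = 1 := ZMod.pow_card_sub_one_eq_one ha0
    have h6 : orderOf a ∣ Nat.gcd m 4 := Nat.dvd_gcd (orderOf_dvd_of_pow_eq_one h5) (orderOf_dvd_of_pow_eq_one h4)
    have h7 : Nat.gcd m 4 ∣ 2 := by
      have h8 : Nat.gcd m 4 ∣ 2 ^ 2 := Nat.gcd_dvd_right m 4
      obtain ⟨i, hi, he'⟩ := (Nat.dvd_prime_pow Nat.prime_two).1 h8
      rw [he']
      interval_cases i
      · norm_num
      · norm_num
      · exfalso
        exact Nat.prime_two.not_isUnit (hm 2 ((Dvd.intro 1 (by norm_num : 2 * 2 * 1 = 2 ^ 2)).trans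
          (he' ▸ Nat.gcd_dvd_left m 4)))
    rw [← pow_two]
    exact orderOf_dvd_iff_pow_eq_one.1 (h6.trans h7)
  -- squares are scalars
  have hscal : ∀ e ∈ E, ∃ d : K, d ≠ 0 ∧ ∀ x : V, e • e • x = d • x := by
    intro e he
    have heZ : e * e ∈ Z := h.mem_Z_of_commutes (mul_mem he he) fun f hf' x => by
      obtain ⟨d, hd⟩ : ∃ d : K, ∀ x : V, e • f • x = d • f • e • x := by
        refine ⟨ι ⟨_, h.hx.inZ e he f hf'⟩, fun x => ?_⟩
        rw [h.hιsmul, ← mul_smul, ← mul_smul, ← mul_smul]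
        congr 1
        show e * f = e * f * e⁻¹ * f⁻¹ * f * e
        group
      rw [mul_smul, mul_smul, hd, h.hlinE e he, hd, smul_smul, hsign e he f hf' d hd, one_smul]
    refine ⟨ι ⟨_, heZ⟩, fun h0 => hne0 (e * e) hx₀ (by rw [← h.hιsmul ⟨_, heZ⟩, h0, zero_smul]),
      fun x => by rw [h.hιsmul, mul_smul]⟩
  have minus : (-1 : K) = φ 2 * φ 2 := by
    rw [← map_mul, two_two, map_neg, map_one]
  have prod : ∀ e ∈ E, ∀ f ∈ E, ∀ a b : K, (∀ x : V, e • e • x = a • x) → (∀ x : V, f • f • x = b • x) →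
      ∃ s : K, ∀ x : V, (e * f) • (e * f) • x = (s * s * (a * b)) • x := by
    intro e he f hf' a b ha hb
    obtain ⟨d, hd⟩ : ∃ d : K, ∀ x : V, f • e • x = d • e • f • x := by
      refine ⟨ι ⟨_, h.hx.inZ f hf' e he⟩, fun x => ?_⟩
      rw [h.hιsmul, ← mul_smul, ← mul_smul, ← mul_smul]
      congr 1
      show f * e = f * e * f⁻¹ * e⁻¹ * e * f
      group
    obtain ⟨s, hs⟩ : ∃ s : K, d = s * s := by
      rcases mul_self_eq_one_iff.1 (hsign f hf' e he d hd) with rfl | rfl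
      · exact ⟨1, (one_mul 1).symm⟩
      · exact ⟨φ 2, minus⟩
    refine ⟨s, fun x => ?_⟩
    rw [mul_smul, mul_smul, hd, h.hlinE e he, hb, h.hlinE e he, h.hlinE e he, ha, smul_smul, smul_smul,
      hs]
    congr 1
    ring
  -- the square classes
  let E1 : Subgroup A :=
    { carrier := {e | e ∈ E ∧ ∃ c : K, ∀ x : V, e • e • x = (c * c) • x}
      one_mem' := ⟨one_mem E, 1, fun x => by simp⟩
      mul_mem' := fun {e f} ⟨he, c, hc⟩ ⟨hf', d, hd⟩ => ⟨mul_mem he hf', by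
        obtain ⟨s, hs⟩ := prod e he f hf' _ _ hc hd
        exact ⟨s * (c * d), fun x => by rw [hs]; congr 1; ring⟩⟩
      inv_mem' := fun {e} ⟨he, c, hc⟩ => ⟨inv_mem he, c⁻¹, fun x => by
        have hc0 : c * c ≠ 0 := fun h0 => hne0 e (hne0 e hx₀) (by rw [hc, h0, zero_smul])
        rw [inv_smul_eq_iff, inv_smul_eq_iff, h.hlinE e he, h.hlinE e he, hc, smul_smul,
          ← mul_inv, inv_mul_cancel₀ hc0, one_smul]⟩ }
  haveI hE1n : E1.Normal := ⟨fun e ⟨he, c, hc⟩ g => by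
    refine ⟨h.hx.normal.conj_mem e he g, ?_⟩
    obtain ⟨c', hc'⟩ := h.hsemi g c
    refine ⟨c', fun x => ?_⟩
    have h1 : g • e • e • g⁻¹ • x = (g * e * g⁻¹) • (g * e * g⁻¹) • x := by
      rw [← mul_smul, ← mul_smul, ← mul_smul, ← mul_smul]; congr 1; group
    rw [← h1, hc, mul_smul c c, hc', hc', smul_inv_smul, smul_smul]⟩
  have hE1E : E ≤ E1 := by
    by_contra hne
    have hout : ∀ e ∈ E, e ∉ E1 → ∀ f ∈ E, f ∉ E1 → e * f ∈ E1 := by
      intro e he hne' f hf' hnf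
      obtain ⟨a, ha0, ha⟩ := hscal e he
      obtain ⟨b, hb0, hb⟩ := hscal f hf'
      obtain ⟨a', rfl⟩ := hK a
      obtain ⟨b', rfl⟩ := hK b
      obtain ⟨c, hc⟩ := nonsq_mul a' (fun h0 => ha0 (by rw [h0, map_zero])) b' (fun h0 => hb0 (by rw [h0, map_zero]))
        (fun c hc => hne' ⟨he, φ c, fun x => by rw [ha, hc, map_mul]⟩)
        (fun c hc => hnf ⟨hf', φ c, fun x => by rw [hb, hc, map_mul]⟩)
      obtain ⟨s, hs⟩ := prod e he f hf' _ _ ha hb
      exact ⟨mul_mem he hf', s * φ c, fun x => by rw [hs, ← map_mul φ, hc, map_mul]; congr 1; ring⟩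
    haveI := h.hx.normal
    let N := E ⊓ Subgroup.centralizer (E1 : Set A)
    have hNc : ∀ x ∈ N, ∀ y ∈ N, Commute x y := by
      intro x hx' y hy
      have hxm := Subgroup.mem_inf.1 hx'
      have hym := Subgroup.mem_inf.1 hy
      by_cases hx1 : x ∈ E1
      · exact Subgroup.mem_centralizer_iff.1 hym.2 x hx1
      by_cases hy1 : y ∈ E1
      · exact (Subgroup.mem_centralizer_iff.1 hxm.2 y hy1).symm
      have h1 : x * y * x = x * (x * y) :=
        Subgroup.mem_centralizer_iff.1 hxm.2 _ (hout x hxm.1 hx1 y hym.1 hy1)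
      rw [mul_assoc] at h1
      exact (mul_left_cancel h1).symm
    have hZN : Z ≤ N := le_inf h.hx.le fun z hz => Subgroup.mem_centralizer_iff.2 fun e he =>
      (h.central e he.1 z hz).symm
    have hNZ : N ≤ Z := h.hmax N inferInstance hNc hZN
    have hZE1 : Z ≤ E1 := fun z hz => ⟨h.hx.le hz, ι ⟨z, hz⟩, fun x => by
      rw [← h.hιsmul ⟨z, hz⟩, ← h.hιsmul ⟨z, hz⟩, smul_smul]⟩
    have hle := card_conj_le ι h.hι E1 Z (fun e he => h.hx.le_centralizer he.1)
      (fun q : E ⧸ Z.subgroupOf E => ((q.out : E) : A))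
      (fun q n hn => h.hx.inZ _ q.out.2 n hn.1)
      (fun q z hz => by rw [← h.central _ q.out.2 z hz, mul_inv_cancel_right])
      (fun q r hqr => by
        rw [← QuotientGroup.out_eq' q, ← QuotientGroup.out_eq' r]
        refine QuotientGroup.eq.2 (hNZ (Subgroup.mem_inf.2 ⟨mul_mem (inv_mem q.out.2) r.out.2,
          Subgroup.mem_centralizer_iff.2 fun n hn => ?_⟩))
        show n * (((q.out : E) : A)⁻¹ * (r.out : E)) = ((q.out : E) : A)⁻¹ * (r.out : E) * n
        calc n * (((q.out : E) : A)⁻¹ * (r.out : E))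
            = ((q.out : E) : A)⁻¹ * ((q.out : E) * n * ((q.out : E) : A)⁻¹) * (r.out : E) := by group
          _ = ((q.out : E) : A)⁻¹ * ((r.out : E) * n * ((r.out : E) : A)⁻¹) * (r.out : E) := by
            rw [hqr n hn]
          _ = ((q.out : E) : A)⁻¹ * (r.out : E) * n := by group)
    rw [← Subgroup.index_eq_card] at hle
    have h3 := Subgroup.relIndex_mul_relIndex Z E1 E hZE1 fun e he => he.1
    have h4 : E1.relIndex E ≠ 1 := fun h0 => hne (Subgroup.relIndex_eq_one.1 h0)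
    have h5 : 0 < E1.relIndex E := Nat.pos_of_ne_zero Subgroup.index_ne_zero_of_finite
    have h6 : 0 < Z.relIndex E1 := Nat.pos_of_ne_zero Subgroup.index_ne_zero_of_finite
    have h7 : Z.relIndex E1 * 2 ≤ Z.relIndex E1 * E1.relIndex E := Nat.mul_le_mul_left _ (by omega)
    rw [h3] at h7
    change Z.relIndex E ≤ _ at hle
    omega
  rintro a ⟨k, hk, e, he, ha⟩
  obtain ⟨-, c, hc⟩ := hE1E he
  exact ⟨k * c, fun x => by rw [ha x, map_smul, ha, hc, smul_smul, smul_smul]; congr 1; ring⟩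

end Ctx

end Cfsg.Agent.Solv.CopPair
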