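import Cfsg.Agent.Lib.Solv.CopPair.Certs

/-!
The recursion over the field with three elements.
-/

set_option autoImplicit false
set_option linter.unusedSectionVars false
set_option linter.style.haveILetI false
set_option maxHeartbeats 1600000
set_option maxRecDepth 100000

namespace Cfsg.Agent.Solv.CopPair

universe u v

section

variable {K : Type u} [Field K] {V : Type v} [AddCommGroup V] [Module K V]

/-- Layers of rank at most three. -/
def Small (E : Subgroup (V ≃ₗ[K] V)) : Prop :=
  Nonempty (Frame E plusM) ∨ Nonempty (Frame E plus1) ∨ Nonempty (Frame E minusM) ∨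
    Nonempty (Frame E plus2) ∨ Nonempty (Frame E minus2) ∨ Nonempty (Frame E plus3) ∨
      Nonempty (Frame E minus3)

end

/-- Good pairs in layers of rank at least four over the field with three elements. -/
theorem exists_three {K : Type u} [Field K] [Finite K] (h3 : ∀ k : K, k = 0 ∨ k = 1 ∨ k = -1)
    (h2 : (2 : K) ≠ 0) :
    ∀ (n : ℕ) {V : Type v} [AddCommGroup V] [Module K V] [Finite V] [Nontrivial V]
      (E : Subgroup (V ≃ₗ[K] V)), Nat.card V ≤ n → Layer E → (∃ x y, Good E x y) ∨ Small E := by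
  have hγ : ∀ k : K, k ≠ 0 → ∃ i : ℕ, k = (-1 : K) ^ i := fun k hk => by
    rcases (h3 k).resolve_left hk with h | h
    · exact ⟨0, by rw [h, pow_zero]⟩
    · exact ⟨1, by rw [h, pow_one]⟩
  intro n
  induction n with
  | zero =>
    intro V _ _ _ _ E h
    have := Nat.card_pos (α := V)
    omega
  | succ n ih =>
    intro V _ _ _ _ E hn hE
    by_cases hsc : ∀ a ∈ E, IsSc a
    · exact Or.inr (Or.inl (frame_scalar h3 h2 hsc))
    rcases exists_split hE hsc hγ with ⟨z, e, l, ω, hs, x₁, hx₁, hx0⟩ | ⟨f, b, R, S, hq⟩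
    swap
    · exact Or.inr (Or.inr (Or.inr (Or.inl (frame_quat h3 h2 hE hq))))
    haveI : Nontrivial (X0 z) := ⟨⟨⟨x₁, hx₁⟩, 0, fun h => hx0 (congrArg Subtype.val h)⟩⟩
    have hlt : Nat.card (X0 z) ≤ n := by
      haveI := Fintype.ofFinite V
      haveI := Fintype.ofFinite (X0 z)
      have h1 : Fintype.card (X0 z) < Fintype.card V := by
        refine Fintype.card_lt_of_injective_of_notMem Subtype.val Subtype.val_injective (b := e x₁) ?_
        rintro ⟨⟨y, hy⟩, he⟩
        change y = e x₁ at he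
        rw [he, mem_X0, hs.hze, hx₁] at hy
        exact hs.ω_ne_one (eq_smul_of_smul (Split.apply_ne_zero e hx0) (by rw [one_smul]; exact hy))
      rw [Nat.card_eq_fintype_card] at hn ⊢
      omega
    rcases ih (sub0 E z) hlt (hs.layer hE hx₁ hx0) with ⟨u, v, hG⟩ | h | h | h | h | h | h | h
    · obtain ⟨x, hx⟩ := hs.good_step hE hG
      exact Or.inl ⟨x, u, hx⟩
    all_goals obtain ⟨F⟩ := h
    · exact Or.inr (Or.inr (Or.inl (frame_dbl h3 hE hs F)))
    · exact Or.inr (Or.inr (Or.inr (Or.inr (Or.inl (frame_dbl h3 hE hs F)))))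
    · exact Or.inr (Or.inr (Or.inr (Or.inr (Or.inr (Or.inl (frame_dbl h3 hE hs F))))))
    · exact Or.inr (Or.inr (Or.inr (Or.inr (Or.inr (Or.inr (Or.inl (frame_dbl h3 hE hs F)))))))
    · exact Or.inr (Or.inr (Or.inr (Or.inr (Or.inr (Or.inr (Or.inr (frame_dbl h3 hE hs F)))))))
    · obtain ⟨F'⟩ := frame_dbl h3 hE hs F
      exact Or.inl (good_plus4 h3 F')
    · obtain ⟨F'⟩ := frame_dbl h3 hE hs F
      exact Or.inl (good_minus4 h3 F')

/-- The value of a linear map given on generators. -/
def linMap {G : Type*} [Zero G] [Add G] (bits : List (ZMod 2)) (ims : List G) : G :=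
  ((bits.zip ims).map fun p => if p.1 = 1 then p.2 else 0).sum

theorem linMap_map {G : Type*} [AddMonoid G] (f : G → G) (h0 : f 0 = 0)
    (hadd : ∀ a b, f (a + b) = f a + f b) :
    ∀ (bits : List (ZMod 2)) (ims : List G), f (linMap bits ims) = linMap bits (ims.map f)
  | [], _ => by simp [linMap, h0]
  | _ :: _, [] => by simp [linMap, h0]
  | b :: bs, a :: l => by
    have ih := linMap_map f h0 hadd bs l
    simp only [linMap, List.zip_cons_cons, List.map_cons, List.sum_cons] at ih ⊢
    rw [hadd, ih]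
    congr 1
    split_ifs
    · rfl
    · exact h0

/-- The coordinates of a code of rank three, plus type. -/
def bitsP (c : plus3.Code) : List (ZMod 2) :=
  [c.1.1, c.1.2, c.2.1.1, c.2.1.2, c.2.2.1.1, c.2.2.1.2]

/-- The coordinates of a code of rank three, minus type. -/
def bitsM (c : minus3.Code) : List (ZMod 2) :=
  [c.1.1, c.1.2, c.2.1.1, c.2.1.2, c.2.2.1, c.2.2.2]

/-- The generators, plus type. -/
def gensP : List plus3.Code :=
  [((((1, 0) : ZMod 2 × ZMod 2), (0 : plus2.Code))), ((((0, 1) : ZMod 2 × ZMod 2), (0 : plus2.Code))),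
    (0, ((((1, 0) : ZMod 2 × ZMod 2), (0 : plus1.Code)))), (0, ((((0, 1) : ZMod 2 × ZMod 2), (0 : plus1.Code)))),
    (0, (0, ((((1, 0) : ZMod 2 × ZMod 2), ())))), (0, (0, ((((0, 1) : ZMod 2 × ZMod 2), ()))))]

/-- The generators, minus type. -/
def gensM : List minus3.Code :=
  [((((1, 0) : ZMod 2 × ZMod 2), (0 : minus2.Code))), ((((0, 1) : ZMod 2 × ZMod 2), (0 : minus2.Code))),
    (0, ((((1, 0) : ZMod 2 × ZMod 2), (0 : minusM.Code)))), (0, ((((0, 1) : ZMod 2 × ZMod 2), (0 : minusM.Code)))),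
    (0, (0, ((1, 0) : ZMod 2 × ZMod 2))), (0, (0, ((0, 1) : ZMod 2 × ZMod 2)))]

/-- The check of the possible symmetries. -/
def ResOK (M : Model) (x y : M.Vec) (L : List M.Step) (bits : M.Code → List (ZMod 2)) (gens : List M.Code)
    (cand : List (List M.Code)) : Prop :=
  (∀ c, linMap (bits c) gens = c) ∧ gens.length = cand.length ∧
    (∀ p ∈ gens.zip cand, ∀ c, M.same x y (M.lastW [x, y] L) (M.lastP [] L) c p.1 = true → c ∈ p.2) ∧
    ∀ ims ∈ cand.sections, (∀ b ∈ M.lastP [] L, linMap (bits b) ims = b) →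
      (∀ c, M.same x y (M.lastW [x, y] L) (M.lastP [] L) (linMap (bits c) ims) c = true) →
        (∀ c, linMap (bits (linMap (bits c) ims)) ims = c) ∧
          (Finset.univ.image fun c => c + linMap (bits c) ims).card ≤ 4

instance (M : Model) (x y : M.Vec) (L : List M.Step) (bits : M.Code → List (ZMod 2)) (gens : List M.Code)
    (cand : List (List M.Code)) : Decidable (ResOK M x y L bits gens cand) := by
  unfold ResOK; infer_instance

theorem resP : ResOK plus3 up3 vp3 stepsp3 bitsP gensP candp3 := by decide +kernel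

theorem resM : ResOK minus3 um3 vm3 stepsm3 bitsM gensM candm3 := by decide +kernel

section

variable {K : Type u} [Field K] {V : Type v} [AddCommGroup V] [Module K V] [Finite V] [Nontrivial V]
  {E : Subgroup (V ≃ₗ[K] V)}

/-- The symmetries left by a certificate. -/
theorem res_of_cert {M : Model} (F : Frame E M) {x y : M.Vec} (hx0 : x ≠ 0) {L : List M.Step}
    (hc : M.Chain x y [x, y] [] L) (hf : M.form x x ≠ 0 ∨ M.form x y ≠ 0)
    {bits : M.Code → List (ZMod 2)} {gens : List M.Code} {cand : List (List M.Code)}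
    (hok : ResOK M x y L bits gens cand) {g : V ≃+ V} (hn : Norm g E) (hgx : g (F.φ x) = F.φ x)
    (hgy : g (F.φ y) = F.φ y) :
    ∃ S : M.Sym, (∀ p, F.φ (S.m p) = g (F.φ p)) ∧ (∀ c z, g (F.T c z) = sgn (S.ε c) (F.T (S.π c) (g z))) ∧
      (∀ c, S.π (S.π c) = c) ∧ (Finset.univ.image fun c => c + S.π c).card ≤ 4 := by
  classical
  obtain ⟨S, hm, hT⟩ := F.sym hn hx0 hgx
  have hx : S.m x = x := F.inj (by rw [hm, hgx])
  have hy : S.m y = y := F.inj (by rw [hm, hgy])
  have hform : ∀ p q, M.form (S.m p) (S.m q) = M.form p q := by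
    rcases hf with h | h
    · exact S.form_eq hx hx h
    · exact S.form_eq hx hy h
  obtain ⟨hW, hP⟩ := S.chain hform hx hy L [x, y] [] (by simp [hx, hy]) (by simp) hc
  obtain ⟨hgen, hlen, hcand, hfin⟩ := hok
  have h0 : S.π 0 = 0 := add_left_cancel (a := S.π 0) (by rw [← S.add, add_zero, add_zero])
  obtain ⟨ims, hims⟩ : ∃ ims, ims = gens.map S.π := ⟨_, rfl⟩
  have hπ : ∀ c, S.π c = linMap (bits c) ims := fun c => by
    rw [hims, ← linMap_map S.π h0 S.add, hgen]
  have hsec : ims ∈ cand.sections := by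
    rw [List.mem_sections, hims, List.forall₂_map_left_iff, List.forall₂_iff_zip]
    exact ⟨hlen, fun {a b} hab => hcand (a, b) hab _ (S.same_map hform hx hy hW hP a)⟩
  obtain ⟨h1, h2⟩ := hfin ims hsec (fun b hb => by rw [← hπ, hP b hb])
    fun c => by rw [← hπ]; exact S.same_map hform hx hy hW hP c
  refine ⟨S, hm, hT, fun c => by rw [hπ (S.π c), hπ c]; exact h1 c, ?_⟩
  simp only [hπ]
  exact h2

end

end Cfsg.Agent.Solv.CopPair
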