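import Cfsg.Agent.Lib.Solv.CopPair.PrimBase
import Cfsg.Agent.Lib.Solv.CopPair.Three
import Cfsg.Agent.Lib.Solv.CopPair.Irred

/-!
Quasi-primitive groups over the field with three elements.
-/

set_option autoImplicit false
set_option linter.unusedSectionVars false
set_option linter.style.haveILetI false
set_option maxHeartbeats 1600000

namespace Cfsg.Agent.Solv.CopPair

open Cfsg.Agent.Solv.OddPair (Base Extra MaxAb kerV quotAct quot_faithful)

universe u v w

theorem neg_eq_sgn {G : Type*} [AddGroup G] (x : G) : -x = sgn true x := rfl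

/-- The codes whose square is minus one, rank two of plus type. -/
def negCodes : Finset plus2.Code :=
  Finset.univ.filter fun c => plus2.op c (plus2.op c plus2.pt) = -plus2.pt

theorem negCodes_card : negCodes.card = 6 := by decide +kernel

theorem negCodes_zero : (0 : plus2.Code) ∉ negCodes := by decide +kernel

variable {A : Type u} [Group A] {V : Type v} [AddCommGroup V] [DistribMulAction A V]
  {K : Type w} [Field K] [Module K V] {Z E : Subgroup A} {ι : Z →* K}

namespace Ctx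

variable (h : Ctx V K Z E ι) (h3 : ∀ k : K, k = 0 ∨ k = 1 ∨ k = -1)

include h h3

theorem cent_top (g : A) : g ∈ Subgroup.centralizer (Z : Set A) := by
  refine Subgroup.mem_centralizer_iff.2 fun z hz => inv_mul_eq_one.1 (h.hf _ fun x => ?_)
  rw [mul_smul, inv_smul_eq_iff, mul_smul, mul_smul, ← h.hιsmul ⟨z, hz⟩, ← h.hιsmul ⟨z, hz⟩]
  rcases h3 (ι ⟨z, hz⟩) with e | e | e <;> simp [e]

omit h3 in
theorem scalar_sgn [Nontrivial V] {s : Bool} {x : V} : ∃ a ∈ h.L, a x = sgn s x := by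
  cases s
  · exact ⟨1, one_mem _, rfl⟩
  · exact ⟨LinearEquiv.neg K, ⟨-1, neg_ne_zero.2 one_ne_zero, 1, one_mem E, fun y => by
      rw [one_smul, neg_one_smul]; rfl⟩, rfl⟩

section

variable [Finite A] [Z.Normal] [Finite V] [Nontrivial V] {M : Model} (F : Frame h.L M)

omit h3 in
theorem T_unique {c d : M.Code} {s t : Bool} (he : ∀ x, sgn s (F.T c x) = sgn t (F.T d x)) : c = d := by
  refine M.code_eq (s := xor s t) fun p => F.inj ?_
  have h1 := congrArg (sgn s) (he (F.φ p))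
  rw [sgn_sgn, sgn_sgn, Bool.xor_self, sgn_false, F.act, F.act, ← map_sgn] at h1
  exact h1

omit h3 in
theorem T_add (c d : M.Code) : ∃ s, ∀ x, F.T c (F.T d x) = sgn s (F.T (c + d) x) := by
  obtain ⟨k, s, hk⟩ := F.cover _ (mul_mem (F.mem c) (F.mem d))
  obtain ⟨t, ht⟩ := M.op_comp c d
  have hk' : k = c + d := by
    refine M.code_eq (s := xor s t) fun p => F.inj ?_
    have h1 := hk (F.φ p)
    change F.T c (F.T d (F.φ p)) = _ at h1
    rw [F.act, F.act, F.act, ht, ← map_sgn] at h1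
    have h2 := congrArg (sgn s) (F.inj h1)
    rw [sgn_sgn, sgn_sgn, Bool.xor_self, sgn_false] at h2
    rw [← h2]
  exact ⟨s, fun x => hk' ▸ hk x⟩

omit h3 in
theorem code_image (g : A) (c : M.Code) : ∃ d s, ∀ x, g • F.T c x = sgn s (F.T d (g • x)) := by
  obtain ⟨a', ha', hga⟩ := h.norm_smul g _ (F.mem c)
  obtain ⟨d, s, hd⟩ := F.cover a' ha'
  exact ⟨d, s, fun x => (hga x).trans (hd _)⟩

/-- The action on the codes. -/
noncomputable def P (g : A) (c : M.Code) : M.Code := (h.code_image F g c).choose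

omit h3 in
theorem P_spec (g : A) (c : M.Code) : ∃ s, ∀ x, g • F.T c x = sgn s (F.T (h.P F g c) (g • x)) :=
  (h.code_image F g c).choose_spec

omit h3 in
theorem P_eq {g : A} {c d : M.Code} {s : Bool} (hd : ∀ x, g • F.T c x = sgn s (F.T d (g • x))) :
    h.P F g c = d := by
  obtain ⟨t, ht⟩ := h.P_spec F g c
  refine h.T_unique F (s := t) (t := s) fun y => ?_
  obtain ⟨x, rfl⟩ : ∃ x, g • x = y := ⟨g⁻¹ • y, smul_inv_smul g y⟩
  rw [← ht, hd]

/-- The action of the group on the codes. -/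
@[reducible] noncomputable def codeAct : DistribMulAction A M.Code where
  smul g c := h.P F g c
  one_smul c := h.P_eq F (s := false) fun x => by rw [one_smul, one_smul]; rfl
  mul_smul a b c := by
    obtain ⟨s, hs⟩ := h.P_spec F b c
    obtain ⟨t, ht⟩ := h.P_spec F a (h.P F b c)
    refine h.P_eq F (s := xor s t) fun x => ?_
    rw [mul_smul, hs, show a • sgn s (F.T (h.P F b c) (b • x)) = sgn s (a • F.T (h.P F b c) (b • x)) by
      cases s <;> simp [smul_neg], ht, sgn_sgn, mul_smul]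
    rfl
  smul_zero g := h.P_eq F (s := false) fun x => by rw [F.one, F.one]; rfl
  smul_add g c d := by
    obtain ⟨s, hs⟩ := h.T_add F c d
    obtain ⟨a, ha⟩ := h.P_spec F g c
    obtain ⟨b, hb⟩ := h.P_spec F g d
    obtain ⟨t, ht⟩ := h.T_add F (h.P F g c) (h.P F g d)
    refine h.P_eq F (s := xor s (xor a (xor b t))) fun x => ?_
    show g • F.T (c + d) x = sgn _ (F.T (h.P F g c + h.P F g d) (g • x))
    have h1 : F.T (c + d) x = sgn s (F.T c (F.T d x)) := by
      rw [hs, sgn_sgn, Bool.xor_self, sgn_false]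
    rw [h1, show g • sgn s (F.T c (F.T d x)) = sgn s (g • F.T c (F.T d x)) by
      cases s <;> simp [smul_neg], ha, hb, map_sgn, ht, sgn_sgn, sgn_sgn, sgn_sgn]
    congr 1
    cases s <;> cases a <;> cases b <;> cases t <;> rfl

/-- The code of an element of `E`. -/
theorem exists_code {e : A} (he : e ∈ E) : ∃ c s, ∀ x, e • x = sgn s (F.T c x) := by
  obtain ⟨a, ha, hax⟩ := h.exists_lin he
  obtain ⟨c, s, hc⟩ := F.cover a ha
  exact ⟨c, s, fun x => (hax x).symm.trans (hc x)⟩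

/-- Every code comes from `E`. -/
theorem code_surj (c : M.Code) : ∃ e ∈ E, ∃ s, ∀ x, e • x = sgn s (F.T c x) := by
  obtain ⟨k, hk, e, he, hT⟩ := F.mem c
  obtain ⟨s, hs⟩ := smul_sgn (V := V) h3 hk
  exact ⟨e, he, s, fun x => by rw [hT, hs, sgn_sgn, Bool.xor_self, sgn_false]⟩

theorem mem_Z_of_code_zero {e : A} (he : e ∈ E) {s : Bool} (hs : ∀ x, e • x = sgn s (F.T 0 x)) : e ∈ Z := by
  refine h.mem_Z_of_commutes he fun f hf' x => ?_
  rw [hs, hs, F.one, F.one]
  cases s <;> simp [smul_neg]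

/-- A trivial action means lying in `E`. -/
theorem mem_E_of_trivial {g : A} (hg : ∀ c, h.P F g c = c) : g ∈ E := by
  refine h.hx.outside g (h.cent_top h3 g) fun n hn => ?_
  obtain ⟨c, s, hc⟩ := h.exists_code h3 F hn
  obtain ⟨t, ht⟩ := h.P_spec F g c
  rw [hg] at ht
  have hact : ∀ x : V, (g * n * g⁻¹ * n⁻¹) • x = sgn t x := by
    intro x
    obtain ⟨y, rfl⟩ : ∃ y, n • y = x := ⟨n⁻¹ • x, smul_inv_smul n x⟩
    rw [← mul_smul _ n, inv_mul_cancel_right, mul_smul, mul_smul, hc, hc,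
      show g • sgn s (F.T c (g⁻¹ • y)) = sgn s (g • F.T c (g⁻¹ • y)) by cases s <;> simp [smul_neg],
      ht, smul_inv_smul, sgn_sgn, sgn_sgn, Bool.xor_comm]
  refine h.mem_Z_of_commutes (mul_mem (h.hx.normal.conj_mem n hn g) (inv_mem hn)) fun f _ x => ?_
  rw [hact, hact]
  cases t <;> simp [smul_neg]

/-- The elements with code in an invariant subgroup. -/
noncomputable def pre (U : AddSubgroup M.Code) : Subgroup A where
  carrier := {e | e ∈ E ∧ ∃ c ∈ U, ∃ s, ∀ x, e • x = sgn s (F.T c x)}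
  one_mem' := ⟨one_mem E, 0, U.zero_mem, false, fun x => by rw [one_smul, F.one]; rfl⟩
  mul_mem' := fun {e f} ⟨he, c, hc, s, hs⟩ ⟨hf', d, hd, t, ht⟩ => by
    obtain ⟨r, hr⟩ := h.T_add F c d
    exact ⟨mul_mem he hf', c + d, U.add_mem hc hd, xor (xor s t) r, fun x => by
      rw [mul_smul, ht, hs, map_sgn, hr, sgn_sgn, sgn_sgn]⟩
  inv_mem' := fun {e} ⟨he, c, hc, s, hs⟩ => by
    obtain ⟨r, hr⟩ := h.T_add F c c
    rw [M.code_two] at hr
    refine ⟨inv_mem he, c, hc, xor s r, fun x => ?_⟩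
    rw [inv_smul_eq_iff, hs, map_sgn, hr, F.one, sgn_sgn, sgn_sgn]
    cases s <;> cases r <;> rfl

theorem Z_le_pre (U : AddSubgroup M.Code) : Z ≤ h.pre F U := by
  intro z hz
  have hz0 : ι ⟨z, hz⟩ ≠ 0 := fun h0 => by
    obtain ⟨x, hx⟩ := exists_ne (0 : V)
    exact hx ((smul_eq_zero_iff_eq z).1 (by rw [← h.hιsmul ⟨z, hz⟩, h0, zero_smul]))
  obtain ⟨s, hs⟩ := smul_sgn (V := V) h3 hz0
  exact ⟨h.hx.le hz, 0, U.zero_mem, s, fun x => by rw [F.one, ← h.hιsmul ⟨z, hz⟩, hs]⟩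

theorem pre_normal {U : AddSubgroup M.Code} (hU : ∀ g : A, ∀ c ∈ U, h.P F g c ∈ U) :
    (h.pre F U).Normal := by
  refine ⟨fun e ⟨he, c, hc, s, hs⟩ g => ⟨h.hx.normal.conj_mem e he g, h.P F g c, hU g c hc, ?_⟩⟩
  obtain ⟨t, ht⟩ := h.P_spec F g c
  refine ⟨xor s t, fun x => ?_⟩
  rw [mul_smul, mul_smul, hs, show g • sgn s (F.T c (g⁻¹ • x)) = sgn s (g • F.T c (g⁻¹ • x)) by
    cases s <;> simp [smul_neg], ht, smul_inv_smul, sgn_sgn]

theorem eq_bot_of_pre_le {U : AddSubgroup M.Code} (hle : h.pre F U ≤ Z) : U = ⊥ := by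
  refine (AddSubgroup.eq_bot_iff_forall U).2 fun c hc => ?_
  obtain ⟨e, he, s, hs⟩ := h.code_surj h3 F c
  obtain ⟨-, d, hd, t, ht⟩ := h.Z_le_pre h3 F ⊥ (hle ⟨he, c, hc, s, hs⟩)
  rw [AddSubgroup.mem_bot] at hd
  subst hd
  exact h.T_unique F (s := s) (t := t) fun x => by rw [← hs, ht]

theorem code_card_dvd : ∀ U : AddSubgroup M.Code, U ≠ ⊥ → 2 ∣ Nat.card U := by
  intro U hU
  obtain ⟨⟨c, hc⟩, hc0⟩ : ∃ c : U, c ≠ 0 := by
    by_contra h0
    push Not at h0
    exact hU ((AddSubgroup.eq_bot_iff_forall U).2 fun x hx => congrArg Subtype.val (h0 ⟨x, hx⟩))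
  have h1 : addOrderOf (⟨c, hc⟩ : U) = 2 := by
    refine addOrderOf_eq_prime (p := 2) ?_ hc0
    rw [two_nsmul]; exact Subtype.ext (M.code_two c)
  exact h1 ▸ addOrderOf_dvd_natCard _

/-- No invariant subgroup of order at most four. -/
theorem no_small (hA : ¬3 ∣ Nat.card A) {U : AddSubgroup M.Code} (hU : ∀ g : A, ∀ c ∈ U, h.P F g c ∈ U)
    (hne : U ≠ ⊥) : 4 < Nat.card U := by
  letI := h.codeAct F
  haveI : Finite M.Code := Finite.of_fintype _
  by_contra hle
  push Not at hle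
  obtain ⟨a, -, ha0, hfix⟩ := fixed_of_card_le_four (G := A) hA U hU hne (h.code_card_dvd h3 U hne) hle
  have ha2 : ∀ b ∈ AddSubgroup.zmultiples a, b = 0 ∨ b = a := by
    intro b hb
    obtain ⟨i, rfl⟩ := AddSubgroup.mem_zmultiples_iff.1 hb
    rcases Int.even_or_odd i with ⟨j, rfl⟩ | ⟨j, rfl⟩
    · left; rw [add_zsmul, ← zsmul_add, M.code_two, zsmul_zero]
    · right; rw [add_zsmul, mul_comm, mul_zsmul, two_zsmul, M.code_two, zsmul_zero, zero_add, one_zsmul]
  have hU' : ∀ g : A, ∀ c ∈ AddSubgroup.zmultiples a, h.P F g c ∈ AddSubgroup.zmultiples a := by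
    intro g c hc
    rcases ha2 c hc with rfl | rfl
    · show g • (0 : M.Code) ∈ _
      rw [smul_zero]; exact zero_mem _
    · show g • c ∈ _
      rw [hfix g]; exact hc
  refine ha0 ?_
  have hN : h.pre F (AddSubgroup.zmultiples a) ≤ Z := by
    refine h.hmax _ (h.pre_normal h3 F hU') (fun e he f hf' => ?_) (h.Z_le_pre h3 F _)
    obtain ⟨heE, c, hc, s, hs⟩ := he
    obtain ⟨hfE, d, hd, t, ht⟩ := hf'
    refine (inv_mul_eq_one.1 (h.hf _ fun x => ?_)).symm
    rw [mul_smul, inv_smul_eq_iff, mul_smul, mul_smul, hs, ht, hs, ht, map_sgn, map_sgn, sgn_sgn, sgn_sgn,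
      Bool.xor_comm]
    congr 1
    rcases ha2 c hc with rfl | rfl <;> rcases ha2 d hd with rfl | rfl <;> simp [F.one]
  have := h.eq_bot_of_pre_le h3 (F := F) hN
  exact AddSubgroup.zmultiples_eq_bot.1 this

/-- An invariant subgroup has an invariant complement. -/
theorem complement_code {U : AddSubgroup M.Code} (hU : ∀ g : A, ∀ c ∈ U, h.P F g c ∈ U) :
    ∃ U' : AddSubgroup M.Code, (∀ g : A, ∀ c ∈ U', h.P F g c ∈ U') ∧
      Nat.card U * Nat.card U' = Nat.card M.Code := by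
  haveI := h.pre_normal h3 F hU
  obtain ⟨R, hR, hZR, hRE, hint, hsup⟩ := Extra.complement h.hx h.hmax ι h.hι (h.Z_le_pre h3 F U)
    (fun e he => he.1)
  let U' : AddSubgroup M.Code :=
    { carrier := {c | ∃ e ∈ R, ∃ s, ∀ x, e • x = sgn s (F.T c x)}
      zero_mem' := ⟨1, one_mem R, false, fun x => by rw [one_smul, F.one]; rfl⟩
      add_mem' := fun {c d} ⟨e, he, s, hs⟩ ⟨f, hf', t, ht⟩ => by
        obtain ⟨r, hr⟩ := h.T_add F c d
        exact ⟨e * f, mul_mem he hf', xor (xor s t) r, fun x => by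
          rw [mul_smul, ht, hs, map_sgn, hr, sgn_sgn, sgn_sgn]⟩
      neg_mem' := fun {c} hc => by rwa [neg_eq_of_add_eq_zero_left (M.code_two c)] }
  refine ⟨U', fun g c ⟨e, he, s, hs⟩ => ?_, ?_⟩
  · obtain ⟨t, ht⟩ := h.P_spec F g c
    refine ⟨g * e * g⁻¹, hR.conj_mem e he g, xor s t, fun x => ?_⟩
    rw [mul_smul, mul_smul, hs, show g • sgn s (F.T c (g⁻¹ • x)) = sgn s (g • F.T c (g⁻¹ • x)) by
      cases s <;> simp [smul_neg], ht, smul_inv_smul, sgn_sgn]
  · rw [← Nat.card_prod]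
    refine Nat.card_congr (Equiv.ofBijective (fun p : U × U' => (p.1 : M.Code) + p.2) ⟨?_, ?_⟩)
    · rintro ⟨a, b⟩ ⟨a', b'⟩ hab
      change (a : M.Code) + b = a' + b' at hab
      have hd : (a : M.Code) - a' = b' - b := by
        rw [sub_eq_sub_iff_add_eq_add, hab, add_comm]
      obtain ⟨e, he, s, hs⟩ : (a : M.Code) - a' ∈ U' := hd ▸ U'.sub_mem b'.2 b.2
      have heZ : e ∈ Z := hint ⟨⟨hRE he, _, U.sub_mem a.2 a'.2, s, hs⟩, he⟩
      obtain ⟨-, c, hc, t, ht⟩ := h.Z_le_pre h3 F ⊥ heZ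
      rw [AddSubgroup.mem_bot] at hc
      subst hc
      have h0 : (a : M.Code) - a' = 0 := h.T_unique F (s := s) (t := t) fun x => by rw [← hs, ht]
      rw [h0] at hd
      exact Prod.ext (Subtype.ext (sub_eq_zero.1 h0)) (Subtype.ext (sub_eq_zero.1 hd.symm).symm)
    · intro c
      obtain ⟨e, he, s, hs⟩ := h.code_surj h3 F c
      have hm : e ∈ ((h.pre F U ⊔ R : Subgroup A) : Set A) := hsup he
      rw [Subgroup.normal_mul, Set.mem_mul] at hm
      obtain ⟨n, ⟨hnE, a, ha, t, ht⟩, r, hr, rfl⟩ := hm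
      obtain ⟨b, q, hq⟩ := h.exists_code h3 F (hRE hr)
      obtain ⟨w, hw⟩ := h.T_add F a b
      refine ⟨(⟨a, ha⟩, ⟨b, r, hr, q, hq⟩), (h.T_unique F (s := s) (t := xor (xor t q) w) fun x => ?_).symm⟩
      rw [← hs, mul_smul, hq, ht, map_sgn, hw, sgn_sgn, sgn_sgn]

/-- An invariant subgroup of order eight does not exist. -/
theorem no_eight {U : AddSubgroup M.Code} (hU : ∀ g : A, ∀ c ∈ U, h.P F g c ∈ U) : Nat.card U ≠ 8 := by
  classical
  intro h8
  obtain ⟨N, hN⟩ : ∃ N, N = h.pre F U := ⟨_, rfl⟩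
  haveI hNn : N.Normal := hN ▸ h.pre_normal h3 F hU
  have hN0 : N ⊓ Subgroup.centralizer (N : Set A) ≤ Z :=
    h.hmax _ inferInstance (fun x hx y hy => Subgroup.mem_centralizer_iff.1 (Subgroup.mem_inf.1 hy).2 x
      (Subgroup.mem_inf.1 hx).1) (le_inf (hN ▸ h.Z_le_pre h3 F U) fun z hz =>
        Subgroup.mem_centralizer_iff.2 fun n hn => (h.central n (hN ▸ hn : n ∈ h.pre F U).1 z hz).symm)
  have hcomm : ∀ e ∈ E, ∀ f ∈ E, ∀ g ∈ E, e * f ≠ f * e → e * g ≠ g * e → e * (f * g) = f * g * e := by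
    intro e he f hf' g hg hef heg
    have hsign : ∀ f ∈ E, e * f ≠ f * e → ∀ x : V, e • f • x = -(f • e • x) := by
      intro f hf' hne x
      obtain ⟨z, hzd⟩ : ∃ z : Z, z = ⟨_, h.hx.inZ e he f hf'⟩ := ⟨_, rfl⟩
      have h1 : ∀ x : V, e • f • x = ι z • f • e • x := fun x => by
        rw [h.hιsmul, ← mul_smul, ← mul_smul, ← mul_smul, hzd]
        congr 1
        show e * f = e * f * e⁻¹ * f⁻¹ * f * e
        group
      rcases h3 (ι z) with h0 | h0 | h0
      · obtain ⟨y, hy⟩ := exists_ne (0 : V)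
        exact absurd ((smul_eq_zero_iff_eq f).1 ((smul_eq_zero_iff_eq e).1
          ((h1 y).trans (by rw [h0, zero_smul])))) hy
      · exact absurd (inv_mul_eq_one.1 (h.hf ((e * f)⁻¹ * (f * e)) fun y => by
          rw [mul_smul, inv_smul_eq_iff, mul_smul, mul_smul, h1, h0, one_smul])) hne
      · rw [h1, h0, neg_one_smul]
    refine (inv_mul_eq_one.1 (h.hf ((e * (f * g))⁻¹ * (f * g * e)) fun x => ?_))
    rw [mul_smul, inv_smul_eq_iff, mul_smul, mul_smul, mul_smul, mul_smul, hsign f hf' hef, hsign g hg heg,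
      smul_neg, neg_neg]
  -- an element of the subgroup with a partner
  obtain ⟨e, he, a, ha, s, hs, ha0⟩ : ∃ e ∈ N, ∃ a ∈ U, ∃ s, (∀ x, e • x = sgn s (F.T a x)) ∧ a ≠ 0 := by
    obtain ⟨⟨a, ha⟩, ha0⟩ : ∃ a : U, a ≠ 0 := by
      haveI : Nontrivial U := Finite.one_lt_card_iff_nontrivial.1 (by rw [h8]; norm_num)
      exact exists_ne 0
    obtain ⟨e, he, s, hs⟩ := h.code_surj h3 F a
    exact ⟨e, hN ▸ ⟨he, a, ha, s, hs⟩, a, ha, s, hs, fun h0 => ha0 (Subtype.ext h0)⟩
  obtain ⟨f, hf', hef⟩ : ∃ f ∈ N, e * f ≠ f * e := by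
    by_contra h0
    push Not at h0
    have heZ : e ∈ Z := hN0 ⟨he, Subgroup.mem_centralizer_iff.2 fun n hn => (h0 n hn).symm⟩
    obtain ⟨-, c, hc, t, ht⟩ := h.Z_le_pre h3 F ⊥ heZ
    rw [AddSubgroup.mem_bot] at hc
    subst hc
    exact ha0 (h.T_unique F (s := s) (t := t) fun x => by rw [← hs, ht])
  have heE : e ∈ E := (hN ▸ he : e ∈ h.pre F U).1
  have hfE : f ∈ E := (hN ▸ hf' : f ∈ h.pre F U).1
  obtain ⟨-, b, hb, t, ht⟩ := (hN ▸ hf' : f ∈ h.pre F U)
  -- the span of the pair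
  let S : Finset M.Code := {0, a, b, a + b}
  have hS : S.card ≤ 4 := Finset.card_le_four
  haveI := Fintype.ofFinite U
  have hUf : (Finset.univ.filter fun c => c ∈ U).card = 8 := by
    rw [← h8, Nat.card_eq_fintype_card, Fintype.card_subtype]
  obtain ⟨w₀, hw₀, hw₀S⟩ : ∃ w ∈ U, w ∉ S := by
    by_contra h0
    push Not at h0
    have := Finset.card_le_card (s := Finset.univ.filter fun c => c ∈ U) (t := S) fun c hc =>
      h0 c (by simpa using hc)
    omega
  have hab : ∀ x ∈ S, ∀ y ∈ S, x + y ∈ S := by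
    intro x hx y hy
    simp only [S, Finset.mem_insert, Finset.mem_singleton] at hx hy ⊢
    have e1 := M.code_two a
    have e2 := M.code_two b
    have e3 := M.code_two (a + b)
    rcases hx with rfl | rfl | rfl | rfl <;> rcases hy with rfl | rfl | rfl | rfl <;>
      simp [e1, e2, e3, add_comm, add_left_comm]
  -- an element outside it commuting with both
  obtain ⟨g, hg, hge, hgf, w, hw, hwS, q, hq⟩ : ∃ g ∈ N, e * g = g * e ∧ f * g = g * f ∧
      ∃ w ∈ U, w ∉ S ∧ ∃ q, ∀ x, g • x = sgn q (F.T w x) := by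
    obtain ⟨g₀, hg₀, q₀, hq₀⟩ := h.code_surj h3 F w₀
    have hg₀N : g₀ ∈ N := hN ▸ ⟨hg₀, w₀, hw₀, q₀, hq₀⟩
    have step : ∀ g ∈ N, ∀ w ∈ U, w ∉ S → ∀ q, (∀ x, g • x = sgn q (F.T w x)) →
        ∀ p ∈ N, ∀ c ∈ S, c ∈ U → ∀ r, (∀ x, p • x = sgn r (F.T c x)) →
          ∃ w' ∈ U, w' ∉ S ∧ ∃ q', ∀ x, (g * p) • x = sgn q' (F.T w' x) := by
      intro g _ w hw hwS q hq p _ c hcS hcU r hr
      obtain ⟨u, hu⟩ := h.T_add F w c
      refine ⟨w + c, U.add_mem hw hcU, fun hm => hwS ?_, xor (xor q r) u, fun x => ?_⟩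
      · have := hab _ hm c hcS
        rwa [add_assoc, M.code_two, add_zero] at this
      · rw [mul_smul, hr, hq, map_sgn, hu, sgn_sgn, sgn_sgn]
    obtain ⟨g₁, hg₁, hg₁e, w₁, hw₁, hw₁S, q₁, hq₁⟩ : ∃ g ∈ N, e * g = g * e ∧
        ∃ w ∈ U, w ∉ S ∧ ∃ q, ∀ x, g • x = sgn q (F.T w x) := by
      by_cases hc : e * g₀ = g₀ * e
      · exact ⟨g₀, hg₀N, hc, w₀, hw₀, hw₀S, q₀, hq₀⟩
      · exact ⟨g₀ * f, mul_mem hg₀N hf', hcomm e heE g₀ hg₀ f hfE hc hef,
          step g₀ hg₀N w₀ hw₀ hw₀S q₀ hq₀ f hf' b (by simp [S]) hb t ht⟩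
    have hg₁E : g₁ ∈ E := (hN ▸ hg₁ : g₁ ∈ h.pre F U).1
    by_cases hc : f * g₁ = g₁ * f
    · exact ⟨g₁, hg₁, hg₁e, hc, w₁, hw₁, hw₁S, q₁, hq₁⟩
    · refine ⟨g₁ * e, mul_mem hg₁ he, by rw [← mul_assoc, hg₁e, mul_assoc],
        hcomm f hfE g₁ hg₁E e heE hc (fun h0 => hef h0.symm),
        step g₁ hg₁ w₁ hw₁ hw₁S q₁ hq₁ e he a (by simp [S]) ha s hs⟩
  refine hwS ?_
  have hgZ : g ∈ Z := hN0 ⟨hg, Subgroup.mem_centralizer_iff.2 fun n hn => ?_⟩
  · obtain ⟨-, c, hc, r, hr⟩ := h.Z_le_pre h3 F ⊥ hgZ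
    rw [AddSubgroup.mem_bot] at hc
    subst hc
    rw [h.T_unique F (c := w) (d := 0) (s := q) (t := r) fun x => by rw [← hq, hr]]
    simp [S]
  obtain ⟨hnE, c, hc, r, hr⟩ := (hN ▸ hn : n ∈ h.pre F U)
  -- every element is a product
  have hgen : c ∈ S ∨ c + w ∈ S := by
    by_contra h0
    push Not at h0
    obtain ⟨hc1, hc2⟩ := h0
    have hSU : ∀ x ∈ S, x ∈ U := fun x hx => by
      simp only [S, Finset.mem_insert, Finset.mem_singleton] at hx
      rcases hx with rfl | rfl | rfl | rfl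
      · exact U.zero_mem
      · exact ha
      · exact hb
      · exact U.add_mem ha hb
    have hb0 : b ≠ 0 := fun h0 => hef (h.central e heE f (h.mem_Z_of_code_zero h3 F hfE (h0 ▸ ht))).symm
    have hab0 : a ≠ b := fun h0 => by
      subst h0
      refine hef ?_
      refine (inv_mul_eq_one.1 (h.hf _ fun x => ?_))
      rw [mul_smul, inv_smul_eq_iff, mul_smul, mul_smul, hs, ht, hs, ht, map_sgn, map_sgn, sgn_sgn, sgn_sgn,
        Bool.xor_comm]
    have hS4 : S.card = 4 := by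
      have h1 : a + b ≠ 0 := fun h0 => hab0 ((eq_neg_of_add_eq_zero_left h0).trans
        (neg_eq_of_add_eq_zero_left (M.code_two b)))
      rw [Finset.card_insert_of_notMem, Finset.card_insert_of_notMem, Finset.card_pair]
      · exact fun h0 => ha0 (add_eq_right.1 h0.symm)
      · simp only [Finset.mem_insert, Finset.mem_singleton, not_or]
        exact ⟨hab0, fun h0 => hb0 (left_eq_add.1 h0)⟩
      · simp only [Finset.mem_insert, Finset.mem_singleton, not_or]
        exact ⟨ha0.symm, hb0.symm, h1.symm⟩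
    have d1 : Disjoint S (S.image (· + w)) := Finset.disjoint_left.2 fun x hx hx' => by
      obtain ⟨y, hy, rfl⟩ := Finset.mem_image.1 hx'
      refine hwS ?_
      have := hab y hy _ hx
      rwa [← add_assoc, M.code_two, zero_add] at this
    have hsub : insert c (S ∪ S.image (· + w)) ⊆ Finset.univ.filter fun x => x ∈ U := fun x hx => by
      simp only [Finset.mem_filter, Finset.mem_univ, true_and]
      simp only [Finset.mem_insert, Finset.mem_union, Finset.mem_image] at hx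
      rcases hx with rfl | hx | ⟨y, hy, rfl⟩
      · exact hc
      · exact hSU x hx
      · exact U.add_mem (hSU y hy) hw
    have h1 := Finset.card_le_card hsub
    rw [Finset.card_insert_of_notMem, Finset.card_union_of_disjoint d1,
      Finset.card_image_of_injective _ (add_left_injective w), hS4, hUf] at h1
    · omega
    · simp only [Finset.mem_union, Finset.mem_image, not_or]
      exact ⟨hc1, fun ⟨y, hy, hyc⟩ => hc2 (by rw [← hyc, add_assoc, M.code_two, add_zero]; exact hy)⟩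
  have hprod : ∀ m ∈ E, ∀ d, d ∈ S → ∀ r, (∀ x, m • x = sgn r (F.T d x)) → m * g = g * m := by
    intro m hm d hd r hr
    have key : ∀ p ∈ E, ∀ u, (∀ x, p • x = sgn u (F.T d x)) → p * g = g * p → m * g = g * m := by
      intro p hp u hu hpg
      have hz : m * p⁻¹ ∈ Z := h.mem_Z_of_commutes (mul_mem hm (inv_mem hp)) fun k _ x => by
        have e1 : ∀ y : V, (m * p⁻¹) • y = sgn (xor r u) y := fun y => by
          obtain ⟨z, rfl⟩ : ∃ z, p • z = y := ⟨p⁻¹ • y, smul_inv_smul p y⟩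
          rw [mul_smul, inv_smul_smul, hr, hu, sgn_sgn]
          congr 1
          cases r <;> cases u <;> rfl
        rw [e1, e1]
        cases xor r u <;> simp [smul_neg]
      have hgE : g ∈ E := (hN ▸ hg : g ∈ h.pre F U).1
      calc m * g = m * p⁻¹ * (p * g) := by group
        _ = m * p⁻¹ * (g * p) := by rw [hpg]
        _ = g * (m * p⁻¹) * p := by rw [← mul_assoc, h.central g hgE _ hz]
        _ = g * m := by group
    simp only [S, Finset.mem_insert, Finset.mem_singleton] at hd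
    rcases hd with rfl | rfl | rfl | rfl
    · exact key 1 (one_mem E) false (fun x => by rw [one_smul, F.one]; rfl) (by rw [one_mul, mul_one])
    · exact key e heE s hs hge
    · exact key f hfE t ht hgf
    · obtain ⟨u, hu⟩ := h.T_add F a b
      exact key (e * f) (mul_mem heE hfE) (xor (xor s t) u) (fun x => by
        rw [mul_smul, ht, hs, map_sgn, hu, sgn_sgn, sgn_sgn]) (by rw [mul_assoc, hgf, ← mul_assoc, hge, mul_assoc])
  rcases hgen with h0 | h0
  · exact hprod n hnE c h0 r hr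
  · obtain ⟨u, hu⟩ := h.T_add F c w
    have h1 := hprod (n * g) (mul_mem hnE (hN ▸ hg : g ∈ h.pre F U).1) _ h0 (xor (xor r q) u) fun x => by
      rw [mul_smul, hq, hr, map_sgn, hu, sgn_sgn, sgn_sgn]
    exact mul_right_cancel (b := g) (by rw [h1, mul_assoc])

include F in
theorem code_nontrivial : Nontrivial M.Code := by
  by_contra hne
  rw [not_nontrivial_iff_subsingleton] at hne
  refine h.hEZ fun e he => ?_
  obtain ⟨c, s, hs⟩ := h.exists_code h3 F he
  exact h.mem_Z_of_code_zero h3 F he (Subsingleton.elim c 0 ▸ hs)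

include F in
theorem rank_one_absurd (hA : ¬3 ∣ Nat.card A) (hM : Nat.card M.Code ≤ 4) : False := by
  haveI := h.code_nontrivial h3 F
  have hne : (⊤ : AddSubgroup M.Code) ≠ ⊥ := fun h0 => by
    obtain ⟨c, hc⟩ := exists_ne (0 : M.Code)
    exact hc (AddSubgroup.mem_bot.1 (h0 ▸ AddSubgroup.mem_top c))
  have := h.no_small h3 F hA (U := ⊤) (fun _ _ _ => AddSubgroup.mem_top _) hne
  rw [AddSubgroup.card_top] at this
  omega

theorem irreducible (hA : ¬3 ∣ Nat.card A) (hM : Nat.card M.Code = 16 ∨ Nat.card M.Code = 64)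
    (U : AddSubgroup M.Code) (hU : ∀ g : A, ∀ c ∈ U, h.P F g c ∈ U) : U = ⊥ ∨ U = ⊤ := by
  by_cases hne : U = ⊥
  · exact Or.inl hne
  right
  obtain ⟨U', hU', hcard⟩ := h.complement_code h3 F hU
  have h4 := h.no_small h3 F hA hU hne
  by_cases hne' : U' = ⊥
  · refine AddSubgroup.eq_top_of_card_eq U ?_
    rw [← hcard, hne', AddSubgroup.card_bot, mul_one]
  have h4' := h.no_small h3 F hA hU' hne'
  have h8 := h.no_eight h3 F hU
  exfalso
  rcases hM with hM | hM <;> rw [hM] at hcard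
  · have := Nat.mul_le_mul (Nat.succ_le_of_lt h4) (Nat.succ_le_of_lt h4')
    omega
  · have hdvd : Nat.card U ∣ 2 ^ 6 := ⟨_, hcard.symm⟩
    obtain ⟨i, hi, he⟩ := (Nat.dvd_prime_pow Nat.prime_two).1 hdvd
    rw [he] at hcard h4 h8
    interval_cases i <;> omega

theorem absurd_plus2 (h2 : (2 : K) ≠ 0) (hA : ¬3 ∣ Nat.card A) [Group.IsSolvable A] (F : Frame h.L plus2) :
    False := by
  classical
  letI := h.codeAct F
  letI := quotAct (A := A) (V := plus2.Code)
  haveI : Group.IsSolvable (A ⧸ kerV A plus2.Code) :=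
    Group.isSolvable_of_surjective (f := QuotientGroup.mk' _) (QuotientGroup.mk'_surjective _)
  have hcard : Nat.card plus2.Code = 16 := by rw [Nat.card_eq_fintype_card]; decide +kernel
  have hinv : ∀ g : A, ∀ c ∈ negCodes, g • c ∈ negCodes := by
    intro g c hc
    simp only [negCodes, Finset.mem_filter, Finset.mem_univ, true_and] at hc ⊢
    show plus2.op (h.P F g c) (plus2.op (h.P F g c) plus2.pt) = _
    obtain ⟨u, hu⟩ := h.T_add F c c
    obtain ⟨u', hu'⟩ := h.T_add F (h.P F g c) (h.P F g c)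
    rw [plus2.code_two] at hu hu'
    have hpt : ∀ (d : plus2.Code) (v : Bool), (∀ x, F.T d (F.T d x) = sgn v (F.T 0 x)) →
        plus2.op d (plus2.op d plus2.pt) = sgn v plus2.pt := by
      intro d v hv
      refine F.inj ?_
      have := hv (F.φ plus2.pt)
      rw [F.act, F.act, F.one] at this
      rw [map_sgn]; exact this
    have hu1 : u = true := by
      by_contra hne
      rw [Bool.not_eq_true] at hne
      have h1 := (hpt c u hu).symm.trans hc
      rw [hne] at h1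
      exact plus2.pt_ne (plus2.eq_zero_of_neg h1)
    obtain ⟨s, hs⟩ := h.P_spec F g c
    have key : ∀ x, g • F.T c (F.T c x) = F.T (h.P F g c) (F.T (h.P F g c) (g • x)) := fun x => by
      rw [hs, hs, map_sgn, sgn_sgn, Bool.xor_self, sgn_false]
    obtain ⟨x, hx⟩ := exists_ne (0 : V)
    have h1 := key x
    rw [hu, hu', F.one, F.one, hu1, sgn_true, smul_neg] at h1
    cases u'
    · exfalso
      have h2e : g • x = -(g • x) := h1.symm
      have h3' := add_three h3 h2 (g • x)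
      have : g • x + g • x = 0 := by nth_rewrite 2 [h2e]; exact add_neg_cancel _
      rw [this, zero_add] at h3'
      exact hx ((smul_eq_zero_iff_eq g).1 h3')
    · exact hpt _ true hu'
  refine no_six (G := A ⧸ kerV A plus2.Code) quot_faithful (fun h' => hA (h'.trans (Subgroup.card_quotient_dvd_card _)))
    plus2.code_two ?_ hcard negCodes ?_ negCodes_zero negCodes_card
  · intro U hU
    exact h.irreducible h3 F hA (Or.inl hcard) U fun g c hc => hU (g : A ⧸ kerV A plus2.Code) c hc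
  · intro g c hc
    obtain ⟨g, rfl⟩ := QuotientGroup.mk_surjective g
    exact hinv g c hc

theorem base_rank3 (hA : ¬3 ∣ Nat.card A) [Group.IsSolvable A] {M : Model} (F : Frame h.L M)
    (hM : Nat.card M.Code = 64) {x y : M.Vec} (hx0 : x ≠ 0) (hne : ∀ c s, M.op c x = sgn s x → c = 0)
    (hres : ∀ g : V ≃+ V, Norm g h.L → g (F.φ x) = F.φ x → g (F.φ y) = F.φ y →
      ∃ S : M.Sym, (∀ p, F.φ (S.m p) = g (F.φ p)) ∧ (∀ c z, g (F.T c z) = sgn (S.ε c) (F.T (S.π c) (g z))) ∧
        (∀ c, S.π (S.π c) = c) ∧ (Finset.univ.image fun c => c + S.π c).card ≤ 4) : Base A V := by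
  classical
  letI := h.codeAct F
  letI := quotAct (A := A) (V := M.Code)
  haveI : Group.IsSolvable (A ⧸ kerV A M.Code) :=
    Group.isSolvable_of_surjective (f := QuotientGroup.mk' _) (QuotientGroup.mk'_surjective _)
  refine ⟨F.φ x, F.φ y, fun g hgx hgy => ?_⟩
  obtain ⟨S, -, hT, hinv, hdisp⟩ := hres _ (h.norm_smul g) hgx hgy
  have hP : ∀ c, h.P F g c = S.π c := fun c => h.P_eq F (hT c)
  have h1 : (g : A ⧸ kerV A M.Code) = 1 := by
    let f : M.Code →+ M.Code := AddMonoidHom.mk' (fun c => c + g • c) fun a b => by rw [smul_add]; abel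
    refine no_small_disp (G := A ⧸ kerV A M.Code) quot_faithful
      (fun h' => hA (h'.trans (Subgroup.card_quotient_dvd_card _))) M.code_two
      (fun U hU => h.irreducible h3 F hA (Or.inr hM) U fun g c hc => hU (g : A ⧸ kerV A M.Code) c hc) hM ?_
      f.range ?_ fun c => ⟨c, add_comm c _⟩
    · refine quot_faithful _ fun c => ?_
      rw [mul_smul]
      show g • g • c = c
      show h.P F g (h.P F g c) = c
      rw [hP, hP, hinv]
    · have e : (f.range : Set M.Code) = ↑(Finset.univ.image fun c => c + S.π c) := by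
        ext d
        simp only [AddMonoidHom.coe_range, Set.mem_range, Finset.coe_image, Finset.coe_univ, Set.image_univ]
        constructor <;> rintro ⟨c, rfl⟩
        · exact ⟨c, by show c + S.π c = c + h.P F g c; rw [hP]⟩
        · exact ⟨c, by show c + h.P F g c = c + S.π c; rw [hP]⟩
      have e2 : Nat.card f.range = (Finset.univ.image fun c => c + S.π c).card := by
        rw [← SetLike.coe_sort_coe, e, Nat.card_eq_fintype_card]
        exact Fintype.card_coe _
      rw [e2]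
      exact hdisp
  have hgE : g ∈ E := h.mem_E_of_trivial h3 F fun c => ((QuotientGroup.eq_one_iff g).1 h1) c
  obtain ⟨c, s, hs⟩ := h.exists_code h3 F hgE
  have h2 : M.op c x = sgn s x := by
    have h4 := hs (F.φ x)
    rw [hgx, F.act, ← map_sgn] at h4
    have h5 := congrArg (sgn s) (F.inj h4)
    rw [sgn_sgn, Bool.xor_self, sgn_false] at h5
    exact h5.symm
  obtain rfl := hne c s h2
  have hx0' : F.φ x ≠ 0 := fun h0 => hx0 (F.inj (h0.trans (map_zero _).symm))
  intro v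
  rw [h.eq_one_of_fix (h.mem_Z_of_code_zero h3 F hgE hs) hx0' hgx, one_smul]

end

end Ctx

/-- The quasi-primitive case over three elements. -/
theorem base_three [Finite A] [Finite V] [Nontrivial V] [Z.Normal] [Finite K] [Group.IsSolvable A]
    (h : Ctx V K Z E ι) (h3 : ∀ k : K, k = 0 ∨ k = 1 ∨ k = -1) (h2 : (2 : K) ≠ 0) (hA : ¬3 ∣ Nat.card A) :
    Base A V := by
  rcases exists_three h3 h2 (Nat.card V) h.L le_rfl h.layer with ⟨x, y, hG⟩ | hs
  · exact h.finish hG.2.2.2.2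
  rcases hs with ⟨⟨F⟩⟩ | ⟨⟨F⟩⟩ | ⟨⟨F⟩⟩ | ⟨⟨F⟩⟩ | ⟨⟨F⟩⟩ | ⟨⟨F⟩⟩ | ⟨⟨F⟩⟩
  · exact (h.rank_one_absurd h3 F hA (by rw [Nat.card_eq_fintype_card]; decide +kernel)).elim
  · exact (h.rank_one_absurd h3 F hA (by rw [Nat.card_eq_fintype_card]; decide +kernel)).elim
  · exact (h.rank_one_absurd h3 F hA (by rw [Nat.card_eq_fintype_card]; decide +kernel)).elim
  · exact (h.absurd_plus2 h3 h2 hA F).elim
  · exact h.finish (stab_minus2 h3 F).1
  · exact h.base_rank3 h3 hA F (by rw [Nat.card_eq_fintype_card]; decide +kernel) ne_p3.1 ne_p3.2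
      fun g hn hx hy => res_of_cert F ne_p3.1 checkp3.1 (Or.inl checkp3.2) resP hn hx hy
  · exact h.base_rank3 h3 hA F (by rw [Nat.card_eq_fintype_card]; decide +kernel) ne_m3.1 ne_m3.2
      fun g hn hx hy => res_of_cert F ne_m3.1 checkm3.1 (Or.inr checkm3.2) resM hn hx hy

end Cfsg.Agent.Solv.CopPair
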