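import Cfsg.Agent.Lib.Solv.CopPair.Layer

/-!
Pairs of vectors from pairs on the fixed space of a split.
-/

set_option autoImplicit false
set_option linter.unusedSectionVars false
set_option linter.style.haveILetI false
set_option maxHeartbeats 800000

namespace Cfsg.Agent.Solv.CopPair

universe u v

variable {K : Type u} [Field K] {V : Type v} [AddCommGroup V] [Module K V]

/-- The unscaled projection to an eigenvalue. -/
def proj (z : V ≃ₗ[K] V) (l : ℕ) (μ : K) (x : V) : V := ∑ i ∈ Finset.range l, (μ⁻¹) ^ i • (z ^ i) x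

theorem proj_add (z : V ≃ₗ[K] V) (l : ℕ) (μ : K) (x y : V) :
    proj z l μ (x + y) = proj z l μ x + proj z l μ y := by
  simp only [proj, map_add, smul_add, Finset.sum_add_distrib]

theorem proj_zero (z : V ≃ₗ[K] V) (l : ℕ) (μ : K) : proj z l μ 0 = 0 := by
  simp only [proj, map_zero, smul_zero, Finset.sum_const_zero]

theorem proj_self (z : V ≃ₗ[K] V) {l : ℕ} {μ : K} (hμ : μ ≠ 0) {y : V} (hy : z y = μ • y) :
    proj z l μ y = (l : K) • y := by
  rw [proj, Finset.sum_congr rfl fun i _ => by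
    rw [pow_apply_eigen z hy, smul_smul, ← mul_pow, inv_mul_cancel₀ hμ, one_pow, one_smul]]
  rw [Finset.sum_const, Finset.card_range, Nat.cast_smul_eq_nsmul]

theorem proj_other (z : V ≃ₗ[K] V) {l : ℕ} {μ ν : K} (hμ : μ ^ l = 1) (hν : ν ^ l = 1) (hne : ν ≠ μ)
    {y : V} (hy : z y = ν • y) : proj z l μ y = 0 := by
  rw [proj, Finset.sum_congr rfl fun i _ => by rw [pow_apply_eigen z hy, smul_smul, ← mul_pow],
    ← Finset.sum_smul]
  rcases Nat.eq_zero_or_pos l with rfl | hl
  · simp
  have hμ0 : μ ≠ 0 := fun h => by rw [h, zero_pow hl.ne'] at hμ; exact zero_ne_one hμ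
  have h1 : μ⁻¹ * ν ≠ 1 := fun h => hne ((inv_mul_eq_one₀ hμ0).1 h).symm
  have h2 := geom_sum_mul (μ⁻¹ * ν) l
  rw [mul_pow, inv_pow, hμ, hν, inv_one, one_mul, sub_self] at h2
  rw [(mul_eq_zero.1 h2).resolve_right (sub_ne_zero.2 h1), zero_smul]

/-- Two vectors for the whole space from two on the fixed space. -/
theorem Split.stab [Finite V] [Nontrivial V] {E : Subgroup (V ≃ₗ[K] V)} {z e : V ≃ₗ[K] V} {l : ℕ} {ω : K}
    (hs : Split E z e l ω) (hE : Layer E) {u w v : X0 z} (hu : u ≠ 0)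
    (hne : NE (sub0 E z) u) (hS : Stab (sub0 E z) u v)
    (hw2 : l = 2 → w = 0) (hw : l ≠ 2 → w ≠ 0) (hspan : ∃ a b : K, (w : V) = a • (u : V) + b • (v : V))
    (hswap : l = 3 → ∀ a ∈ E, a (u : V) = e (e (w : V)) → a (a (w : V)) = e (u : V) →
      a (a (a (u : V))) = e (e (e (u : V))) → False) :
    Stab E (u : V) ((v : V) + e (u : V) + e (e (w : V))) := by
  classical
  intro g hg hnorm hgu hgx
  haveI := hs.neZero
  have hu0 : (u : V) ≠ 0 := fun h => hu (Subtype.ext h)
  have hne0 : ∀ (a : V ≃ₗ[K] V) {x : V}, x ≠ 0 → a x ≠ 0 := fun a x hx h =>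
    hx (a.injective (h.trans (map_zero a).symm))
  -- the image of `z`
  obtain ⟨z', hz'E, hz'⟩ := hnorm z hs.hz
  have hz'u : z' (u : V) = u := by
    have := hz' (u : V)
    rw [mem_X0.1 u.2, hgu] at this
    exact this.symm
  have hz'C : z' ∈ cz E z := by
    obtain ⟨i, -, hi⟩ := hs.shift hE hz'E
    refine ⟨hz'E, fun x => ?_⟩
    have h1 := hi (u : V)
    rw [mem_X0.1 u.2, hz'u, mem_X0.1 u.2] at h1
    have h2 : ω ^ i = 1 := eq_smul_of_smul hu0 (by rw [one_smul]; exact h1.symm)
    rw [hi x, h2, one_smul]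
  have hz'0 : ∀ x, z x = x → z' x = x := by
    obtain ⟨c, hc⟩ := hne _ (mem_sub0 hz'C) 1 (Subtype.ext (by rw [one_smul]; exact hz'u))
    intro x hx
    have h1 : c = 1 := eq_smul_of_smul hu0 (by
      rw [one_smul]
      have := congrArg Subtype.val (hc u)
      rw [restr_apply] at this
      change z' (u : V) = _ at this
      rw [hz'u] at this
      exact this.symm)
    have := congrArg Subtype.val (hc ⟨x, hx⟩)
    rw [h1, one_smul] at this
    exact this
  obtain ⟨k, hkl, hk⟩ := hs.triv hE u.2 hu0 hz'C hz'0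
  have hgz : ∀ x, g (z x) = (z ^ k) (g x) := fun x => by rw [hz' x, hk]
  have hk0 : k ≠ 0 := by
    rintro rfl
    have h1 : e (u : V) = z (e (u : V)) := g.injective (by
      rw [hgz, pow_zero]; rfl)
    rw [hs.hze, mem_X0.1 u.2] at h1
    exact hs.ω_ne_one (eq_smul_of_smul (hne0 e hu0) (by rw [one_smul]; exact h1.symm))
  obtain ⟨m, hm⟩ : ∃ m, k * m ≡ 1 [MOD l] := by
    have hcop : k.Coprime l := ((hs.hl.coprime_iff_not_dvd).2 fun h => by
      have := Nat.le_of_dvd (Nat.pos_of_ne_zero hk0) h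
      omega).symm
    obtain ⟨m, -, hm⟩ := Nat.exists_mul_mod_eq_of_coprime 1 hcop hs.hl.ne_zero
    exact ⟨m, hm⟩
  have hzkm : ∀ x, ((z ^ k) ^ m) x = z x := by
    intro x
    rw [← pow_mul]
    conv_lhs => rw [← Nat.mod_add_div (k * m) l, pow_add, pow_mul]
    rw [show k * m % l = 1 from (show k * m % l = 1 % l from hm).trans (Nat.mod_eq_of_lt hs.hl.one_lt), pow_one]
    have : ∀ n y, ((z ^ l) ^ n) y = y := by
      intro n
      induction n with
      | zero => intro y; rfl
      | succ n ih =>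
        intro y
        rw [pow_succ']
        show (z ^ l) (((z ^ l) ^ n) y) = y
        rw [ih, hs.hzl]
    show z (((z ^ l) ^ _) x) = z x
    rw [this]
  have heig : ∀ {x : V} {ν : K}, z x = ν • x → ∀ ν' : K, (∀ y, g (ν • y) = ν' • g y) →
      z (g x) = ν' ^ m • g x := by
    intro x ν hx ν' hν'
    have h1 : (z ^ k) (g x) = ν' • g x := by rw [← hgz, hx, hν']
    rw [← hzkm (g x), pow_apply_eigen (z ^ k) h1]
  have hgX : ∀ x, z x = x → z (g x) = g x := by
    intro x hx
    have h1 : (z ^ k) (g x) = (1 : K) • g x := by rw [← hgz, hx, one_smul]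
    rw [← hzkm (g x), pow_apply_eigen (z ^ k) h1, one_pow, one_smul]
  -- the map on the fixed space
  let f0 : X0 z →+ X0 z :=
    { toFun := fun x => ⟨g x, hgX x x.2⟩
      map_zero' := Subtype.ext (map_zero g)
      map_add' := fun x y => Subtype.ext (map_add g (x : V) y) }
  let g0 : X0 z ≃+ X0 z := AddEquiv.ofBijective f0 (Finite.injective_iff_bijective.1 fun x y h =>
    Subtype.ext (g.injective (congrArg Subtype.val h)))
  have hg0 : ∀ x : X0 z, ((g0 x : X0 z) : V) = g x := fun x => rfl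
  obtain ⟨μ0, hμ0⟩ := hg ω
  obtain ⟨μ, hμ⟩ : ∃ μ, μ = μ0 ^ m := ⟨_, rfl⟩
  obtain ⟨A, hA⟩ : ∃ A, A = g (e (u : V)) := ⟨_, rfl⟩
  obtain ⟨B, hB⟩ : ∃ B, B = g (e (e (w : V))) := ⟨_, rfl⟩
  have he1 : z (e (u : V)) = ω • e (u : V) := by rw [hs.hze, mem_X0.1 u.2]
  have he2 : z (e (e (w : V))) = (ω * ω) • e (e (w : V)) :=
    hs.e_shift (x := e (w : V)) (by rw [hs.hze, mem_X0.1 w.2])
  have hA0 : A ≠ 0 := fun h => hne0 e hu0 (g.injective (by rw [← hA, h, map_zero]))
  have hAe : z A = μ • A := by rw [hA, hμ]; exact heig he1 μ0 hμ0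
  have hBe : z B = (μ * μ) • B := by
    rw [hB, hμ, ← mul_pow]
    exact heig he2 (μ0 * μ0) fun y => by rw [mul_smul ω ω, hμ0, hμ0, smul_smul]
  have hμl : μ ^ l = 1 := by
    refine eq_smul_of_smul hA0 ?_
    rw [← pow_apply_eigen z hAe, hs.hzl, one_smul]
  have hμ0' : μ ≠ 0 := fun h => by rw [h, zero_pow hs.hl.ne_zero] at hμl; exact zero_ne_one hμl
  have hμ1 : μ ≠ 1 := by
    intro h
    have h1 := hgz (e (u : V))
    rw [pow_apply_eigen z (μ := 1) (by rw [← hA, hAe, h]), one_pow, one_smul] at h1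
    have h2 := g.injective h1
    rw [he1] at h2
    exact hs.ω_ne_one (eq_smul_of_smul (hne0 e hu0) (by rw [one_smul]; exact h2))
  have hωl : ω ^ l = 1 := hs.root.pow_eq_one
  have hlK : (l : K) ≠ 0 := hs.root.neZero'.out
  have heq : g (v : V) + A + B = (v : V) + e (u : V) + e (e (w : V)) := by
    rw [hA, hB, ← map_add, ← map_add]; exact hgx
  have h1g : z (g (v : V)) = (1 : K) • g (v : V) := by rw [one_smul]; exact hgX _ v.2
  have h1v : z (v : V) = (1 : K) • (v : V) := by rw [one_smul]; exact v.2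
  have h2l : (μ * μ) ^ l = 1 := by rw [mul_pow, hμl, one_mul]
  have hω2l : (ω * ω) ^ l = 1 := by rw [mul_pow, hωl, one_mul]
  have hsq : ∀ c : K, c ≠ 1 → c ^ l = 1 → l ≠ 2 → c * c ≠ 1 := by
    intro c hc1 hcl hl2 h
    obtain ⟨t, ht⟩ := hs.hl.odd_of_ne_two hl2
    rw [ht, pow_succ, pow_mul, pow_two, h, one_pow, one_mul] at hcl
    exact hc1 hcl
  have hw0 : l = 2 → B = 0 ∧ e (e (w : V)) = 0 := fun h => by
    have h' : e (e (w : V)) = 0 := by rw [hw2 h]; simp
    exact ⟨by rw [hB, h', map_zero], h'⟩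
  have hsmul0 : ∀ {x y : V}, (l : K) • x = (l : K) • y → x = y := fun h =>
    smul_right_injective V hlK h
  -- the constant component
  have hgv : g (v : V) = v := by
    have h := congrArg (proj z l 1) heq
    rw [proj_add, proj_add, proj_add, proj_add, proj_self z one_ne_zero h1g,
      proj_other z (one_pow l) hμl hμ1 hAe, proj_self z one_ne_zero h1v,
      proj_other z (one_pow l) hωl hs.ω_ne_one he1] at h
    rcases eq_or_ne l 2 with h2 | h2
    · obtain ⟨hB0, hw0'⟩ := hw0 h2
      rw [hB0, hw0', proj_zero, add_zero, add_zero, add_zero, add_zero] at h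
      exact hsmul0 h
    · rw [proj_other z (one_pow l) h2l (hsq μ hμ1 hμl h2) hBe,
        proj_other z (one_pow l) hω2l (hsq ω hs.ω_ne_one hωl h2) he2, add_zero, add_zero, add_zero,
        add_zero] at h
      exact hsmul0 h
  obtain ⟨hlin0, hcom0⟩ := hS g0
    (fun c => by
      obtain ⟨c', hc'⟩ := hg c
      exact ⟨c', fun x => Subtype.ext (hc' x)⟩)
    (fun a ha => by
      obtain ⟨b, hb, hab⟩ := sub0_cases ha
      obtain ⟨b', hb'E, hb'⟩ := hnorm b hb.1
      obtain ⟨i, -, hi⟩ := hs.shift hE hb'E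
      have h1 := hb' (u : V)
      rw [hgu] at h1
      have h2 : z (g (b (u : V))) = g (b (u : V)) := hgX _ (by rw [hb.2, mem_X0.1 u.2])
      rw [h1, hi, mem_X0.1 u.2] at h2
      have h3 : ω ^ i = 1 := eq_smul_of_smul (hne0 b' hu0) (by rw [one_smul]; exact h2)
      have hb'C : b' ∈ cz E z := ⟨hb'E, fun x => by rw [hi, h3, one_smul]⟩
      refine ⟨_, mem_sub0 hb'C, fun x => Subtype.ext ?_⟩
      rw [hg0, hab, restr_apply]
      exact hb' x)
    (Subtype.ext hgu) (Subtype.ext hgv)
  have hlin : ∀ (c : K) x, g (c • x) = c • g x := by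
    intro c x
    obtain ⟨c', hc'⟩ := hg c
    have h1 : ((g0 (c • u) : X0 z) : V) = c • g (u : V) := by rw [hlin0]; rfl
    rw [hg0, Submodule.coe_smul, hc', hgu] at h1
    rw [hc', eq_smul_of_smul hu0 h1]
  have hgC0 : ∀ a ∈ cz E z, ∀ x, z x = x → g (a x) = a (g x) := fun a ha x hx =>
    congrArg Subtype.val (hcom0 _ (mem_sub0 ha) ⟨x, hx⟩)
  have hgw : g (w : V) = w := by
    obtain ⟨a, b, hab⟩ := hspan
    rw [hab, map_add, hlin, hlin, hgu, hgv]
  obtain ⟨e', he'E, he'⟩ := hnorm e hs.he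
  by_cases hμω : μ = ω
  swap
  · -- the exchanged components
    exfalso
    have hl2 : l ≠ 2 := by
      intro h
      subst h
      have e1 : μ = -1 := by
        rw [pow_two] at hμl
        exact (mul_self_eq_one_iff.1 hμl).resolve_left hμ1
      have e2 : ω = -1 := by
        rw [pow_two] at hωl
        exact (mul_self_eq_one_iff.1 hωl).resolve_left hs.ω_ne_one
      exact hμω (e1.trans e2.symm)
    have h := congrArg (proj z l ω) heq
    have h1ω : (1 : K) ≠ ω := fun h => hs.ω_ne_one h.symm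
    have hωω : ω * ω ≠ ω := fun h => hs.ω_ne_one
      (mul_left_cancel₀ hs.ω_ne_zero (by rw [mul_one]; exact h))
    rw [proj_add, proj_add, proj_add, proj_add, proj_other z hωl (one_pow l) h1ω h1g,
      proj_other z hωl hμl hμω hAe, proj_other z hωl (one_pow l) h1ω h1v,
      proj_self z hs.ω_ne_zero he1, proj_other z hωl hω2l hωω he2, zero_add, zero_add, add_zero] at h
    simp only [zero_add] at h
    by_cases hμ2 : μ * μ = ω
    swap
    · rw [proj_other z hωl h2l hμ2 hBe] at h
      exact hne0 e hu0 (hsmul0 (h.symm.trans (smul_zero _).symm))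
    rw [proj_self z hs.ω_ne_zero (hμ2 ▸ hBe)] at h
    have hBu : B = e (u : V) := hsmul0 h
    have h := congrArg (proj z l μ) heq
    have hμμ : μ * μ ≠ μ := fun h => hμ1 (mul_left_cancel₀ hμ0' (by rw [mul_one]; exact h))
    rw [proj_add, proj_add, proj_add, proj_add, proj_other z hμl (one_pow l) (Ne.symm hμ1) h1g,
      proj_self z hμ0' hAe, proj_other z hμl h2l hμμ hBe, proj_other z hμl (one_pow l) (Ne.symm hμ1) h1v,
      proj_other z hμl hωl (Ne.symm hμω) he1, zero_add, zero_add, add_zero] at h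
    simp only [zero_add] at h
    by_cases hω2 : ω * ω = μ
    swap
    · rw [proj_other z hμl hω2l hω2 he2] at h
      exact hA0 (hsmul0 (h.trans (smul_zero _).symm))
    rw [proj_self z hμ0' (hω2 ▸ he2)] at h
    have hAw : A = e (e (w : V)) := hsmul0 h
    have hl3 : l = 3 := by
      have h3 : ω ^ 3 = 1 := by
        refine mul_left_cancel₀ hs.ω_ne_zero ?_
        rw [mul_one]
        conv_rhs => rw [← hμ2, ← hω2]
        ring
      exact (Nat.prime_dvd_prime_iff_eq hs.hl Nat.prime_three).1 (hs.root.dvd_of_pow_eq_one 3 h3)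
    refine hswap hl3 e' he'E ?_ ?_ ?_
    · rw [← hAw, hA, he', hgu]
    · rw [← hBu, hB, he', he', hgw]
    · subst hl3
      have h3 : (e ^ 3) (u : V) = e (e (e (u : V))) := rfl
      have h4 := hgC0 _ hs.pow_e_cz _ u.2
      rw [hgu, h3, he', he', he', hgu] at h4
      exact h4
  subst hμω
  -- the components are fixed
  have hAu : A = e (u : V) := by
    have h := congrArg (proj z l μ) heq
    have h1ω' : (1 : K) ≠ μ := fun h => hμ1 h.symm
    have hμω' : μ * μ ≠ μ := fun h => hμ1 (mul_left_cancel₀ hμ0' (by rw [mul_one]; exact h))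
    rw [proj_add, proj_add, proj_add, proj_add, proj_other z hμl (one_pow l) h1ω' h1g,
      proj_self z hμ0' hAe, proj_other z hμl h2l hμω' hBe, proj_other z hμl (one_pow l) h1ω' h1v,
      proj_self z hμ0' he1, proj_other z hμl h2l hμω' he2, zero_add, zero_add, add_zero, add_zero] at h
    exact hsmul0 h
  have hBw : B = e (e (w : V)) := by
    rw [hgv, hAu] at heq
    exact add_left_cancel heq
  -- `g` commutes with `z`
  have hk1 : k = 1 := by
    have h1 := hgz (e (u : V))
    rw [← hA, hAu, pow_apply_eigen z he1, he1, hlin, ← hA, hAu] at h1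
    have h2 := eq_smul_of_smul (hne0 e hu0) h1
    exact (hs.root.pow_inj hs.hl.one_lt hkl (by rw [pow_one]; exact h2)).symm
  subst hk1
  have hgz' : ∀ (j : ℕ) x, g ((z ^ j) x) = (z ^ j) (g x) := by
    intro j
    induction j with
    | zero => intro x; rfl
    | succ j ih =>
      intro x
      rw [pow_succ']
      show g (z ((z ^ j) x)) = z ((z ^ j) (g x))
      rw [hgz, pow_one, ih]
  -- the image of `e`
  have hf0 : ∃ b ∈ cz E z, e' = e * b := by
    obtain ⟨i, -, hi⟩ := hs.shift hE he'E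
    have h1 : e' (u : V) = e (u : V) := by rw [← hAu, hA, he', hgu]
    have h2 := hi (u : V)
    rw [mem_X0.1 u.2, h1, he1] at h2
    have h3 : μ ^ i = μ := eq_smul_of_smul (hne0 e hu0) h2.symm
    refine ⟨e⁻¹ * e', ⟨mul_mem (inv_mem hs.he) he'E, fun x => ?_⟩, by rw [mul_inv_cancel_left]⟩
    refine e.injective ?_
    refine smul_right_injective V hs.ω_ne_zero ?_
    show μ • e (z (e.symm (e' x))) = μ • e (e.symm (e' (z x)))
    rw [← hs.hze, LinearEquiv.apply_symm_apply, LinearEquiv.apply_symm_apply, hi, h3]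
  obtain ⟨b, hbC, hb⟩ := hf0
  have hb0 : ∀ x, z x = x → b x = x := by
    have hbu : b (u : V) = u := by
      refine e.injective ?_
      show (e * b) (u : V) = e (u : V)
      rw [← hb, ← hAu, hA, he', hgu]
    obtain ⟨c, hc⟩ := hne _ (mem_sub0 hbC) 1 (Subtype.ext (by rw [one_smul]; exact hbu))
    intro x hx
    have h1 : c = 1 := eq_smul_of_smul hu0 (by
      rw [one_smul]
      have := congrArg Subtype.val (hc u)
      rw [restr_apply] at this
      change b (u : V) = _ at this
      rw [hbu] at this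
      exact this.symm)
    have := congrArg Subtype.val (hc ⟨x, hx⟩)
    rw [h1, one_smul] at this
    exact this
  obtain ⟨j, hjl, hj⟩ := hs.triv hE u.2 hu0 hbC hb0
  have hge : ∀ x, g (e x) = e ((z ^ j) (g x)) := fun x => by
    rw [he', hb]
    show e (b (g x)) = _
    rw [hj]
  -- `g` commutes with the centraliser of `z`
  have hgC : ∀ a ∈ cz E z, ∀ x, g (a x) = a (g x) := by
    intro a ha
    obtain ⟨a', ha'E, ha'⟩ := hnorm a ha.1
    have hfC : a⁻¹ * a' ∈ cz E z := by
      refine (cz E z).mul_mem ((cz E z).inv_mem ha) ⟨ha'E, fun x => ?_⟩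
      obtain ⟨y, rfl⟩ := g.surjective x
      rw [← ha']
      have h1 : z (g (a y)) = g (z (a y)) := by rw [hgz, pow_one]
      rw [h1, ha.2, ha', hgz, pow_one]
    obtain ⟨i, hi, hia⟩ := hs.triv hE u.2 hu0 hfC fun x hx => by
      obtain ⟨y, hy⟩ := g0.surjective ⟨x, hx⟩
      have hy' : g (y : V) = x := congrArg Subtype.val hy
      refine a.injective ?_
      show a (a.symm (a' x)) = a x
      rw [LinearEquiv.apply_symm_apply, ← hy', ← ha', hgC0 a ha _ y.2]
    have hga : ∀ x, g (a x) = a ((z ^ i) (g x)) := fun x => by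
      rw [← hia]
      show g (a x) = a (a.symm (a' (g x)))
      rw [LinearEquiv.apply_symm_apply, ha']
    obtain ⟨c, hc⟩ := hE.comm a ha.1 e hs.he
    have h1 := congrArg g (hc (u : V))
    rw [hga, hge, hlin, hge, hga, hgu] at h1
    have hzu : ∀ n, (z ^ n) (u : V) = u := fun n => by
      rw [pow_apply_eigen z (μ := 1) (by rw [one_smul]; exact u.2), one_pow, one_smul]
    rw [hzu, hzu, pow_comm_scal hs.hze, hzu, map_smul, Split.pow_z_comm_cz ha, hzu, ← hc] at h1
    have hzi : μ ^ i = 1 := eq_smul_of_smul (hne0 a (hne0 e hu0)) (by rw [one_smul]; exact h1)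
    have hi0 : i = 0 := hs.root.pow_inj hi hs.hl.pos (by rw [pow_zero]; exact hzi)
    intro x
    rw [hga, hi0]
    rfl
  have hj0 : j = 0 := by
    refine hs.root.pow_inj hjl hs.hl.pos ?_
    rw [pow_zero]
    rcases eq_or_ne l 2 with h2 | h2
    · subst h2
      have h2C : e ^ 2 ∈ cz E z := hs.pow_e_cz
      have h3 := hgC _ h2C (u : V)
      rw [hgu] at h3
      have h4 : (e ^ 2) (u : V) = e (e (u : V)) := rfl
      rw [h4, hge, hge, hgu, pow_apply_eigen z (x := (u : V)) (μ := 1) (by rw [one_smul]; exact u.2), one_pow, one_smul,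
        pow_apply_eigen z he1, map_smul] at h3
      exact eq_smul_of_smul (hne0 e (hne0 e hu0)) (by rw [one_smul]; exact h3)
    · have h3 : g (e (e (w : V))) = e (e (w : V)) := by rw [← hB, hBw]
      rw [hge, hge, hgw, pow_apply_eigen z (x := (w : V)) (μ := 1) (by rw [one_smul]; exact w.2), one_pow, one_smul,
        pow_apply_eigen z (show z (e (w : V)) = μ • e (w : V) by rw [hs.hze, mem_X0.1 w.2]), map_smul] at h3
      exact eq_smul_of_smul (hne0 e (hne0 e fun h => hw h2 (Subtype.ext h)))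
        (by rw [one_smul]; exact h3)
  have hgei : ∀ (i : ℕ) x, g ((e ^ i) x) = (e ^ i) (g x) := by
    intro i
    induction i with
    | zero => intro x; rfl
    | succ i ih =>
      intro x
      rw [pow_succ']
      show g (e ((e ^ i) x)) = e ((e ^ i) (g x))
      rw [hge, hj0, ih]
      rfl
  refine ⟨hlin, fun a ha x => ?_⟩
  obtain ⟨i, -, b, hb, rfl⟩ := hs.decomp hE ha
  show g ((e ^ i) (b x)) = (e ^ i) (b (g x))
  rw [hgei, hgC b hb]

end Cfsg.Agent.Solv.CopPair
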